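import Cfsg.Agent.Lib.Forms.SpSpec2

/-!
Orders of symplectic and unitary groups.
-/

set_option autoImplicit false

namespace Cfsg.Agent.Forms

open Module

universe u

variable {F : Type*} [Field F] {P : Param F} {V W : Type*} [AddCommGroup V] [Module F V]
  [AddCommGroup W] [Module F W]

theorem card_fiber_dual [Finite F] [FiniteDimensional F V] (ℓ : V →ₗ[F] F) (h : ℓ ≠ 0) (c : F) :
    Nat.card {e // ℓ e = c} = Nat.card F ^ (finrank F V - 1) := by
  obtain ⟨e, he⟩ := LinearMap.surjective h c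
  have h1 : finrank F (LinearMap.ker ℓ) = finrank F V - 1 := by
    have := Module.Dual.finrank_ker_add_one_of_ne_zero h
    omega
  rw [← h1, ← Module.natCard_eq_pow_finrank]
  exact Nat.card_congr ⟨fun x => ⟨x - e, by simp [x.2, he]⟩, fun x => ⟨x + e, by
    simp [LinearMap.mem_ker.1 x.2, he]⟩, fun x => by simp, fun x => by simp⟩

namespace Form

variable [FiniteDimensional F V] {f : Form P V}

theorem Nondeg.eq_glueHom (hf : f.Nondeg) {g : Form P W} (hg : g.Nondeg) (φ : W →ₗ[F] V)
    (h : IsIsom g f φ) (a : f.Isom) (b : g.Isom) (hab : ∀ w, a.1 (φ w) = φ (b.1 w)) :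
    ∃ c, a = hf.glueHom hg φ h (b, c) := by
  refine ⟨Isom.restrict a _ (Isom.orth_invariant a ?_), Isom.ext fun v => ?_⟩
  · rintro _ ⟨w, rfl⟩
    exact ⟨_, (hab w).symm⟩
  obtain ⟨w, x, hx, rfl⟩ := hf.exists_decomp_range (h.comap_nondeg hg) v
  rw [hf.glueHom_apply hg φ h _ w ⟨x, hx⟩, map_add, hab, Isom.restrict_apply]

theorem Nondeg.card_isom_split [FiniteDimensional F W] (hf : f.Nondeg) {g : Form P W}
    (hg : g.Nondeg) (φ : W →ₗ[F] V) (h : IsIsom g f φ) :
    Nat.card f.Isom = Nat.card {ψ : W →ₗ[F] V // IsIsom g f ψ} *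
      Nat.card (f.restrict (f.orth (LinearMap.range φ))).Isom := by
  letI : MulAction f.Isom {ψ : W →ₗ[F] V // IsIsom g f ψ} :=
    { smul := fun a ψ => ⟨(a.1 : V →ₗ[F] V) ∘ₗ ψ.1, fun x y => (Isom.map_B a _ _).trans
        (ψ.2.map_B x y), fun x => (Isom.map_Q a _).trans (ψ.2.map_Q x)⟩
      one_smul := fun _ => rfl
      mul_smul := fun _ _ _ => rfl }
  haveI : MulAction.IsPretransitive f.Isom {ψ : W →ₗ[F] V // IsIsom g f ψ} := ⟨fun x y => by
    obtain ⟨a, ha⟩ := hf.witt_maps x.1 y.1 (x.2.injective hg) (y.2.injective hg)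
      (fun u v => by rw [x.2.map_B, y.2.map_B]) (fun u => by rw [x.2.map_Q, y.2.map_Q])
    exact ⟨a, Subtype.ext (LinearMap.ext ha)⟩⟩
  let x : {ψ : W →ₗ[F] V // IsIsom g f ψ} := ⟨φ, h⟩
  have h1 : MulAction.stabilizer f.Isom x = ((hf.glueHom hg φ h).comp (MonoidHom.inr _ _)).range := by
    ext a
    constructor
    · intro ha
      obtain ⟨c, hc⟩ := hf.eq_glueHom hg φ h a 1 fun w => LinearMap.congr_fun (congrArg Subtype.val ha) w
      exact ⟨c, hc.symm⟩
    · rintro ⟨c, rfl⟩
      exact Subtype.ext (LinearMap.ext fun w => hf.glueHom_apply_left hg φ h _ w)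
  rw [← (MulAction.stabilizer f.Isom x).index_mul_card, MulAction.index_stabilizer_of_transitive, h1]
  congr 1
  exact (Nat.card_congr (MonoidHom.ofInjective
    (f := (hf.glueHom hg φ h).comp (MonoidHom.inr _ _)) fun a b e =>
    congrArg Prod.snd (hf.glueHom_injective hg φ h e)).toEquiv).symm

omit [FiniteDimensional F V] in
theorem card_embed_hyp (f : Form P V) : Nat.card {ψ : F × F →ₗ[F] V // IsIsom (hyp P) f ψ} =
    Nat.card {x : V × V // f.HypPair x.1 x.2} :=
  Nat.card_congr
    { toFun := fun ψ => ⟨(ψ.1 (1, 0), ψ.1 (0, 1)), (ψ.2.map_Q _).trans hyp_hypPair.Qu,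
        (ψ.2.map_Q _).trans hyp_hypPair.Qe, (ψ.2.map_B _ _).trans hyp_hypPair.Bue⟩
      invFun := fun x => ⟨pairMap F x.1.1 x.1.2, x.2.isIsom_pairMap⟩
      left_inv := fun ψ => Subtype.ext (LinearMap.ext fun x => by
        rw [pairMap_apply, ← map_smul, ← map_smul, ← map_add]; simp)
      right_inv := fun x => Subtype.ext (by simp [pairMap_apply]) }

theorem Nondeg.card_sp_hypPair [Finite F] {f : Form (Param.sp F) V} (hf : f.Nondeg) :
    Nat.card {x : V × V // f.HypPair x.1 x.2} =
      (Nat.card F ^ finrank F V - 1) * Nat.card F ^ (finrank F V - 1) := by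
  haveI := Module.finite_of_finite F (M := V)
  haveI := Fintype.ofFinite {u : V // u ≠ 0}
  have e : {x : V × V // f.HypPair x.1 x.2} ≃ Σ u : {u : V // u ≠ 0}, {e // f.B u e = 1} :=
    { toFun := fun x => ⟨⟨x.1.1, x.2.u_ne_zero⟩, x.1.2, x.2.Bue⟩
      invFun := fun x => ⟨(x.1.1, x.2.1), f.sp_Q _, f.sp_Q _, x.2.2⟩
      left_inv := fun _ => rfl
      right_inv := fun _ => rfl }
  rw [Nat.card_congr e, Nat.card_sigma, Finset.sum_congr rfl (g := fun _ =>
    Nat.card F ^ (finrank F V - 1)), Finset.sum_const, Finset.card_univ, smul_eq_mul,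
    ← Nat.card_eq_fintype_card, Nat.card_eq_fintype_card, ← Module.natCard_eq_pow_finrank]
  · haveI := Fintype.ofFinite V
    classical
    simp
  · intro u _
    refine card_fiber_dual (f.B u) (fun h => ?_) 1
    obtain ⟨y, hy⟩ := hf.exists_ne_zero u.2
    exact hy (LinearMap.congr_fun h y)

theorem card_isom_of_finrank_zero (f : Form P V) (h : finrank F V = 0) : Nat.card f.Isom = 1 := by
  haveI := Module.finrank_zero_iff.1 h
  haveI : Subsingleton f.Isom := ⟨fun a b => Isom.ext fun x => Subsingleton.elim _ _⟩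
  exact Nat.card_unique

omit [FiniteDimensional F V] in
theorem card_sp_aux [Finite F] (n : ℕ) : ∀ (V : Type u) [AddCommGroup V] [Module F V]
    [FiniteDimensional F V] (f : Form (Param.sp F) V), f.Nondeg → finrank F V = 2 * n →
    Nat.card f.Isom = Nat.card F ^ n ^ 2 * ∏ i ∈ Finset.range n, (Nat.card F ^ (2 * (i + 1)) - 1) := by
  induction n with
  | zero => intro V _ _ _ f _ h; simpa using f.card_isom_of_finrank_zero h
  | succ n ih =>
    intro V _ _ _ f hf h
    obtain ⟨φ, hφ⟩ := hf.sp_embed hyp_nondeg (by simp [h])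
    have h1 := hf.finrank_orth_range (hφ.comap_nondeg hyp_nondeg)
    rw [hf.card_isom_split hyp_nondeg φ hφ, card_embed_hyp, hf.card_sp_hypPair,
      ih _ _ (hf.restrict_orth_range (hφ.comap_nondeg hyp_nondeg)) (by simp at h1; omega), h,
      Finset.prod_range_succ, show 2 * (n + 1) - 1 = 2 * n + 1 by omega]
    ring

theorem Nondeg.card_sp [Finite F] {f : Form (Param.sp F) V} (hf : f.Nondeg) {n : ℕ}
    (h : finrank F V = 2 * n) :
    Nat.card f.Isom = Nat.card F ^ n ^ 2 * ∏ i ∈ Finset.range n, (Nat.card F ^ (2 * (i + 1)) - 1) :=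
  card_sp_aux n V f hf h

end Form

theorem card_symplecticGroup [Finite F] (n : ℕ) : Nat.card (Matrix.symplecticGroup (Fin n) F) =
    Nat.card F ^ n ^ 2 * ∏ i ∈ Finset.range n, (Nat.card F ^ (2 * (i + 1)) - 1) := by
  rw [Nat.card_congr (spEquiv n F).toEquiv]
  exact (spForm_nondeg n).card_sp (by simp [two_mul])

/-! ### unitary counts -/

section unitary

variable [Fintype F] {q : ℕ} (hF : Fintype.card F = q ^ 2)

theorem card_norm_one : Nat.card {x : F // x * frobq hF x = 1} = q + 1 := by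
  have h1 := IsCyclic.card_powMonoidHom_ker Fˣ (q + 1)
  have h2 : Nat.card Fˣ = (q + 1) * (q - 1) := by
    rw [Nat.card_units, Nat.card_eq_fintype_card, hF, ← Nat.sq_sub_sq, one_pow]
  rw [h2, Nat.gcd_mul_right_left] at h1
  rw [← h1]
  exact Nat.card_congr
    { toFun := fun x => ⟨Units.mk0 x.1 (left_ne_zero_of_mul_eq_one x.2), Units.ext (by
        simpa [frobq_apply, pow_succ'] using x.2)⟩
      invFun := fun x => ⟨x.1.1, by
        simpa [frobq_apply, pow_succ'] using congrArg Units.val (MonoidHom.mem_ker.1 x.2)⟩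
      left_inv := fun _ => rfl
      right_inv := fun _ => by simp }

variable {hF}

theorem Form.card_B_eq_of_fixed (f : Form (uP hF) V) {c : F} (hc : frobq hF c = c) (h0 : c ≠ 0) :
    Nat.card {v // f.B v v = c} = Nat.card {v // f.B v v = 1} := by
  obtain ⟨a, rfl⟩ := exists_norm_eq hF hc
  have ha := left_ne_zero_of_mul h0
  have ha' := right_ne_zero_of_mul h0
  exact Nat.card_congr
    { toFun := fun v => ⟨a⁻¹ • v.1, by
        rw [f.B_smul_left, f.unit_B_smul_right, v.2, map_inv₀]; field_simp⟩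
      invFun := fun v => ⟨a • v.1, by rw [f.B_smul_left, f.unit_B_smul_right, v.2, mul_one]⟩
      left_inv := fun v => by simp [ha]
      right_inv := fun v => by simp [ha] }

theorem Form.Iso.card_B_eq {f : Form P V} {g : Form P W} (i : Form.Iso f g) (c : F) :
    Nat.card {v // f.B v v = c} = Nat.card {v // g.B v v = c} :=
  Nat.card_congr (i.e.toEquiv.subtypeEquiv fun v => by simp [i.isom.map_B])

theorem Form.unit_B_self_fixed (f : Form (uP hF) V) (v : V) : frobq hF (f.B v v) = f.B v v :=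
  (f.unit_symm v v).symm

variable (hF) in
theorem card_uForm_succ (n : ℕ) (c : F) (hc : frobq hF c = c) :
    Nat.card {v // (uForm (n + 1) hF).B v v = c} =
      Nat.card {x : F // x * frobq hF x = c} * Nat.card {v // (uForm n hF).B v v = 0} +
      (q ^ 2 - Nat.card {x : F // x * frobq hF x = c}) * Nat.card {v // (uForm n hF).B v v = 1} := by
  classical
  have e : {v // (uForm (n + 1) hF).B v v = c} ≃
      Σ x : F, {v // (uForm n hF).B v v = c - x * frobq hF x} :=
    { toFun := fun v => ⟨v.1 0, Fin.tail v.1, by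
        have := v.2
        rw [uForm_B', Fin.sum_univ_succ] at this
        rw [uForm_B', eq_sub_iff_add_eq']; exact this⟩
      invFun := fun x => ⟨Fin.cons x.1 x.2.1, by
        have := x.2.2
        rw [uForm_B'] at this
        rw [uForm_B', Fin.sum_univ_succ]; simp [this]⟩
      left_inv := fun v => by simp
      right_inv := fun x => rfl }
  rw [Nat.card_congr e, Nat.card_sigma, Finset.sum_congr rfl (g := fun x =>
    if x * frobq hF x = c then Nat.card {v // (uForm n hF).B v v = 0}
    else Nat.card {v // (uForm n hF).B v v = 1}), Finset.sum_ite, Finset.sum_const, Finset.sum_const,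
    Finset.filter_not, Finset.card_sdiff_of_subset (Finset.filter_subset _ _),
    Finset.card_univ, hF, Nat.card_eq_fintype_card (α := {x : F // _}), Fintype.card_subtype]
  · rfl
  intro x _
  split_ifs with h
  · rw [h, sub_self]
  · exact Form.card_B_eq_of_fixed _ (by rw [map_sub, map_mul, hc, frobq_frobq, mul_comm])
      (sub_ne_zero.2 (Ne.symm h))

variable (hF) in
theorem card_uForm (n : ℕ) :
    (q : ℤ) * Nat.card {v // (uForm n hF).B v v = 1} = q ^ n * (q ^ n - (-1) ^ n) ∧
    (q : ℤ) * Nat.card {v // (uForm n hF).B v v = 0} = q ^ (2 * n) + (-1) ^ n * q ^ n * (q - 1) := by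
  induction n with
  | zero => simp [uForm_B']
  | succ n ih =>
    have h0 : Nat.card {x : F // x * frobq hF x = 0} = 1 := by simp
    have hq := two_le_q hF
    rw [card_uForm_succ hF n 1 (map_one _), card_uForm_succ hF n 0 (map_zero _), card_norm_one, h0]
    push_cast [show q + 1 ≤ q ^ 2 by nlinarith, show 1 ≤ q ^ 2 by nlinarith]
    constructor
    · linear_combination (q + 1) * ih.2 + ((q : ℤ) ^ 2 - (q + 1)) * ih.1
    · linear_combination ih.2 + ((q : ℤ) ^ 2 - 1) * ih.1

variable [FiniteDimensional F V] {f : Form (uP hF) V}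

theorem Form.Nondeg.card_unit_B (hf : f.Nondeg) {n : ℕ} (h : finrank F V = n) :
    (q : ℤ) * Nat.card {v // f.B v v = 1} = q ^ n * (q ^ n - (-1) ^ n) ∧
    (q : ℤ) * Nat.card {v // f.B v v = 0} = q ^ (2 * n) + (-1) ^ n * q ^ n * (q - 1) := by
  obtain ⟨i⟩ := hf.unit_iso (uForm_nondeg n hF) (by simpa)
  rw [i.card_B_eq, i.card_B_eq]
  exact card_uForm hF n

theorem Form.Nondeg.card_isom_unit_succ (hf : f.Nondeg) {v : V} (hv : f.B v v = 1) :
    Nat.card f.Isom = Nat.card {v // f.B v v = 1} * Nat.card (f.restrict (f.orth (F ∙ v))).Isom := by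
  have h0 : f.B v v ≠ 0 := hv ▸ one_ne_zero
  rw [hf.card_isom_split (f.comap_toSpanSingleton_nondeg h0) _ (f.isIsom_comap _),
    LinearMap.range_toSpanSingleton]
  congr 1
  exact Nat.card_congr
    { toFun := fun ψ => ⟨ψ.1 1, by rw [ψ.2.map_B]; simpa⟩
      invFun := fun w => ⟨LinearMap.toSpanSingleton F V w.1, Form.isIsom_toSpanSingleton
        (w.2.trans hv.symm) (by rw [f.unit_Q, f.unit_Q, w.2, hv])⟩
      left_inv := fun ψ => Subtype.ext (LinearMap.ext_ring (by simp))
      right_inv := fun w => by simp }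

omit [FiniteDimensional F V] in
theorem card_gu_aux (n : ℕ) : ∀ (V : Type u) [AddCommGroup V] [Module F V]
    [FiniteDimensional F V] (f : Form (uP hF) V), f.Nondeg → finrank F V = n →
    (Nat.card f.Isom : ℤ) = ∏ i ∈ Finset.range n, (q : ℤ) ^ i * (q ^ (i + 1) - (-1) ^ (i + 1)) := by
  induction n with
  | zero => intro V _ _ _ f _ h; simpa using f.card_isom_of_finrank_zero h
  | succ n ih =>
    intro V _ _ _ f hf h
    haveI := Module.nontrivial_of_finrank_eq_succ h
    obtain ⟨v, hv⟩ := hf.unit_exists_B_eq (map_one _) one_ne_zero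
    have h0 : f.B v v ≠ 0 := hv ▸ one_ne_zero
    have h1 := hf.finrank_orth_singleton (v := v) (by rintro rfl; simp at h0)
    rw [hf.card_isom_unit_succ hv, Nat.cast_mul, ih _ _ (hf.restrict_orth_singleton h0) (by omega),
      Finset.prod_range_succ, mul_comm]
    congr 1
    have hq : (q : ℤ) ≠ 0 := by have := two_le_q hF; omega
    refine mul_left_cancel₀ hq ?_
    rw [(hf.card_unit_B h).1]; ring

theorem Form.Nondeg.card_gu (hf : f.Nondeg) {n : ℕ} (h : finrank F V = n) :
    (Nat.card f.Isom : ℤ) = ∏ i ∈ Finset.range n, (q : ℤ) ^ i * (q ^ (i + 1) - (-1) ^ (i + 1)) :=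
  card_gu_aux n V f hf h

end unitary

end Cfsg.Agent.Forms
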