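import Cfsg.Agent.Lib.Forms.SSConj

/-!
Tools for counting semisimple classes.
-/

set_option autoImplicit false

namespace Cfsg.Agent.Forms

open Polynomial

theorem card_classes_eq {G Y X : Type*} [Group G] (Q : G → Prop) (Φ : G → Y)
    (h1 : ∀ g h, IsConj g h → Φ g = Φ h) (h2 : ∀ g h, Q g → Q h → Φ g = Φ h → IsConj g h)
    (Ψ : X → Y) (hΨ : Function.Injective Ψ) (h3 : ∀ y, (∃ g, Q g ∧ Φ g = y) ↔ ∃ x, Ψ x = y) :
    Nat.card {c : ConjClasses G // ∃ g, ConjClasses.mk g = c ∧ Q g} = Nat.card X := by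
  rw [Nat.card_congr (Equiv.ofInjective Ψ hΨ)]
  refine Nat.card_eq_of_bijective (fun c => ⟨Φ c.2.choose, (h3 _).1 ⟨_, c.2.choose_spec.2, rfl⟩⟩)
    ⟨fun c d h => Subtype.ext ?_, fun y => ?_⟩
  · rw [← c.2.choose_spec.1, ← d.2.choose_spec.1, ConjClasses.mk_eq_mk_iff_isConj]
    exact h2 _ _ c.2.choose_spec.2 d.2.choose_spec.2 (congrArg Subtype.val h)
  · obtain ⟨g, hg, e⟩ := (h3 y).2 y.2
    have hc : ∃ g', ConjClasses.mk g' = ConjClasses.mk g ∧ Q g' := ⟨g, rfl, hg⟩
    exact ⟨⟨_, hc⟩, Subtype.ext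
      ((h1 _ _ (ConjClasses.mk_eq_mk_iff_isConj.1 hc.choose_spec.1)).trans e)⟩

variable {F : Type*} [Field F]

theorem map_eq_prod_aroots {h : F[X]} (hm : h.Monic) :
    h.map (algebraMap F (Kc F)) = ((h.aroots (Kc F)).map fun α => X - C α).prod :=
  (IsAlgClosed.splits _).eq_prod_roots_of_monic (hm.map _)

theorem eq_of_aroots_eq {h k : F[X]} (hm : h.Monic) (hk : k.Monic)
    (e : h.aroots (Kc F) = k.aroots (Kc F)) : h = k :=
  map_injective _ (algebraMap F (Kc F)).injective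
    (by rw [map_eq_prod_aroots hm, map_eq_prod_aroots hk, e])

theorem card_aroots (h : F[X]) : (h.aroots (Kc F)).card = h.natDegree :=
  IsAlgClosed.card_aroots_eq_natDegree

theorem aroots_map_pow_card [Fintype F] {h : F[X]} (hm : h.Monic) :
    (h.aroots (Kc F)).map (· ^ Fintype.card F) = h.aroots (Kc F) := by
  have := hm.finite_adjoinRoot
  rw [← ev_rootMul hm, ev_map_pow_card]

theorem Form.Isom.ev_eq_of_isConj {P : Param F} {V : Type*} [AddCommGroup V] [Module F V]
    [FiniteDimensional F V] {f : Form P V} {g h : f.Isom} (e : IsConj g h) :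
    Form.Isom.ev g = Form.Isom.ev h := by
  obtain ⟨c, rfl⟩ := isConj_iff.1 e
  exact ev_eq_of_comm c.1 fun v => by simp

theorem reflect_prod {K : Type*} [Field K] (R : Multiset K) (h : 0 ∉ R) :
    reflect R.card (R.map fun α => X - C α).prod =
      C ((-1) ^ R.card * R.prod) * ((R.map (·⁻¹)).map fun α => X - C α).prod := by
  induction R using Multiset.induction_on with
  | empty => simp
  | cons a R ih =>
    have ha : a ≠ 0 := fun e => h (e ▸ Multiset.mem_cons_self _ _)
    rw [Multiset.map_cons, Multiset.prod_cons, Multiset.card_cons, add_comm,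
      reflect_mul _ _ (natDegree_X_sub_C_le a) (natDegree_multiset_prod_X_sub_C_eq_card R).le,
      ih fun e => h (Multiset.mem_cons_of_mem e)]
    have : reflect 1 (X - C a) = C (-a) * (X - C a⁻¹) := by
      rw [mul_sub, ← C_mul, neg_mul, mul_inv_cancel₀ ha]
      simp; ring
    rw [this]
    simp only [Multiset.map_cons, Multiset.prod_cons, map_mul, map_pow, map_neg, map_one]
    ring

theorem card_fixed_sq {W : Type*} [AddCommGroup W] [Module F W] (σ : F →+* F) {ω : F}
    (hω : σ ω ≠ ω) (hσ : ∀ a, σ (σ a) = a) (τ : W →+ W) (h1 : ∀ (a : F) w, τ (a • w) = σ a • τ w)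
    (h2 : ∀ w, τ (τ w) = w) : Nat.card {w // τ w = w} ^ 2 = Nat.card W := by
  have h0 : ω - σ ω ≠ 0 := sub_ne_zero.2 hω.symm
  rw [sq, ← Nat.card_prod]
  refine Nat.card_eq_of_bijective (fun x => x.1.1 + ω • x.2.1) ⟨fun x y h => ?_, fun w => ?_⟩
  · have h3 := congrArg τ h
    simp only [map_add, h1, x.1.2, x.2.2, y.1.2, y.2.2] at h h3
    have h4 : x.2.1 = y.2.1 := smul_right_injective W h0 (by
      simp only [sub_smul]
      linear_combination (norm := module) h - h3)
    rw [h4, add_left_inj] at h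
    exact Prod.ext (Subtype.ext h) (Subtype.ext h4)
  · have h3 : τ ((ω - σ ω)⁻¹ • (w - τ w)) = (ω - σ ω)⁻¹ • (w - τ w) := by
      rw [h1, map_sub τ, h2, map_inv₀, map_sub, hσ, ← neg_sub ω, inv_neg, neg_smul, ← smul_neg,
        neg_sub]
    refine ⟨(⟨w - ω • (ω - σ ω)⁻¹ • (w - τ w), ?_⟩, ⟨_, h3⟩), by simp⟩
    rw [map_sub, h1, h3]
    have := smul_inv_smul₀ h0 (w - τ w)
    rw [sub_smul] at this
    linear_combination (norm := module) this

end Cfsg.Agent.Forms
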