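import Cfsg.Agent.Lib.Forms.Gram

/-!
Involutions in characteristic two: the Wall form.
-/

set_option autoImplicit false

namespace Cfsg.Agent.Forms

open Module

universe u

variable {F : Type*} [Field F] {P : Param F} {V W : Type*} [AddCommGroup V] [Module F V]
  [AddCommGroup W] [Module F W]

/-- orthonormal bases of non-alternating symmetric forms in characteristic two -/
theorem albert_aux (h2 : (2 : F) = 0) (hs : ∀ c : F, IsSquare c) (n : ℕ) :
    ∀ (V : Type u) [AddCommGroup V] [Module F V] [FiniteDimensional F V]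
      (β : LinearMap.BilinForm F V), β.IsSymm → β.Nondegenerate → finrank F V = n →
      (n = 0 ∨ ∃ v, β v v ≠ 0) → ∃ b : Fin n → V, ∀ i j, β (b i) (b j) = if i = j then 1 else 0 := by
  induction n with
  | zero => intro V _ _ _ β _ _ _ _; exact ⟨Fin.elim0, fun i => i.elim0⟩
  | succ n ih =>
    intro V _ _ _ β hsym hnd hV hv
    have sy : ∀ x y, β x y = β y x := fun x y => hsym.eq x y
    obtain ⟨v, hv⟩ := hv.resolve_left (by omega)
    have norm : ∀ v, β v v ≠ 0 → ∃ w, β w w = 1 := by
      intro v hv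
      obtain ⟨s, hs⟩ := hs (β v v)⁻¹
      refine ⟨s • v, ?_⟩
      simp only [map_smul, LinearMap.smul_apply, smul_eq_mul, ← mul_assoc, ← hs]
      exact inv_mul_cancel₀ hv
    obtain ⟨v, hv⟩ := norm v hv
    have hfin : ∀ v, β v v = 1 → finrank F (β.orthogonal (F ∙ v)) = n := by
      intro v hv
      have hv0 : v ≠ 0 := by rintro rfl; simp at hv
      rw [LinearMap.BilinForm.finrank_orthogonal hnd, finrank_span_singleton hv0, hV]; simp
    have hnd' : ∀ v, β v v = 1 → (β.restrict (β.orthogonal (F ∙ v))).Nondegenerate := by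
      intro v hv
      exact LinearMap.BilinForm.restrict_nondegenerate_orthogonal_spanSingleton β hnd hsym.isRefl
        (by simp [hv])
    have hmem : ∀ v x, x ∈ β.orthogonal (F ∙ v) ↔ β v x = 0 := by
      intro v x
      rw [LinearMap.BilinForm.mem_orthogonal_iff]
      constructor
      · intro h; exact h v (Submodule.mem_span_singleton_self v)
      · intro h y hy
        obtain ⟨c, rfl⟩ := Submodule.mem_span_singleton.1 hy
        simp [h]
    have : ∃ v, β v v = 1 ∧ (n = 0 ∨ ∃ x, β v x = 0 ∧ β x x ≠ 0) := by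
      by_cases hn : n = 0
      · exact ⟨v, hv, Or.inl hn⟩
      by_cases hx : ∃ x, β v x = 0 ∧ β x x ≠ 0
      · exact ⟨v, hv, Or.inr hx⟩
      push Not at hx
      have : Nontrivial (β.orthogonal (F ∙ v)) :=
        (finrank_pos_iff (R := F)).1 (by rw [hfin v hv]; omega)
      obtain ⟨h, hh⟩ := exists_ne (0 : β.orthogonal (F ∙ v))
      have : ∃ k : β.orthogonal (F ∙ v), β h k ≠ 0 := by
        by_contra hc
        push Not at hc
        exact hh ((hnd' v hv).1 h hc)
      obtain ⟨k, hk⟩ := this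
      have h1 := (hmem v h).1 h.2
      have h3 := (hmem v k).1 k.2
      refine ⟨v + h, ?_, Or.inr ⟨v + (β h k)⁻¹ • k, ?_, ?_⟩⟩
      · simp [hv, h1, sy h v, hx h h1]
      · simp only [map_add, map_smul, LinearMap.add_apply, smul_eq_mul, hv, h3, sy h v, h1]
        linear_combination h2 + inv_mul_cancel₀ hk
      · simp [hv, h3, sy k v, hx k h3]
    obtain ⟨v, hv, hx⟩ := this
    obtain ⟨b, hb⟩ := ih (β.orthogonal (F ∙ v)) (β.restrict _) (hsym.restrict _) (hnd' v hv)
      (hfin v hv) (hx.imp id fun ⟨x, h1, h3⟩ => ⟨⟨x, (hmem v x).2 h1⟩, h3⟩)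
    refine ⟨Fin.cons v fun i => b i, fun i j => ?_⟩
    induction i using Fin.cases with
    | zero =>
      induction j using Fin.cases with
      | zero => simp [hv]
      | succ j => simpa [(Fin.succ_ne_zero j).symm] using (hmem v _).1 (b j).2
    | succ i =>
      induction j using Fin.cases with
      | zero => simpa [sy _ v] using (hmem v _).1 (b i).2
      | succ j => simpa using hb i j

theorem albert (h2 : (2 : F) = 0) (hs : ∀ c : F, IsSquare c) [FiniteDimensional F V]
    (β : LinearMap.BilinForm F V) (hsym : β.IsSymm) (hnd : β.Nondegenerate)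
    (h : ∃ v, β v v ≠ 0) :
    ∃ b : Basis (Fin (finrank F V)) F V, ∀ i j, β (b i) (b j) = if i = j then 1 else 0 := by
  obtain ⟨b, hb⟩ := albert_aux h2 hs _ V β hsym hnd rfl (Or.inr h)
  have hli : LinearIndependent F b := by
    rw [Fintype.linearIndependent_iff]
    intro c hc i
    have := congrArg (fun x => β x (b i)) hc
    simpa [hb] using this
  exact ⟨basisOfLinearIndependentOfCardEqFinrank' b hli (by simp), by simpa using hb⟩

namespace Form

variable {f : Form P V}

/-- the Wall form pulled back to the whole space -/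
def Isom.wall (a : f.Isom) : V →ₗ[F] V →ₛₗ[P.σ] F := f.B.compl₂ (1 - (a.1 : V →ₗ[F] V))

theorem Isom.wall_apply (a : f.Isom) (x y : V) : Isom.wall a x y = f.B x (y - a.1 y) := rfl

theorem Isom.wall_symm {a : f.Isom} (ha : a * a = 1) (x y : V) :
    Isom.wall a y x = P.ε * P.σ (Isom.wall a x y) := by
  rw [Isom.wall_apply, Isom.wall_apply, ← f.symm, B_sub_right, B_sub_left, Isom.B_right,
    inv_eq_of_mul_eq_one_right ha]

theorem Isom.finrank_compl_fix [FiniteDimensional F V] (a : f.Isom) {C : Submodule F V}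
    (hC : IsCompl C (Isom.fix a)) : finrank F C = finrank F (Isom.res a) := by
  have := Submodule.finrank_add_eq_of_isCompl hC
  have := Isom.finrank_res_add_fix a
  omega

theorem Nondeg.wall_nondeg (hf : f.Nondeg) (a : f.Isom) {C : Submodule F V}
    (hC : IsCompl C (Isom.fix a)) (x : C) (hx : ∀ y : C, Isom.wall a x y = 0) : x = 0 := by
  have : (x : V) ∈ Isom.fix a := by
    rw [← hf.orth_res]
    rintro _ ⟨w, rfl⟩
    have : w ∈ C ⊔ Isom.fix a := by rw [hC.sup_eq_top]; trivial
    obtain ⟨y, hy, z, hz, rfl⟩ := Submodule.mem_sup.1 this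
    have h1 := hx ⟨y, hy⟩
    rw [Isom.wall_apply] at h1
    rw [Isom.N_apply, map_add, Isom.mem_fix.1 hz, add_sub_add_right_eq_sub, ← neg_sub,
      B_neg_right, h1, neg_zero]
  exact Subtype.ext (Submodule.disjoint_def.1 hC.disjoint _ x.2 this)

theorem Nondeg.isConj_of_wall_equiv [FiniteDimensional F V] (hf : f.Nondeg) (a b : f.Isom)
    {C D : Submodule F V} (hC : IsCompl C (Isom.fix a)) (hD : IsCompl D (Isom.fix b))
    (e : C ≃ₗ[F] D) (he : ∀ x y, Isom.wall b (e x) (e y) = Isom.wall a x y) : IsConj a b := by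
  have key : ∀ (a : f.Isom) (C : Submodule F V), IsCompl C (Isom.fix a) →
      ∀ {ι : Type} (c : Basis ι F C), LinearIndependent F (fun i => (c i : V) - a.1 (c i)) ∧
        Submodule.span F (Set.range fun i => (c i : V) - a.1 (c i)) = Isom.res a := by
    intro a C hC ι c
    set φ : C →ₗ[F] V := (1 - (a.1 : V →ₗ[F] V)) ∘ₗ C.subtype
    refine ⟨c.linearIndependent.map' φ ?_, ?_⟩
    · rw [LinearMap.ker_eq_bot']
      intro x hx
      have : (x : V) ∈ Isom.fix a := Isom.mem_fix.2 (sub_eq_zero.1 hx).symm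
      exact Subtype.ext (Submodule.disjoint_def.1 hC.disjoint _ x.2 this)
    · have : (Set.range fun i => (c i : V) - a.1 (c i)) = φ '' Set.range c := by
        rw [← Set.range_comp]; rfl
      rw [this, Submodule.span_image, c.span_eq, Submodule.map_top]
      apply le_antisymm
      · rintro _ ⟨x, rfl⟩; exact Isom.sub_mem_res' a x
      · rintro _ ⟨w, rfl⟩
        have : w ∈ C ⊔ Isom.fix a := by rw [hC.sup_eq_top]; trivial
        obtain ⟨y, hy, z, hz, rfl⟩ := Submodule.mem_sup.1 this
        refine ⟨-⟨y, hy⟩, ?_⟩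
        simp [φ, Isom.N_apply, Isom.mem_fix.1 hz, neg_add_eq_sub]
  let c := Module.finBasis F C
  obtain ⟨h1, h2⟩ := key a C hC c
  obtain ⟨h3, h4⟩ := key b D hD (c.map e)
  exact hf.isConj_of_wall a b _ _ h1 h3 h2 h4 fun i j => (he (c i) (c j)).symm

section unitary

variable [Fintype F] {q : ℕ} {hF : Fintype.card F = q ^ 2}

theorem Nondeg.unit_isConj_of_invol [FiniteDimensional F V] {f : Form (uP hF) V} (hf : f.Nondeg)
    {a b : f.Isom} (ha : a * a = 1) (hb : b * b = 1)
    (h : finrank F (Isom.res a) = finrank F (Isom.res b)) : IsConj a b := by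
  obtain ⟨C, hC⟩ := Submodule.exists_isCompl (Isom.fix a)
  obtain ⟨D, hD⟩ := Submodule.exists_isCompl (Isom.fix b)
  let w : ∀ a : f.Isom, a * a = 1 → Form (uP hF) V := fun a ha =>
    Form.ofHerm _ _ (frobq_ne hF) (Isom.wall a) (fun x y => (Isom.wall_symm ha x y).trans (one_mul _))
  have h1 : ((w a ha).restrict C).Nondeg := hf.wall_nondeg a hC.symm
  have h3 : ((w b hb).restrict D).Nondeg := hf.wall_nondeg b hD.symm
  obtain ⟨i⟩ := h1.unit_iso h3 (by
    rw [Isom.finrank_compl_fix a hC.symm, Isom.finrank_compl_fix b hD.symm, h])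
  exact hf.isConj_of_wall_equiv a b hC.symm hD.symm i.e i.isom.map_B

theorem Nondeg.unit_exists_commute_det [FiniteDimensional F V] {f : Form (uP hF) V}
    (hf : f.Nondeg) [CharP F 2] {b : f.Isom} (hb : b * b = 1) (hb1 : b ≠ 1) {d : F}
    (hd : d * frobq hF d = 1) : ∃ k : f.Isom, Commute k b ∧ (f.detHom k : F) = d := by
  have h2 : (2 : F) = 0 := CharP.ofNat_eq_zero F 2
  obtain ⟨C, hC⟩ := Submodule.exists_isCompl (Isom.fix b)
  let w : Form (uP hF) V := Form.ofHerm _ _ (frobq_ne hF) (Isom.wall b)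
    (fun x y => (Isom.wall_symm hb x y).trans (one_mul _))
  have h1 : (w.restrict C).Nondeg := hf.wall_nondeg b hC.symm
  have : Nontrivial C := by
    rw [Submodule.nontrivial_iff_ne_bot]
    rintro rfl
    exact hb1 (Isom.fix_eq_top_iff.1 (by simpa using hC.sup_eq_top))
  obtain ⟨u, hu⟩ := h1.unit_exists_B_eq (map_one _) one_ne_zero
  change f.B u (u - b.1 u) = 1 at hu
  set z := (u : V) - b.1 u with hz
  have hzf : b.1 z = z := Isom.mem_fix.1 (Isom.res_le_fix hb (Isom.sub_mem_res' b u))
  have hQ : f.Q z = 0 := by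
    rw [unit_Q]
    exact Isom.fix_le_orth_res b (Isom.mem_fix.2 hzf) _ (Isom.sub_mem_res' b u)
  obtain ⟨c, hc⟩ := exists_hypPair_of_B hQ (w := (u : V)) (by rw [f.unit_symm, hu, map_one])
  obtain ⟨s, rfl⟩ := isSquare_of_two_eq_zero h2 d
  have hs : s * (uP hF).σ s = 1 := by
    have : (s * frobq hF s - 1) ^ 2 = 0 := by
      rw [map_mul] at hd
      linear_combination hd + (1 - s * frobq hF s) * h2
    exact sub_eq_zero.1 (pow_eq_zero_iff two_ne_zero |>.1 this)
  refine ⟨hf.extHom hyp_nondeg _ hc.isIsom_pairMap (scalar _ s hs),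
    hf.commute_extHom_scalar _ _ _ _ _ _ fun x => ⟨(x.1 - x.2, x.2), ?_⟩, ?_⟩
  · have : b.1 u = u - z := by rw [hz, sub_sub_cancel]
    simp only [pairMap_apply, map_add, map_smul, map_sub, hzf, this]
    module
  · rw [hf.detHom_extHom, detHom_scalar]; simp [sq]

theorem Nondeg.su_isConj_of_invol [FiniteDimensional F V] {f : Form (uP hF) V} (hf : f.Nondeg)
    [CharP F 2] {a b : f.SIsom} (ha : a * a = 1) (hb : b * b = 1) (hb1 : b ≠ 1)
    (h : finrank F (Isom.res a.1) = finrank F (Isom.res b.1)) : IsConj a b := by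
  obtain ⟨g, hg⟩ := isConj_iff.1 (hf.unit_isConj_of_invol (congrArg Subtype.val ha)
    (congrArg Subtype.val hb) h)
  obtain ⟨k, hk, hkd⟩ := hf.unit_exists_commute_det (congrArg Subtype.val hb)
    (fun h => hb1 (Subtype.ext h)) (hf.det_mul_σ_det g⁻¹)
  exact isConj_SIsom g hg k hk (by rw [Units.ext hkd, ← map_mul, inv_mul_cancel, map_one])

end unitary

section symplectic

variable {f : Form (Param.sp F) V}

/-- an isometry is of alternating type -/
def Isom.IsAlt (a : f.Isom) : Prop := ∀ v, f.B v (a.1 v) = 0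

theorem Isom.sp_wall_self (a : f.Isom) (v : V) : Isom.wall a v v = -f.B v (a.1 v) := by
  rw [Isom.wall_apply, B_sub_right, sp_B_self, zero_sub]

theorem Nondeg.even_of_isAlt [FiniteDimensional F V] (hf : f.Nondeg) {a : f.Isom}
    (h : Isom.IsAlt a) : Even (finrank F (Isom.res a)) := by
  obtain ⟨C, hC⟩ := Submodule.exists_isCompl (Isom.fix a)
  let w : Form (Param.sp F) V :=
    Form.ofAlt (Isom.wall a) (fun x => (Isom.sp_wall_self a x).trans (by rw [h, neg_zero]))
  have h1 : (w.restrict C).Nondeg := hf.wall_nondeg a hC.symm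
  rw [← Isom.finrank_compl_fix a hC.symm]
  exact h1.sp_even

theorem Nondeg.sp_isConj_of_invol [FiniteDimensional F V] (hf : f.Nondeg)
    (h2 : (2 : F) = 0) (hs : ∀ c : F, IsSquare c) {a b : f.Isom} (ha : a * a = 1) (hb : b * b = 1)
    (h : finrank F (Isom.res a) = finrank F (Isom.res b)) (hab : Isom.IsAlt a ↔ Isom.IsAlt b) :
    IsConj a b := by
  obtain ⟨C, hC⟩ := Submodule.exists_isCompl (Isom.fix a)
  obtain ⟨D, hD⟩ := Submodule.exists_isCompl (Isom.fix b)
  have hCD : finrank F C = finrank F D := by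
    rw [Isom.finrank_compl_fix a hC.symm, Isom.finrank_compl_fix b hD.symm, h]
  by_cases hA : Isom.IsAlt a
  · let w : ∀ a : f.Isom, Isom.IsAlt a → Form (Param.sp F) V := fun a h =>
      Form.ofAlt (Isom.wall a) (fun x => (Isom.sp_wall_self a x).trans (by rw [h, neg_zero]))
    have h1 : ((w a hA).restrict C).Nondeg := hf.wall_nondeg a hC.symm
    have h3 : ((w b (hab.1 hA)).restrict D).Nondeg := hf.wall_nondeg b hD.symm
    obtain ⟨i⟩ := h1.sp_iso h3 hCD
    exact hf.isConj_of_wall_equiv a b hC.symm hD.symm i.e i.isom.map_B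
  · have key : ∀ (a : f.Isom), a * a = 1 → ¬ Isom.IsAlt a → ∀ C : Submodule F V,
        IsCompl C (Isom.fix a) → ∃ c : Basis (Fin (finrank F C)) F C,
          ∀ i j, Isom.wall a (c i) (c j) = if i = j then 1 else 0 := by
      intro a ha hA C hC
      let β : LinearMap.BilinForm F V := Isom.wall a
      have hsym : β.IsSymm := ⟨fun x y => by
        have := Isom.wall_symm ha x y
        simp only [Param.sp_ε, Param.sp_σ] at this
        change Isom.wall a x y = Isom.wall a y x
        linear_combination -this + Isom.wall a x y * h2⟩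
      refine albert h2 hs (β.restrict C) (hsym.restrict C) ?_ ?_
      · exact (hsym.restrict C).isRefl.nondegenerate_iff_separatingLeft.2
          (hf.wall_nondeg a hC)
      · by_contra hc
        push Not at hc
        apply hA
        intro v
        have : v ∈ C ⊔ Isom.fix a := by rw [hC.sup_eq_top]; trivial
        obtain ⟨y, hy, z, hz, rfl⟩ := Submodule.mem_sup.1 this
        have h1 : Isom.wall a y y = 0 := hc ⟨y, hy⟩
        rw [Isom.sp_wall_self, neg_eq_zero] at h1
        have h3 := Isom.fix_le_orth_res a hz _ (Isom.sub_mem_res a y)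
        rw [B_sub_right] at h3
        rw [map_add a.1, Isom.mem_fix.1 hz, B_add_left, B_add_right, B_add_right, h1, sp_B_self,
          f.sp_symm z y]
        linear_combination h3
    obtain ⟨c, hc⟩ := key a ha hA C hC.symm
    obtain ⟨d, hd⟩ := key b hb (fun h => hA (hab.2 h)) D hD.symm
    refine hf.isConj_of_wall_equiv a b hC.symm hD.symm (c.equiv d (finCongr hCD)) ?_
    intro x y
    let β1 : LinearMap.BilinForm F C := LinearMap.BilinForm.restrict (Isom.wall a) C
    let β2 : LinearMap.BilinForm F C := LinearMap.BilinForm.comp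
      (LinearMap.BilinForm.restrict (Isom.wall b) D)
      (c.equiv d (finCongr hCD) : C →ₗ[F] D) (c.equiv d (finCongr hCD) : C →ₗ[F] D)
    have : β2 = β1 := LinearMap.BilinForm.ext_basis c fun i j => by
      change Isom.wall b (c.equiv d _ (c i)) (c.equiv d _ (c j)) = Isom.wall a (c i) (c j)
      rw [Basis.equiv_apply, Basis.equiv_apply, hc, hd]
      simp
    exact LinearMap.congr_fun₂ this x y

/-- the vectors with `B(v, a v) = 0` -/
theorem Isom.card_wall_ker [Fintype F] [Finite V] (hs : ∀ c : F, IsSquare c)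
    {a : f.Isom} (ha : a * a = 1) (hA : ¬ Isom.IsAlt a) :
    Nat.card {v // f.B v (a.1 v) = 0} * Fintype.card F = Nat.card V := by
  let φ : V →+ F := AddMonoidHom.mk' (fun v => f.B v (a.1 v)) (fun x y => by
    have := Isom.B_right a x y
    rw [inv_eq_of_mul_eq_one_right ha, f.sp_symm y] at this
    rw [map_add a.1, B_add_left, B_add_right, B_add_right, this]; ring)
  have hφ : Function.Surjective φ := by
    intro c
    obtain ⟨v, hv⟩ := not_forall.1 hA
    obtain ⟨s, hs⟩ := hs (c * (f.B v (a.1 v))⁻¹)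
    refine ⟨s • v, ?_⟩
    change f.B (s • v) (a.1 (s • v)) = c
    rw [map_smul a.1, B_smul_left, sp_B_smul_right, ← mul_assoc, ← hs]
    field_simp
  rw [AddSubgroup.card_eq_card_quotient_mul_card_addSubgroup φ.ker,
    Nat.card_congr (QuotientAddGroup.quotientKerEquivOfSurjective φ hφ).toEquiv, mul_comm,
    Nat.card_eq_fintype_card (α := F)]
  rfl

end symplectic

end Form

end Cfsg.Agent.Forms
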