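import Cfsg.Agent.Lib.Forms.Card
import Cfsg.Agent.Lib.GLn.Classes

/-!
Conjugacy of semisimple elements in symplectic and unitary groups.
-/

set_option autoImplicit false

namespace Cfsg.Agent.Forms

open Module Polynomial

variable {F : Type*} [Field F] {P : Param F} {V W : Type*} [AddCommGroup V] [Module F V]
  [AddCommGroup W] [Module F W] [FiniteDimensional F V] [FiniteDimensional F W]

theorem typ_toMatrix [Fintype F] (p : ℕ) [Fact p.Prime] [CharP F p] {n : ℕ} (b : Basis (Fin n) F V)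
    (g : V ≃ₗ[F] V) (hg : pexp p g = 0) :
    ∀ x ∈ GLn.typ (LinearMap.toMatrix b b (g : V →ₗ[F] V)), x.2 = 1 :=
  (GLn.coprime_orderOf_iff_typ p (((Units.map (LinearMap.toMatrixAlgEquiv b).toMonoidHom).comp
    (LinearMap.GeneralLinearGroup.generalLinearEquiv F V).symm.toMonoidHom) g)).1
    (Nat.Coprime.coprime_dvd_left (orderOf_map_dvd _ _)
      ((pexp_eq_zero_iff p (orderOf_pos_linearEquiv g)).1 hg))

/-- semisimple automorphisms with the same eigenvalues are similar -/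
theorem exists_equiv_of_ev_eq [Fintype F] (p : ℕ) [Fact p.Prime] [CharP F p] (g : V ≃ₗ[F] V)
    (h : W ≃ₗ[F] W) (hg : pexp p g = 0) (hh : pexp p h = 0)
    (e : ev (g : V →ₗ[F] V) = ev (h : W →ₗ[F] W)) : ∃ x : V ≃ₗ[F] W, ∀ v, x (g v) = h (x v) := by
  have hd : finrank F W = finrank F V := by rw [← card_ev (g : V →ₗ[F] V), e, card_ev]
  let b := Module.finBasis F V
  let c := Module.finBasisOfFinrankEq F W hd
  obtain ⟨Q, hQ⟩ := (GLn.similar_iff_typ_eq _ _).2 (GLn.typ_eq_of_charpoly_eq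
    (typ_toMatrix p b g hg) (typ_toMatrix p c h hh) (by
      rw [LinearMap.charpoly_toMatrix, LinearMap.charpoly_toMatrix, charpoly_eq_of_ev_eq e]))
  refine ⟨Matrix.toLinOfInv b c Q.mul_inv Q.inv_mul, fun v => ?_⟩
  have := congrArg (fun A => Matrix.toLin b c A v) hQ
  rwa [Matrix.toLin_mul b b c, Matrix.toLin_mul b c c, Matrix.toLin_toMatrix,
    Matrix.toLin_toMatrix] at this

namespace Form

variable {f : Form P V} {f' : Form P W}

theorem Nondeg.exists_adj (hf : f.Nondeg) (β : V →ₗ[F] V →ₛₗ[P.σ] F) :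
    ∃ c : V →ₗ[F] V, ∀ u v, f.B u (c v) = β u v := by
  choose c hc using fun v => hf.exists_repr (β.flip v)
  exact ⟨⟨⟨c, fun v w => hf.ext_right fun x => by simp [hc]⟩,
    fun a v => hf.ext_right fun x => by simp [hc]⟩, fun u v => hc v u⟩

/-- the adjoint -/
noncomputable def Nondeg.adj (hf : f.Nondeg) (φ : V →ₗ[F] V) : V →ₗ[F] V :=
  (hf.exists_adj (f.B.comp φ)).choose

theorem Nondeg.B_adj (hf : f.Nondeg) (φ : V →ₗ[F] V) (u v : V) :
    f.B u (hf.adj φ v) = f.B (φ u) v := (hf.exists_adj (f.B.comp φ)).choose_spec u v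

theorem Nondeg.adj_eq (hf : f.Nondeg) {φ ψ : V →ₗ[F] V} (h : ∀ u v, f.B u (ψ v) = f.B (φ u) v) :
    hf.adj φ = ψ := LinearMap.ext fun v => hf.ext_right fun u => by rw [hf.B_adj, h]

theorem Nondeg.adj_adj (hf : f.Nondeg) (φ : V →ₗ[F] V) : hf.adj (hf.adj φ) = φ :=
  hf.adj_eq fun u v => by rw [f.symm, ← hf.B_adj, ← f.symm]

theorem Nondeg.adj_mul (hf : f.Nondeg) (φ ψ : V →ₗ[F] V) :
    hf.adj (φ * ψ) = hf.adj ψ * hf.adj φ := hf.adj_eq fun u v => by simp [hf.B_adj]

theorem Nondeg.adj_add (hf : f.Nondeg) (φ ψ : V →ₗ[F] V) :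
    hf.adj (φ + ψ) = hf.adj φ + hf.adj ψ := hf.adj_eq fun u v => by simp [hf.B_adj]

theorem Nondeg.adj_algebraMap (hf : f.Nondeg) (a : F) :
    hf.adj (algebraMap F _ a) = algebraMap F _ (P.σ a) := hf.adj_eq fun u v => by simp [P.σσ]

theorem Nondeg.adj_isom (hf : f.Nondeg) (g : f.Isom) :
    hf.adj (g.1 : V →ₗ[F] V) = (g⁻¹.1 : V →ₗ[F] V) := hf.adj_eq fun u v => (Isom.B_left g u v).symm

open scoped IsMulCommutative in
theorem Nondeg.exists_B_equiv [Finite F] (hf : f.Nondeg) (hf' : f'.Nondeg) (g : f.Isom) (h : f'.Isom)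
    (x : V ≃ₗ[F] W) (hx : ∀ v, x (g.1 v) = h.1 (x v))
    (hω : (∃ a, P.σ a ≠ a) ∨ ∀ v, g.1 (g.1 v) = v → v = 0) :
    ∃ z : V ≃ₗ[F] W, (∀ u v, f'.B (z u) (z v) = f.B u v) ∧ ∀ v, z (g.1 v) = h.1 (z v) := by
  obtain ⟨c, hc⟩ := hf.exists_adj ((f'.B.comp (x : V →ₗ[F] W)).compl₂ (x : V →ₗ[F] W))
  replace hc : ∀ u v, f.B u (c v) = f'.B (x u) (x v) := hc
  have hx' : ∀ v, x (g⁻¹.1 v) = h⁻¹.1 (x v) := fun v => by
    rw [← Isom.inv_apply h (x _), ← hx, Isom.apply_inv]
  have h1 : ∀ v, c (g.1 v) = g.1 (c v) := fun v => hf.ext_right fun u => by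
    rw [hc, hx, Isom.B_right, ← hx', ← hc, Isom.B_right]
  have h2 : ∀ v, c (g⁻¹.1 v) = g⁻¹.1 (c v) := fun v => by
    rw [← Isom.inv_apply g (c _), ← h1, Isom.apply_inv]
  have h3 : hf.adj c = c := hf.adj_eq fun u v => by rw [f.symm v, hc, hc, ← f'.symm]
  let s : Set (Module.End F V) := {(g.1 : V →ₗ[F] V), (g⁻¹.1 : V →ₗ[F] V), c}
  let A := Algebra.adjoin F s
  haveI : IsMulCommutative A := Algebra.isMulCommutative_adjoin F (by
    rintro _ (rfl | rfl | rfl) _ (rfl | rfl | rfl) <;> ext v <;>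
      simp only [Module.End.mul_apply, LinearEquiv.coe_coe, h1, h2, Isom.apply_inv, Isom.inv_apply])
  haveI : Finite (Module.End F V) := Module.finite_of_finite F
  have m1 : (g.1 : V →ₗ[F] V) ∈ A := Algebra.subset_adjoin (by simp [s])
  have m2 : (g⁻¹.1 : V →ₗ[F] V) ∈ A := Algebra.subset_adjoin (by simp [s])
  have m3 : c ∈ A := Algebra.subset_adjoin (by simp [s])
  have hA : ∀ a ∈ A, hf.adj a ∈ A := fun a ha => by
    induction ha using Algebra.adjoin_induction with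
    | mem a ha =>
      rcases ha with rfl | rfl | rfl
      · rwa [hf.adj_isom]
      · rwa [hf.adj_isom, inv_inv]
      · rwa [h3]
    | algebraMap r => rw [hf.adj_algebraMap]; exact A.algebraMap_mem _
    | add a b _ _ ha hb => rw [hf.adj_add]; exact A.add_mem ha hb
    | mul a b _ _ ha hb => rw [hf.adj_mul]; exact A.mul_mem hb ha
  let ι : A →+* A :=
    { toFun := fun a => ⟨hf.adj a, hA a a.2⟩
      map_one' := Subtype.ext (hf.adj_eq fun _ _ => rfl)
      map_mul' := fun a b => by rw [mul_comm a]; exact Subtype.ext (hf.adj_mul _ _)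
      map_zero' := Subtype.ext (hf.adj_eq fun _ _ => by simp)
      map_add' := fun a b => Subtype.ext (hf.adj_add _ _) }
  have hu : ∀ a : A, Function.Injective a.1 → IsUnit a := fun a ha =>
    isUnit_iff_exists_inv.2 ((Finite.injective_iff_surjective (f := (a * ·))).1 (fun b b' e =>
      Subtype.ext (LinearMap.ext fun v => ha (LinearMap.congr_fun (congrArg Subtype.val e) v))) 1)
  obtain ⟨ω, hω⟩ : ∃ ω : A, IsUnit (ω - ι ω) := by
    rcases hω with ⟨a, ha⟩ | hω
    · refine ⟨algebraMap F A a, hu _ ((injective_iff_map_eq_zero _).2 fun v hv => ?_)⟩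
      have : hf.adj (algebraMap F _ a) v = P.σ a • v := by rw [hf.adj_algebraMap]; rfl
      replace hv : a • v - hf.adj (algebraMap F _ a) v = 0 := hv
      rw [this, ← sub_smul] at hv
      exact (smul_eq_zero.1 hv).resolve_left (sub_ne_zero.2 ha.symm)
    · refine ⟨⟨_, m1⟩, hu _ ((injective_iff_map_eq_zero _).2 fun v hv => hω v ?_)⟩
      replace hv : g.1 v - hf.adj (g.1 : V →ₗ[F] V) v = 0 := hv
      rw [hf.adj_isom, sub_eq_zero] at hv
      rw [hv]; exact Isom.apply_inv g v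
  obtain ⟨y, hy⟩ := exists_norm_of_fixed ι (fun a => Subtype.ext (hf.adj_adj _)) hω (c := ⟨c, m3⟩)
    (hu _ ((injective_iff_map_eq_zero _).2 fun v hv => x.injective (by
      rw [map_zero]
      refine hf'.right _ fun w => ?_
      obtain ⟨u, rfl⟩ := x.surjective w
      rw [← hc, show c v = 0 from hv, B_zero_right]))) (Subtype.ext h3)
  have h4 : ∀ u v, f.B (y.1 u) (y.1 v) = f'.B (x u) (x v) := fun u v => by
    rw [← hc, ← hf.B_adj]
    rw [mul_comm] at hy
    exact congrArg (f.B u) (LinearMap.congr_fun (congrArg Subtype.val hy) v)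
  have h5 : Function.Injective y.1 := (injective_iff_map_eq_zero _).2 fun v hv => x.injective (by
    rw [map_zero]
    refine hf'.right _ fun w => ?_
    obtain ⟨u, rfl⟩ := x.surjective w
    rw [← h4, hv, B_zero_right])
  let y' := LinearEquiv.ofInjectiveEndo y.1 h5
  refine ⟨y'.symm.trans x, fun u v => ?_, fun v => ?_⟩
  · obtain ⟨u, rfl⟩ := y'.surjective u
    obtain ⟨v, rfl⟩ := y'.surjective v
    simp only [LinearEquiv.trans_apply, y'.symm_apply_apply]
    exact (h4 u v).symm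
  · obtain ⟨v, rfl⟩ := y'.surjective v
    have : g.1 (y' v) = y' (g.1 v) :=
      LinearMap.congr_fun (congrArg Subtype.val (mul_comm (⟨_, m1⟩ : A) y)) v
    simp [this, hx]

/-- isometric conjugacy of isometries of two spaces -/
def Sim (g : f.Isom) (h : f'.Isom) : Prop := ∃ i : Iso f f', ∀ v, i.e (g.1 v) = h.1 (i.e v)

omit [FiniteDimensional F V] in
theorem Sim.isConj {g h : f.Isom} (H : Sim g h) : IsConj g h := by
  obtain ⟨i, hi⟩ := H
  exact isConj_iff.2 ⟨i.toIsom, mul_inv_eq_iff_eq_mul.2 (Isom.ext hi)⟩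

theorem Sim.glue (hf : f.Nondeg) (hf' : f'.Nondeg) {g : f.Isom} {h : f'.Isom} {S : Submodule F V}
    {T : Submodule F W} (hS : Disjoint S (f.orth S)) (hT : Disjoint T (f'.orth T))
    {S' : Submodule F V} {T' : Submodule F W} (eS : f.orth S = S') (eT : f'.orth T = T')
    {h1 h2 h3 h4} (H1 : Sim (Isom.restrict g S h1) (Isom.restrict h T h2))
    (H2 : Sim (Isom.restrict g S' h3) (Isom.restrict h T' h4)) : Sim g h := by
  subst eS eT
  obtain ⟨i, hi⟩ := H1
  obtain ⟨j, hj⟩ := H2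
  let a := Submodule.prodEquivOfIsCompl _ _ (hf.isCompl_orth hS)
  let b := Submodule.prodEquivOfIsCompl _ _ (hf'.isCompl_orth hT)
  have key : ∀ x : S × f.orth S, (a.symm.trans ((i.e.prodCongr j.e).trans b)) (a x) =
      i.e x.1 + j.e x.2 := fun x => by simp [b]
  have ha : ∀ x : S × f.orth S, a x = x.1 + x.2 := fun x => by simp [a]
  refine ⟨⟨a.symm.trans ((i.e.prodCongr j.e).trans b), fun u v => ?_, fun u => ?_⟩, fun v => ?_⟩
  · obtain ⟨u, rfl⟩ := a.surjective u
    obtain ⟨v, rfl⟩ := a.surjective v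
    rw [key, key, ha, ha]
    simp only [B_add_left, B_add_right, mem_orth.1 u.2.2 _ v.1.2, mem_orth'.1 v.2.2 _ u.1.2,
      mem_orth.1 (j.e u.2).2 _ (i.e v.1).2, mem_orth'.1 (j.e v.2).2 _ (i.e u.1).2]
    exact congrArg₂ (· + ·) (congrArg (· + 0) (i.isom.map_B _ _))
      (congrArg (0 + ·) (j.isom.map_B _ _))
  · obtain ⟨u, rfl⟩ := a.surjective u
    rw [key, ha, f.Q_add_of_orth (mem_orth'.1 u.2.2 _ u.1.2),
      f'.Q_add_of_orth (mem_orth'.1 (j.e u.2).2 _ (i.e u.1).2)]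
    exact congrArg₂ (· + ·) (i.isom.map_Q _) (j.isom.map_Q _)
  · obtain ⟨v, rfl⟩ := a.surjective v
    have : g.1 (a v) = a ((Isom.restrict g _ h1).1 v.1, (Isom.restrict g _ h3).1 v.2) := by
      rw [ha, ha, map_add]; rfl
    change (a.symm.trans ((i.e.prodCongr j.e).trans b)) _ =
      h.1 ((a.symm.trans ((i.e.prodCongr j.e).trans b)) _)
    rw [this, key, key, hi, hj, map_add]; rfl

omit [FiniteDimensional F V] in
theorem Isom.disjoint_fix_res (a : f.Isom) {m : ℕ} (hm : (m : F) ≠ 0) {d : F}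
    (ha : ∀ v, (a ^ m).1 v = d • v) : Disjoint (Isom.fix a) (Isom.res a) := by
  rw [Submodule.disjoint_def]
  intro v h1 h2
  obtain ⟨w, rfl⟩ := Isom.mem_res.1 h2
  rw [Isom.mem_fix] at h1
  have h3 : ∀ k : ℕ, (a ^ k).1 (a.1 w - w) = a.1 w - w := fun k => by
    induction k with
    | zero => rfl
    | succ k ih => rw [pow_succ, Isom.mul_apply, h1, ih]
  have h4 : ∀ k : ℕ, (a ^ k).1 w = w + (k : F) • (a.1 w - w) := fun k => by
    induction k with
    | zero => simp
    | succ k ih =>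
      rw [pow_succ', Isom.mul_apply, ih, map_add, map_smul, h1, Nat.cast_succ, add_smul, one_smul]
      abel
  by_contra h0
  have h5 : d = 1 := smul_left_injective F h0 (by simpa only [ha, one_smul] using h3 m)
  have h6 := h4 m
  rw [ha, h5, one_smul, left_eq_add] at h6
  exact h0 ((smul_eq_zero.1 h6).resolve_left hm)

theorem Isom.restrict_pow_eq_one {g : f.Isom} {m : ℕ} (hg : g ^ m = 1) (S : Submodule F V) (h) :
    Isom.restrict g S h ^ m = 1 := by
  have : ∀ k v, ((Isom.restrict g S h ^ k).1 v : V) = (g ^ k).1 v := fun k => by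
    induction k with
    | zero => exact fun _ => rfl
    | succ k ih => intro v; rw [pow_succ, pow_succ, Isom.mul_apply, ih]; rfl
  exact Isom.ext fun v => Subtype.ext (by rw [this, hg]; rfl)

omit [FiniteDimensional F V] in
theorem scalar_pow_apply (f : Form P V) (c : F) (hc) (n : ℕ) (v : V) :
    (f.scalar c hc ^ n).1 v = c ^ n • v := by
  induction n with
  | zero => simp
  | succ n ih => rw [pow_succ', Isom.mul_apply, ih, scalar_apply, pow_succ', mul_smul]

theorem Sim.strip {f : Form (Param.sp F) V} {f' : Form (Param.sp F) W} (hf : f.Nondeg)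
    (hf' : f'.Nondeg) {g : f.Isom} {h : f'.Isom} (x : V ≃ₗ[F] W) (hx : ∀ v, x (g.1 v) = h.1 (x v))
    {m : ℕ} (hm : (m : F) ≠ 0) (hg : g ^ m = 1) (hh : h ^ m = 1) {c : F} (hc : c * c = 1)
    (H : ∀ (S : Submodule F V) (T : Submodule F W) h1 h2, (f.restrict S).Nondeg →
      (f'.restrict T).Nondeg → (∀ v ∈ S, g.1 v = c • v → v = 0) → ∀ y : S ≃ₗ[F] T,
      (∀ v, y ((Isom.restrict g S h1).1 v) = (Isom.restrict h T h2).1 (y v)) →
      Sim (Isom.restrict g S h1) (Isom.restrict h T h2)) : Sim g h := by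
  let a := f.scalar c hc * g
  let b := f'.scalar c hc * h
  have ha : ∀ v, a.1 v = c • g.1 v := fun _ => rfl
  have hb : ∀ v, b.1 v = c • h.1 v := fun _ => rfl
  have hxa : ∀ v, x (a.1 v) = b.1 (x v) := fun v => by rw [ha, hb, map_smul, hx]
  have d1 := Isom.disjoint_fix_res a hm (d := c ^ m) fun v => by
    rw [(f.scalar_commute c hc g).mul_pow, hg, mul_one]; exact scalar_pow_apply _ _ _ _ _
  have d2 := Isom.disjoint_fix_res b hm (d := c ^ m) fun v => by
    rw [(f'.scalar_commute c hc h).mul_pow, hh, mul_one]; exact scalar_pow_apply _ _ _ _ _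
  have f1 : ∀ v, v ∈ Isom.fix a ↔ g.1 v = c • v := fun v => by
    rw [Isom.mem_fix, ha]
    exact ⟨fun h => by rw [← h, smul_smul, hc, one_smul, h],
      fun h => by rw [h, smul_smul, hc, one_smul]⟩
  have f2 : ∀ v, v ∈ Isom.fix b ↔ h.1 v = c • v := fun v => by
    rw [Isom.mem_fix, hb]
    exact ⟨fun h => by rw [← h, smul_smul, hc, one_smul, h],
      fun h => by rw [h, smul_smul, hc, one_smul]⟩
  have i1 : ∀ v ∈ Isom.fix a, g.1 v ∈ Isom.fix a := fun v hv => by
    rw [(f1 v).1 hv]; exact Submodule.smul_mem _ _ hv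
  have i2 : ∀ v ∈ Isom.fix b, h.1 v ∈ Isom.fix b := fun v hv => by
    rw [(f2 v).1 hv]; exact Submodule.smul_mem _ _ hv
  have m1 : (Isom.fix a).map (x : V →ₗ[F] W) = Isom.fix b := by
    ext w
    obtain ⟨v, rfl⟩ := x.surjective w
    rw [Submodule.mem_map_equiv, x.symm_apply_apply, Isom.mem_fix, Isom.mem_fix, ← hxa,
      x.injective.eq_iff]
  have m2 : (Isom.res a).map (x : V →ₗ[F] W) = Isom.res b := by
    ext w
    obtain ⟨v, rfl⟩ := x.surjective w
    rw [Submodule.mem_map_equiv, x.symm_apply_apply, Isom.mem_res, Isom.mem_res,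
      x.surjective.exists]
    simp only [← hxa, ← map_sub, x.injective.eq_iff]
  have e1 := hf.orth_fix a
  have e2 := hf'.orth_fix b
  have n1 : Disjoint (Isom.fix a) (f.orth (Isom.fix a)) := e1 ▸ d1
  have n2 : Disjoint (Isom.fix b) (f'.orth (Isom.fix b)) := e2 ▸ d2
  refine Sim.glue hf hf' n1 n2 e1 e2 (h1 := i1) (h2 := i2) (h3 := e1 ▸ Isom.orth_invariant g i1)
    (h4 := e2 ▸ Isom.orth_invariant h i2) ?_ (H _ _ _ _ (e1 ▸ hf.restrict_orth n1)
      (e2 ▸ hf'.restrict_orth n2) (fun v hv h => Submodule.disjoint_def.1 d1 v ((f1 v).2 h) hv)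
      (x.ofSubmodules _ _ m2) fun v => Subtype.ext (hx v))
  obtain ⟨i⟩ := ((f.restrict_nondeg_iff _).2 n1).sp_iso ((f'.restrict_nondeg_iff _).2 n2)
    (x.ofSubmodules _ _ m1).finrank_eq
  refine ⟨i, fun v => ?_⟩
  rw [show (Isom.restrict g _ i1).1 v = c • v from Subtype.ext ((f1 v).1 v.2), map_smul]
  exact Subtype.ext ((f2 _).1 (i.e v).2).symm

theorem Nondeg.sp_sim [Finite F] {f : Form (Param.sp F) V} {f' : Form (Param.sp F) W}
    (hf : f.Nondeg) (hf' : f'.Nondeg) {g : f.Isom} {h : f'.Isom} (x : V ≃ₗ[F] W)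
    (hx : ∀ v, x (g.1 v) = h.1 (x v)) {m : ℕ} (hm : (m : F) ≠ 0) (hg : g ^ m = 1) (hh : h ^ m = 1) :
    Sim g h := by
  refine Sim.strip hf hf' x hx hm hg hh (mul_one 1) fun S T h1 h2 n1 n2 h3 y hy => ?_
  refine Sim.strip n1 n2 y hy hm (Isom.restrict_pow_eq_one hg _ _) (Isom.restrict_pow_eq_one hh _ _)
    (c := -1) (by simp) fun S' T' h1' h2' n1' n2' h3' y' hy' => ?_
  obtain ⟨z, h4, h5⟩ := n1'.exists_B_equiv n2' _ _ y' hy' (Or.inr fun v hv => by
    replace hv : g.1 (g.1 v) = v := congrArg (·.1.1) hv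
    have h6 := h3 (g.1 v + v) (S.add_mem (h1 _ v.1.2) v.1.2) (by rw [map_add, hv, one_smul, add_comm])
    exact Subtype.ext (h3' v v.2 (Subtype.ext (by simpa [Isom.restrict_apply] using eq_neg_of_add_eq_zero_left h6))))
  exact ⟨⟨z, sp_isIsom h4⟩, h5⟩

theorem natCast_orderOf_ne_zero [Fintype F] (p : ℕ) [Fact p.Prime] [CharP F p] {g : f.Isom}
    (hg : pexp p g = 0) : (orderOf g : F) ≠ 0 := by
  rw [Ne, CharP.cast_eq_zero_iff F p, ← (Fact.out : p.Prime).coprime_iff_not_dvd]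
  exact ((pexp_eq_zero_iff p (Isom.orderOf_pos g)).1 hg).symm

theorem Nondeg.sp_isConj [Fintype F] (p : ℕ) [Fact p.Prime] [CharP F p] {f : Form (Param.sp F) V}
    (hf : f.Nondeg) {g h : f.Isom} (hg : pexp p g = 0) (hh : pexp p h = 0)
    (e : Isom.ev g = Isom.ev h) : IsConj g h := by
  obtain ⟨x, hx⟩ := exists_equiv_of_ev_eq p g.1 h.1 (by rwa [pexp_coe]) (by rwa [pexp_coe]) e
  exact (hf.sp_sim hf x hx (m := orderOf g * orderOf h)
    (by rw [Nat.cast_mul]; exact mul_ne_zero (natCast_orderOf_ne_zero p hg) (natCast_orderOf_ne_zero p hh))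
    (by rw [pow_mul, pow_orderOf_eq_one, one_pow])
    (by rw [mul_comm, pow_mul, pow_orderOf_eq_one, one_pow])).isConj

section unitary

variable [Fintype F] (p : ℕ) [Fact p.Prime] [CharP F p] {q : ℕ} {hF : Fintype.card F = q ^ 2}
  {f : Form (uP hF) V}

theorem Nondeg.gu_isConj (hf : f.Nondeg) {g h : f.Isom} (hg : pexp p g = 0) (hh : pexp p h = 0)
    (e : Isom.ev g = Isom.ev h) : IsConj g h := by
  obtain ⟨x, hx⟩ := exists_equiv_of_ev_eq p g.1 h.1 (by rwa [pexp_coe]) (by rwa [pexp_coe]) e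
  obtain ⟨z, h4, h5⟩ := hf.exists_B_equiv hf g h x hx (Or.inl (frobq_ne hF))
  exact Sim.isConj ⟨⟨z, unit_isIsom h4⟩, h5⟩

theorem Nondeg.exists_commute_det (hf : f.Nondeg) [Nontrivial V] {h : f.Isom} (hh : pexp p h = 0)
    {d : F} (hd : d * frobq hF d = 1) : ∃ k : f.Isom, Commute k h ∧ (f.detHom k : F) = d := by
  classical
  have hR := map_psi_iff.2 (hf.unit_ev_dual hF h)
  have hψ := psi_injective (pow_q_injective hF)
  obtain ⟨α, hα⟩ := Multiset.card_pos_iff_exists_mem.1 ((Isom.card_ev h).symm ▸ finrank_pos)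
  set k := Function.minimalPeriod (psi q) α
  have hk : 0 < k := minimalPeriod_pos hψ hR hα
  have hfix : (psi q)^[k] α = α := Function.iterate_minimalPeriod
  obtain ⟨T, hT⟩ := Multiset.le_iff_exists_add.1 (show orb (psi q) α k ≤ Isom.ev h from
    (le_self_nsmul zero_le (Multiset.count_ne_zero.2 hα)).trans (nsmul_orb_le hψ hR α))
  obtain ⟨ζ, h1, h0, h2⟩ := exists_primRoot_of_dvd_qu hF hk dvd_rfl
  haveI : NeZero (qu q k) := ⟨(qu_pos hF hk).ne'⟩
  obtain ⟨m, -, rfl⟩ := h1.eq_pow_of_pow_eq_one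
    ((psi_iterate_eq_iff (Isom.ne_zero_of_mem_ev hα) k).1 hfix)
  obtain ⟨n1, f1, t, hf1, e1, p1⟩ := realz_unit_ss hF (p := p) (R := orb (psi q) ζ k)
    (fun h => ne_zero_of_mem_orb_psi h0 h rfl) (map_psi_iff.1 (map_orb h2))
  obtain ⟨n2, f2, g2, hf2, e2, p2⟩ := realz_unit_ss hF (p := p) (R := T)
    (fun h => Isom.ne_zero_of_mem_ev (hT ▸ Multiset.mem_add.2 (Or.inr h)) rfl) (map_psi_iff.1 (by
      rw [hT, Multiset.map_add, map_orb hfix] at hR
      exact add_left_cancel hR))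
  have e3 : Isom.ev (t ^ m) = orb (psi q) (ζ ^ m) k := by
    rw [Isom.ev_pow, e1, orb, orb, Multiset.map_map]
    exact Multiset.map_congr rfl fun j _ => psi_iterate_pow q ζ m j
  obtain ⟨i⟩ := (hf1.prod hf2).unit_iso hf (by
    rw [← Isom.card_ev h, ← Isom.card_ev (prodHom _ _ (t ^ m, g2)), ev_prodHom, e3, e2, hT])
  let φ := i.isomEquiv.toMonoidHom.comp (prodHom f1 f2)
  obtain ⟨g, hg⟩ := isConj_iff.1 (hf.gu_isConj p (g := φ (t ^ m, g2)) (by
      rw [pexp_injective p φ (i.isomEquiv.injective.comp (prodHom_injective _ _)),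
        pexp_prod p (Isom.orderOf_pos _) (Isom.orderOf_pos _), p2, Nat.max_zero,
        pexp_eq_zero_iff p (Isom.orderOf_pos _)]
      exact Nat.Coprime.coprime_dvd_left (orderOf_pow_dvd m)
        ((pexp_eq_zero_iff p (Isom.orderOf_pos _)).1 p1)) hh
    ((i.ev_isomEquiv _).trans (by rw [ev_prodHom, e3, e2, hT])))
  have h3 : IsPrimitiveRoot (ζ ^ gz q k) (q + 1) := by
    have := h1.pow (qu_pos hF hk) ((succ_mul_gsu q k).symm.trans (mul_comm _ _))
    rcases Int.natAbs_eq (gz q k) with h | h <;> rw [h, natAbs_gz]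
    · simpa using this
    · simpa using this.inv
  obtain ⟨j, -, hj⟩ := h3.eq_pow_of_pow_eq_one (ξ := algebraMap F _ d)
    (by rw [← map_pow, pow_succ', ← frobq_apply hF, hd, map_one])
  refine ⟨g * φ (t ^ j, 1) * g⁻¹, ?_, ?_⟩
  · rw [← hg]
    exact ((Commute.prod (Commute.pow_pow_self t j m) (Commute.one_left g2)).map φ).conj g
  · apply (algebraMap F (Kc F)).injective
    rw [map_mul, map_mul, mul_right_comm, ← map_mul, mul_inv_cancel, map_one, one_mul,
      show f.detHom (φ (t ^ j, 1)) = _ from i.detHom_isomEquiv _, detHom_prodHom, map_one, mul_one,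
      map_pow, Units.val_pow_eq_pow_val, map_pow, Isom.detHom_eq, e1, prod_orb_psi h0, ← hj]
    rfl

theorem Nondeg.su_isConj (hf : f.Nondeg) {g h : f.SIsom} (hg : pexp p g.1 = 0) (hh : pexp p h.1 = 0)
    (e : Isom.ev g.1 = Isom.ev h.1) : IsConj g h := by
  rcases subsingleton_or_nontrivial V with h0 | h0
  · rw [show g = h from Subtype.ext (Isom.ext fun _ => Subsingleton.elim _ _)]
  obtain ⟨x, hx⟩ := isConj_iff.1 (hf.gu_isConj p hg hh e)
  obtain ⟨k, h1, h2⟩ := hf.exists_commute_det p hh (hf.det_mul_σ_det x⁻¹)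
  exact isConj_SIsom x hx k h1 (by rw [Units.ext h2, ← map_mul, inv_mul_cancel, map_one])

end unitary

end Form

end Cfsg.Agent.Forms
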