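import Cfsg.Agent.Lib.Forms.OClass
import Cfsg.Agent.Lib.Forms.SSConj

/-!
Spectra of orthogonal groups in odd characteristic: primary decomposition, spinor norms and
discriminants in terms of eigenvalues.
-/

set_option autoImplicit false

namespace Cfsg.Agent.Forms

open Module Polynomial Form

variable {F : Type*} [Field F] {V W : Type*} [AddCommGroup V] [Module F V]
  [AddCommGroup W] [Module F W] [FiniteDimensional F V] [FiniteDimensional F W]

section pieces

variable [Fintype F]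

theorem prod_orb_pow {K : Type*} [Field K] {q : ℕ} (hq : 0 < q) {φ : K → K}
    (hφ : ∀ x, φ (x ^ q) = φ x ^ q) (α : K) (k : ℕ) :
    ((orb (· ^ q) α k).map φ).prod ^ (q - 1) * φ α = φ α ^ q ^ k := by
  have h : ∀ j, φ ((· ^ q)^[j] α) = φ α ^ q ^ j := fun j => by
    induction j with
    | zero => simp
    | succ j ih => rw [Function.iterate_succ_apply', hφ, ih, ← pow_mul, pow_succ]
  induction k with
  | zero => simp
  | succ k ih =>
    rw [orb_succ, Multiset.map_cons, Multiset.prod_cons, mul_pow, mul_assoc, ih, h, ← pow_succ,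
      Nat.sub_add_cancel hq, ← pow_mul, pow_succ]

theorem add_pow_card_Kc (x y : Kc F) :
    (x + y) ^ Fintype.card F = x ^ Fintype.card F + y ^ Fintype.card F :=
  map_add (FiniteField.frobeniusAlgHom F (Kc F)) x y

theorem add_pow_card_pow_Kc (x y : Kc F) (k : ℕ) :
    (x + y) ^ Fintype.card F ^ k = x ^ Fintype.card F ^ k + y ^ Fintype.card F ^ k := by
  induction k with
  | zero => simp
  | succ k ih => rw [pow_succ, pow_mul, ih, add_pow_card_Kc, ← pow_mul, ← pow_mul]

theorem algebraMap_pow_card_pow (c : F) (k : ℕ) :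
    algebraMap F (Kc F) c ^ Fintype.card F ^ k = algebraMap F (Kc F) c := by
  rw [← map_pow, FiniteField.pow_card_pow]

theorem two_mul_tq_div (h2 : (2 : F) ≠ 0) (k : ℕ) (ε : Bool) :
    2 * (tq (Fintype.card F) k ε / 2) = tq (Fintype.card F) k ε := by
  obtain ⟨c, hc⟩ := (odd_card h2).pow (n := k)
  cases ε <;> simp only [hc, tq_true, tq_false] <;> omega

theorem two_dvd_tq (h2 : (2 : F) ≠ 0) (k : ℕ) (ε : Bool) : 2 ∣ tq (Fintype.card F) k ε :=
  ⟨_, (two_mul_tq_div h2 k ε).symm⟩

theorem prod_map_orb2 {K : Type*} [Field K] (q : ℕ) (φ : K → K) (α : K) (k : ℕ) :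
    ((orb2 q α k).map φ).prod = ((orb (· ^ q) α k).map fun x => φ x * φ x⁻¹).prod := by
  rw [orb2, dbl, Multiset.map_add, Multiset.prod_add, Multiset.map_map, Multiset.prod_map_mul]
  rfl

/-- core of the eigenvalue formulas -/
theorem prod_orb_half (h2 : (2 : F) ≠ 0) {φ : Kc F → Kc F}
    (hφ : ∀ x, φ (x ^ Fintype.card F) = φ x ^ Fintype.card F) {α t s : Kc F} {c : F} {k : ℕ}
    (hc : c ≠ 0) (ht : t ≠ 0) (h : φ α = algebraMap F _ c * t ^ 2)
    (hs : t ^ Fintype.card F ^ k = s * t) :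
    ((orb (· ^ Fintype.card F) α k).map φ).prod ^ (Fintype.card F / 2) = (chi F c : ℤ) ^ k * s := by
  obtain ⟨m, hm⟩ := odd_card h2
  have hq : 0 < Fintype.card F := Fintype.card_pos
  have h1 : ∀ j, φ ((· ^ Fintype.card F)^[j] α) =
      algebraMap F _ c * ((· ^ Fintype.card F)^[j] t) ^ 2 := fun j => by
    induction j with
    | zero => simpa
    | succ j ih =>
      rw [Function.iterate_succ_apply', hφ, ih, Function.iterate_succ_apply', mul_pow, ← map_pow,
        FiniteField.pow_card, pow_right_comm]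
  have h3 := prod_orb_pow hq (φ := id) (fun _ => rfl) t k
  rw [Multiset.map_id, id, hs] at h3
  rw [← mul_right_cancel₀ ht h3, chi_cast h2, orb, orb, Multiset.map_map, Function.comp_def]
  simp only [h1, Multiset.prod_map_mul, Multiset.map_const', Multiset.prod_replicate,
    Multiset.card_range, Multiset.prod_map_pow, mul_pow, ← pow_mul]
  rw [mul_comm k, show 2 * (Fintype.card F / 2) = Fintype.card F - 1 by omega]

theorem spin_piece (h2 : (2 : F) ≠ 0) {α : Kc F} {k : ℕ} {ε : Bool} (h0 : α ≠ 0) (h1 : α ≠ -1)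
    (h : α ^ tq (Fintype.card F) k ε = 1) :
    ((orb2 (Fintype.card F) α k).map fun β => 2 * (1 + β)).prod ^ (Fintype.card F / 2) =
      α ^ (tq (Fintype.card F) k ε / 2) := by
  obtain ⟨γ, rfl⟩ := IsAlgClosed.exists_pow_nat_eq α two_pos
  have hγ : γ ≠ 0 := by rintro rfl; simp at h0
  have h4 : ∀ j, (2 : Kc F) ^ Fintype.card F ^ j = 2 := fun j => by
    simpa only [map_ofNat] using algebraMap_pow_card_pow (2 : F) j
  have h5 : γ ^ tq (Fintype.card F) k ε * γ ^ tq (Fintype.card F) k ε = 1 := by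
    rw [← sq, pow_right_comm, h]
  rw [prod_map_orb2, prod_orb_half h2 (t := 2 * (γ + γ⁻¹)) (c := 1) (k := k)
    (s := γ ^ tq (Fintype.card F) k ε) (fun x => ?_) one_ne_zero
    (mul_ne_zero (two_ne_zero_Kc h2) fun h3 => h1 ?_) (by field_simp; simp; ring)]
  · rw [← pow_mul, two_mul_tq_div h2]; simp
  · rw [mul_pow, h4, add_pow_card_pow_Kc, inv_pow]
    have hq : 0 < Fintype.card F ^ k := by positivity
    cases ε
    · rw [tq_false] at h5 ⊢
      rw [← Nat.sub_add_cancel hq, pow_succ, Nat.add_sub_cancel, mul_inv,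
        inv_eq_of_mul_eq_one_right h5]
      ring
    · rw [tq_true] at h5 ⊢
      have : γ ^ Fintype.card F ^ k = γ ^ (Fintype.card F ^ k + 1) * γ⁻¹ := by
        rw [pow_succ, mul_inv_cancel_right₀ hγ]
      rw [this, mul_inv, inv_eq_of_mul_eq_one_right h5, ← this, inv_inv]
      rw [this]; ring
  · have := h4 1
    rw [pow_one] at this
    simp only [mul_pow, add_pow_card_Kc, this, one_pow, inv_pow]
  · field_simp at h3
    linear_combination h3

/-- the sign of a type -/
def sgnB (ε : Bool) : ℤ := if ε then -1 else 1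

theorem sgnB_mul_self (ε : Bool) : sgnB ε * sgnB ε = 1 := by cases ε <;> rfl

theorem disc_piece (h2 : (2 : F) ≠ 0) {α : Kc F} {k : ℕ} {ε : Bool} (h0 : α ≠ 0) (h1 : α⁻¹ ≠ α)
    (h : α ^ tq (Fintype.card F) k ε = 1) :
    ((orb2 (Fintype.card F) α k).map fun β => 1 - β ^ 2).prod ^ (Fintype.card F / 2) =
      ((chi F (-1) ^ k * sgnB ε : ℤ) : Kc F) := by
  have h3 : ∀ (x y : Kc F) j, (x - y) ^ Fintype.card F ^ j =
      x ^ Fintype.card F ^ j - y ^ Fintype.card F ^ j := fun x y j => by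
    rw [eq_sub_iff_add_eq, ← add_pow_card_pow_Kc, sub_add_cancel]
  rw [prod_map_orb2, prod_orb_half h2 (t := α - α⁻¹) (c := -1) (k := k)
    (s := (sgnB ε : ℤ)) (fun x => ?_) (by simp) (sub_ne_zero.2 h1.symm) (by field_simp; simp; ring)]
  · simp
  · rw [h3, inv_pow]
    have hq : 0 < Fintype.card F ^ k := by positivity
    cases ε
    · rw [tq_false] at h
      rw [← Nat.sub_add_cancel hq, pow_succ, h]
      simp [sgnB]
    · rw [tq_true, pow_succ] at h
      rw [eq_inv_of_mul_eq_one_left h]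
      simp [sgnB]
  · have h4 := fun x y => h3 x y 1
    simp only [pow_one] at h4
    simp only [mul_pow, h4, one_pow, inv_pow, ← pow_mul, mul_comm]

theorem neg_one_pow_tq (h2 : (2 : F) ≠ 0) (k : ℕ) (ε : Bool) :
    (-1 : ℤ) ^ (tq (Fintype.card F) k ε / 2) = chi F (-1) ^ k * sgnB ε := by
  rw [chi_neg_one_pow h2]
  obtain ⟨c, hc⟩ := (odd_card h2).pow (n := k)
  cases ε <;> split_ifs with h <;> simp only [tq_true, tq_false, sgnB]
  · exact Even.neg_one_pow (Nat.even_iff.2 (by omega))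
  · exact Odd.neg_one_pow (Nat.odd_iff.2 (by omega))
  · exact Odd.neg_one_pow (Nat.odd_iff.2 (by omega))
  · exact Even.neg_one_pow (Nat.even_iff.2 (by omega))

theorem Form.Nondeg.disc_cast {f : Form (Param.orth F) V} (hf : f.Nondeg) (h2 : (2 : F) ≠ 0)
    (g : f.Isom) (h : ∀ α ∈ Isom.ev g, α⁻¹ ≠ α) (he : Even (finrank F V)) :
    ((f.disc : ℤ) : Kc F) = ((Isom.ev g).map fun α => 1 - α ^ 2).prod ^ (Fintype.card F / 2) := by
  have h1 := det_aeval (g.1 : V →ₗ[F] V) (1 - X ^ 2)
  simp only [map_sub, map_one, map_pow, aeval_X] at h1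
  have h3 : LinearMap.det (1 - (g.1 : V →ₗ[F] V) ^ 2) ≠ 0 := fun h3 => by
    rw [h3, map_zero, eq_comm, Multiset.prod_eq_zero_iff, Multiset.mem_map] at h1
    obtain ⟨α, hα, h4⟩ := h1
    exact h α hα (inv_eq_of_mul_eq_one_right (by linear_combination -h4))
  have h4 := hf.spin_eq_of_det h2 (g ^ 2) (by rwa [Isom.coe_pow])
  rw [sq, map_mul, hf.spin_mul_self, ← sq, Isom.coe_pow] at h4
  rw [← h1, ← chi_cast h2]
  congr 1
  linear_combination (-chi F (LinearMap.det (1 - (g.1 : V →ₗ[F] V) ^ 2))) * h4 -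
    f.disc * chi_mul_self h3

end pieces

/-! ### regular unipotent elements -/

theorem exists_orth_cyclic {h : F[X]} (h2 : (2 : F) ≠ 0) (hm : h.Monic) (h0 : h.coeff 0 = -1) {n : ℕ}
    (hn : h.natDegree = 2 * n + 3) (hd : h.aroots (Kc F) = (h.aroots (Kc F)).map (·⁻¹))
    (h1 : IsUnit (1 + AdjoinRoot.root h)) :
    ∃ (f : Form (Param.orth F) (AdjoinRoot h)) (g : f.Isom), f.Nondeg ∧
      (g.1 : AdjoinRoot h →ₗ[F] AdjoinRoot h) = rootMul h := by
  have := hm.finite_adjoinRoot
  have h0' : h.coeff 0 ≠ 0 := by rw [h0]; simp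
  obtain ⟨ι, hι, hs, hr⟩ := exists_involution hm h0' (RingHom.id F) (fun _ => rfl)
    (by rwa [Polynomial.map_id])
  set ℓ := topCoeff hm
  set r := AdjoinRoot.root h
  have hrr : r * ι r = 1 := by rw [hr]; exact root_mul_rootInv h0'
  let pb := AdjoinRoot.powerBasis' hm
  have key : ∀ y, ℓ (r ^ (2 * n + 1) * ι y) = ℓ y := by
    let φ : AdjoinRoot h →ₗ[F] F :=
      { toFun := fun y => ℓ (r ^ (2 * n + 1) * ι y)
        map_add' := fun x y => by simp [mul_add]
        map_smul' := fun a x => by simp [hs] }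
    have : φ = ℓ := pb.basis.ext fun j => by
      have hj : (j : ℕ) < h.natDegree := j.2
      rw [pb.basis_eq_pow]
      change ℓ (r ^ (2 * n + 1) * ι (r ^ (j : ℕ))) = ℓ (r ^ (j : ℕ))
      rw [topCoeff_root_pow hm hj, map_pow]
      split_ifs with h1
      · have : (j : ℕ) = 2 * n + 1 + 1 := by omega
        rw [this, pow_succ (ι r), ← mul_assoc, ← mul_pow, hrr, one_pow, one_mul, hr,
          topCoeff_rootInv hm (by omega), h0]
        simp
      · obtain ⟨k, hk⟩ : ∃ k, 2 * n + 1 = k + j := ⟨2 * n + 1 - j, by omega⟩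
        rw [hk, pow_add, mul_assoc, ← mul_pow, hrr, one_pow, mul_one,
          topCoeff_root_pow hm (by omega), if_neg (by omega)]
    exact fun y => LinearMap.congr_fun this y
  let B : AdjoinRoot h →ₗ[F] AdjoinRoot h →ₗ[F] F :=
    algSesq _ ι hs (ℓ ∘ₗ LinearMap.mulLeft F (r ^ n * (1 + r)))
  have hB : ∀ x y, B x y = ℓ (r ^ n * (1 + r) * (x * ι y)) := fun _ _ => rfl
  have hsym : ∀ x y, B y x = B x y := by
    intro x y
    rw [hB, hB, ← key, map_mul ι, map_mul ι, map_mul ι, hι, map_pow, map_add, map_one]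
    congr 1
    have : (r * ι r) ^ n = 1 := by rw [hrr, one_pow]
    linear_combination (r ^ n * r * (1 + ι r) * x * ι y) * this + r ^ n * x * ι y * hrr
  let f := Form.ofQuad (fun x => 2⁻¹ * B x x) B (fun x y => by
    simp only [map_add, LinearMap.add_apply, hsym x y]; field_simp; ring)
    (fun a x => by simp only [map_smul, LinearMap.smul_apply, smul_eq_mul]; ring)
  have hf : f.Nondeg := by
    intro x hx
    have : r ^ n * (1 + r) * x = 0 := topCoeff_nondeg hm _ fun y => by
      have := hx (ι y)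
      change ℓ (r ^ n * (1 + r) * (x * ι (ι y))) = 0 at this
      rwa [hι, ← mul_assoc] at this
    exact ((((IsUnit.of_mul_eq_one _ hrr).pow n).mul h1).mul_right_eq_zero).1 this
  refine ⟨f, Form.Isom.ofEnd hf (rootMul h) (Form.orth_isIsom fun x => ?_), hf, rfl⟩
  change 2⁻¹ * ℓ (_ * (r * x * ι (r * x))) = 2⁻¹ * ℓ (_ * (x * ι x))
  rw [map_mul ι]
  congr 3
  linear_combination (x * ι x) * hrr

omit [FiniteDimensional F V] [FiniteDimensional F W] in
theorem neg_one_ne_one_units' (h2 : (2 : F) ≠ 0) : (-1 : Fˣ) ≠ 1 := fun h => h2 (by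
  have := congrArg Units.val h
  simp only [Units.val_neg, Units.val_one] at this
  linear_combination -this)

/-! ### primary decomposition -/

section primary

variable [Fintype F] (p : ℕ) [Fact p.Prime] [CharP F p]

theorem pexp_le_of_pow_eq_one {P : Param F} {f : Form P V} {g : f.Isom} {K : ℕ}
    (h : g ^ p ^ K = 1) : pexp p g ≤ K :=
  (Nat.pow_dvd_pow_iff_le_right (Fact.out : p.Prime).one_lt).1 ((Isom.pow_eq_one_iff p g _).1 h).2

include p in
theorem Form.Nondeg.exists_primary {P : Param F} {f : Form P V} (hf : f.Nondeg) (g : f.Isom) (c : F)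
    (hc : c * P.σ c = 1) : ∃ (S T : Submodule F V) (g1 : (f.restrict S).Isom)
      (g2 : (f.restrict T).Isom) (i : Iso ((f.restrict S).prod (f.restrict T)) f),
      (f.restrict S).Nondeg ∧ (f.restrict T).Nondeg ∧ g = i.isomEquiv (prodHom _ _ (g1, g2)) ∧
      (∀ α ∈ Isom.ev g1, α = algebraMap F _ c) ∧ algebraMap F _ c ∉ Isom.ev g2 := by
  have hc' : P.σ c * P.σ (P.σ c) = 1 := by rw [P.σσ, mul_comm, hc]
  let a := f.scalar _ hc' * g
  let s := a ^ p ^ pexp p a
  obtain ⟨N, hN, h1⟩ := exists_orderOf_eq p (Isom.orderOf_pos a)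
  have h2 := Isom.disjoint_fix_res s (m := N) (d := 1) (by
    rw [Ne, CharP.cast_eq_zero_iff F p, ← (Fact.out : p.Prime).coprime_iff_not_dvd]; exact hN.symm)
    fun v => by rw [← pow_mul, ← h1, pow_orderOf_eq_one, one_smul]; rfl
  rw [← hf.orth_fix] at h2
  have h3 : Commute g s := ((f.scalar_commute _ hc' g).symm.mul_right (Commute.refl g)).pow_right _
  have h4 : ∀ x ∈ Isom.fix s, g.1 x ∈ Isom.fix s := fun x hx => by
    rw [Isom.mem_fix, ← Isom.mul_apply, ← h3.eq, Isom.mul_apply, Isom.mem_fix.1 hx]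
  have hS := (f.restrict_nondeg_iff _).2 h2
  obtain ⟨g2, h5⟩ := hf.eq_glueHom hS _ (f.isIsom_subtype _) g (Isom.restrict g _ h4) fun _ => rfl
  refine ⟨_, _, _, g2, hf.splitIso hS _ (f.isIsom_subtype _), hS,
    hf.restrict_orth_range ((f.isIsom_subtype _).comap_nondeg hS), h5, fun α hα => ?_, fun h => ?_⟩
  · have h6 : ((f.restrict (Isom.fix s)).scalar _ hc' * Isom.restrict g _ h4) ^ p ^ pexp p a = 1 := by
      have : ∀ k v, ((((f.restrict (Isom.fix s)).scalar _ hc' * Isom.restrict g _ h4) ^ k).1 v : V) =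
          (a ^ k).1 v := fun k => by
        induction k with
        | zero => exact fun _ => rfl
        | succ k ih => intro v; rw [pow_succ, pow_succ, Isom.mul_apply, ih]; rfl
      exact Isom.ext fun v => Subtype.ext ((this _ v).trans (Isom.mem_fix.1 v.2))
    have h7 := eq_one_of_pow_char_pow p (((Isom.pow_eq_one_iff p _ _).1 h6).1 _
      (by rw [Isom.ev_scalar_mul]; exact Multiset.mem_map_of_mem _ hα))
    have h8 := congrArg (algebraMap F (Kc F)) hc
    rw [map_mul, map_one] at h8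
    linear_combination algebraMap F (Kc F) c * h7 - α * h8
  · obtain ⟨v, hv, h6⟩ := algebraMap_mem_ev_iff.1 h
    have h7 : g.1 v = c • v := by
      rw [h5, hf.glueHom_apply_right]; exact congrArg Subtype.val h6
    have h8 : a ∈ MulAction.stabilizer f.Isom v.1 := by
      change P.σ c • g.1 v = v
      rw [h7, smul_smul, mul_comm, hc, one_smul]
    refine hv (Subtype.ext (Submodule.disjoint_def.1 h2 v (Isom.mem_fix.2 (pow_mem h8 _)) ?_))
    simpa using v.2

omit [Fintype F] in
theorem Form.Nondeg.det_eq_pow_res {f : Form (Param.orth F) V} (hf : f.Nondeg) (h2 : (2 : F) ≠ 0)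
    (g : f.Isom) : f.detHom g = (-1) ^ finrank F (Isom.res g) := by
  induction g using hf.refl_ind h2 with
  | h1 => simp [Isom.finrank_res_one]
  | hmul g a h ih =>
    rw [map_mul, ih, detHom_refl]
    rcases hf.finrank_res_mul_refl g a h with e | e
    · rw [← e, pow_succ, mul_assoc]; simp
    · rw [e, pow_succ]

theorem Form.Nondeg.pexp_le_of_even {f : Form (Param.orth F) V} (hf : f.Nondeg) (h2 : (2 : F) ≠ 0)
    {u : f.Isom} (hu : ∀ α ∈ Isom.ev u, α = 1) (he : Even (finrank F V)) {K : ℕ}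
    (hK : finrank F V ≤ p ^ K + 1) : pexp p u ≤ K := by
  rcases subsingleton_or_nontrivial V with h0 | h0
  · rw [show u = 1 from Isom.ext fun _ => Subsingleton.elim _ _, pexp_one]; exact zero_le
  have h1 : f.detHom u = 1 := Isom.mem_SIsom_iff.2 (Multiset.prod_eq_one hu)
  rw [hf.det_eq_pow_res h2, neg_one_pow_eq_one_iff_even (neg_one_ne_one_units' h2)] at h1
  have h3 := Isom.finrank_res_add_fix u
  have h4 : finrank F (Isom.fix u) ≠ 0 := by
    obtain ⟨α, hα⟩ := Multiset.card_pos_iff_exists_mem.1 ((Isom.card_ev u).symm ▸ finrank_pos)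
    obtain ⟨v, hv, h⟩ := algebraMap_mem_ev_iff.1
      (show algebraMap F _ 1 ∈ Isom.ev u by rwa [map_one, ← hu α hα])
    rw [Ne, Submodule.finrank_eq_zero]
    exact (Submodule.ne_bot_iff _).2 ⟨v, Isom.mem_fix.2 (by simpa using h), hv⟩
  have h5 : IsNilpotent (Isom.N u) := by
    have := isNilpotent_aeval (g := (u.1 : V →ₗ[F] V)) (P := X - 1) fun α hα => by simp [hu α hα]
    rwa [map_sub, aeval_X, map_one] at this
  have h6 : ∀ x ∈ Isom.res u, Isom.N u x ∈ Isom.res u := fun x _ => ⟨x, rfl⟩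
  have h7 := LinearMap.aeval_self_charpoly ((Isom.N u).restrict h6)
  rw [(Module.End.isNilpotent.restrict h6 h5).charpoly_eq_X_pow_finrank, map_pow, aeval_X,
    Module.End.pow_restrict] at h7
  have h8 : ((u.1 : V →ₗ[F] V) - 1) ^ (finrank F (Isom.res u) + 1) = 0 := LinearMap.ext fun v =>
    by rw [pow_succ]; exact congrArg Subtype.val (LinearMap.congr_fun h7 ⟨_, v, rfl⟩)
  have h9 := pow_char_pow_of_nilpotent p (Commute.one_right _) h8 (k := K) (by
    obtain ⟨a, ha⟩ := h1
    obtain ⟨b, hb⟩ := he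
    omega)
  rw [one_pow, ← Isom.coe_pow] at h9
  exact pexp_le_of_pow_eq_one p (Isom.ext fun v => LinearMap.congr_fun h9 v)

end primary

end Cfsg.Agent.Forms
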