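import Cfsg.Agent.Lib.Forms.OSpec

/-!
Element orders in `Ω` (odd characteristic): analysis and synthesis.
-/

set_option autoImplicit false

namespace Cfsg.Agent.Forms

open Module Polynomial Form

variable {F : Type*} [Field F] [Fintype F] {V W : Type*} [AddCommGroup V] [Module F V]
  [AddCommGroup W] [Module F W] [FiniteDimensional F V] [FiniteDimensional F W]

/-! ### the centre -/

theorem Form.siegel_mem_commutator {f : Form (Param.orth F) V} (hf : f.Nondeg) (h2 : (2 : F) ≠ 0)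
    (u v : V) (hu : f.Q u = 0) (hv : f.B v u = 0) (h : f.Q v ≠ 0) :
    f.siegel u v hu hv ∈ commutator f.Isom := by
  rw [f.siegel_eq_refl_mul u v hu hv h]
  refine hf.refl_mul_refl_mem_commutator _ _ ⟨f.Q v, ?_⟩
  rw [orth_Q_add, orth_Q_smul, orth_B_smul_right, hu, hv]; ring

theorem Form.Nondeg.omega_scalar_of_mem_center {f : Form (Param.orth F) V} (hf : f.Nondeg)
    (h2 : (2 : F) ≠ 0) (h3 : 3 ≤ finrank F V) (z : f.Isom)
    (hz : ∀ g ∈ commutator f.Isom, Commute z g) : ∃ c : F, ∀ v, z.1 v = c • v := by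
  obtain ⟨u, hu0, hu⟩ := hf.orth_exists_singular h3
  obtain ⟨e, he⟩ := hf.exists_hypPair hu hu0
  have key : ∀ {u e : V}, f.HypPair u e → ∃ w, f.B w u = 0 ∧ f.B w e = 0 ∧ f.Q w ≠ 0 := by
    intro u e he
    have := he.finrank_orth hf
    have : Nontrivial (f.orth (Submodule.span F {u, e})) :=
      Module.nontrivial_of_finrank_pos (R := F) (by omega)
    obtain ⟨w, hw⟩ := (he.restrict_orth_nondeg hf).orth_exists_Q_ne
    exact ⟨w, (mem_orth_pair.1 w.2).1, (mem_orth_pair.1 w.2).2, hw⟩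
  obtain ⟨w, h4, h5, h6⟩ := key he
  refine scalar_of_fix_singular he ⟨w, _, h4, h5, f.orth_isLam w, h6⟩ z fun x hx => ?_
  by_cases hx0 : x = 0
  · exact ⟨0, by simp [hx0]⟩
  obtain ⟨y, hy⟩ := hf.exists_hypPair hx hx0
  obtain ⟨v, h7, -, h8⟩ := key hy
  let t := f.siegel x v hx h7
  have h9 : ∀ a, t.1 (t.1 a - a) - (t.1 a - a) = (-2 * f.Q v * f.B a x) • x := fun a => by
    simp only [t, siegel_apply, map_sub, map_add, map_smul, h7, f.B_self_of_Q hx,
      f.B_eq_zero_symm h7, orth_B_self]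
    module
  have h10 : ∀ a, z.1 (t.1 a) = t.1 (z.1 a) := fun a => by
    rw [← Isom.mul_apply, (hz t (f.siegel_mem_commutator hf h2 _ _ _ _ h8)).eq, Isom.mul_apply]
  have h11 := congrArg z.1 (h9 y)
  rw [map_sub, h10, map_sub, h10, h9, map_smul, hy.Beu] at h11
  have h12 : -2 * f.Q v * (Param.orth F).ε ≠ 0 := by simp [h2, h8]
  exact ⟨_, by rw [← inv_smul_smul₀ h12 (z.1 x), ← h11, smul_smul]⟩

theorem Form.Nondeg.omega_center_eq_bot {f : Form (Param.orth F) V} (hf : f.Nondeg)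
    (h2 : (2 : F) ≠ 0) (h3 : 3 ≤ finrank F V) (ho : Odd (finrank F V)) :
    Subgroup.center (commutator f.Isom) = ⊥ := by
  rw [eq_bot_iff]
  intro z hz
  obtain ⟨c, hc⟩ := hf.omega_scalar_of_mem_center h2 h3 z fun g hg =>
    congrArg Subtype.val (Subgroup.mem_center_iff.1 hz ⟨g, hg⟩).symm
  have h4 := mem_SIsom.1 ((hf.mem_commutator_iff h2 _).1 z.2).1
  rw [show (z.1.1 : V →ₗ[F] V) = c • LinearMap.id from LinearMap.ext hc, LinearMap.det_smul,
    LinearMap.det_id, mul_one] at h4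
  have : Nontrivial V := Module.nontrivial_of_finrank_pos (R := F) (by omega)
  obtain ⟨v, hv⟩ := hf.orth_exists_Q_ne
  have h5 := Isom.map_Q z.1 v
  rw [hc, orth_Q_smul, mul_eq_right₀ hv] at h5
  obtain ⟨k, hk⟩ := ho
  rw [hk, pow_succ, pow_mul, sq, h5, one_pow, one_mul] at h4
  exact Subtype.ext (Isom.ext fun v => by rw [hc, h4, one_smul]; rfl)

theorem range_orderOf_equiv {G H : Type*} [Group G] [Group H] (e : G ≃* H) :
    Set.range (orderOf : G → ℕ) = Set.range (orderOf : H → ℕ) := by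
  rw [← e.surjective.range_comp]
  exact congrArg _ (funext fun g => (e.orderOf_eq g).symm)

theorem range_orderOf_POmega_odd (h2 : (2 : F) ≠ 0) {n : ℕ} (hn : 1 ≤ n) :
    Set.range (orderOf : POmega F (quadFormOdd n F) → ℕ) =
      Set.range (orderOf : commutator (oddForm n F).Isom → ℕ) :=
  range_orderOf_equiv ((centerQuotEquiv (commutatorEquiv (oddEquiv n F))).trans
    ((QuotientGroup.quotientMulEquivOfEq ((oddForm_nondeg n h2).omega_center_eq_bot h2
      (by rw [finrank_odd]; omega) (by rw [finrank_odd]; exact odd_two_mul_add_one n))).trans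
      QuotientGroup.quotientBot))

theorem mem_range_orderOf_of_dvd {G : Type*} [Group G] [Finite G] {x : G} {m : ℕ}
    (h : m ∣ orderOf x) : m ∈ Set.range (orderOf : G → ℕ) :=
  ⟨x ^ (orderOf x / m), orderOf_pow_orderOf_div (orderOf_pos x).ne' h⟩

/-! ### analysis -/

variable (p : ℕ) [Fact p.Prime] [CharP F p]

theorem Form.Nondeg.exists_ospec {f : Form (Param.orth F) V} (hf : f.Nondeg) (h2 : (2 : F) ≠ 0)
    {g : f.Isom} (hg : g ∈ commutator f.Isom) :
    ∃ (a b r : ℕ) (α : Fin r → Kc F) (k e : Fin r → ℕ) (ε : Fin r → Bool),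
      (∀ i, (α i)⁻¹ ≠ α i) ∧ (∀ i, 0 < k i) ∧ (∀ i, 0 < e i) ∧
      (∀ i, α i ^ tq (Fintype.card F) (k i) (ε i) = 1) ∧
      a + b + 2 * ∑ i, k i * e i = finrank F V ∧ Even b ∧
      Isom.ev g = Multiset.replicate a 1 + Multiset.replicate b (-1) +
        ∑ i, e i • orb2 (Fintype.card F) (α i) (k i) ∧
      (∀ K, a ≤ p ^ K → b ≤ p ^ K + 1 → (∀ i, e i ≤ p ^ K) → pexp p g ≤ K) ∧
      (b = 0 → ∏ i, (α i ^ (tq (Fintype.card F) (k i) (ε i) / 2)) ^ e i = 1) := by
  obtain ⟨hd, hs⟩ := (hf.mem_commutator_iff h2 g).1 hg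
  obtain ⟨S, T, g1, g2, i, hS, hT, h1, h3, h4⟩ := hf.exists_primary p g (-1) (by simp)
  obtain ⟨a, b, r, α, k, e, a0, a1, a2, a3, a4, -, a5, a6, a7⟩ := hT.exists_spec2 p (fun _ => rfl) g2
  rw [map_neg, map_one] at h3 h4
  obtain rfl : b = 0 := by
    by_contra h
    exact h4 (by simp [a6, h, Multiset.mem_replicate])
  choose ε hε using fun i => (cl_iff Fintype.card_pos (a0 i)).1 ((a4 i _).2 dvd_rfl)
  have h5 : Isom.ev g1 = Multiset.replicate (finrank F S) (-1) :=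
    Multiset.eq_replicate.2 ⟨Isom.card_ev _, h3⟩
  have h6 : Isom.ev g = Multiset.replicate a 1 + Multiset.replicate (finrank F S) (-1) +
      ∑ i, e i • orb2 (Fintype.card F) (α i) (k i) := by
    rw [h1, i.ev_isomEquiv, ev_prodHom, h5, a6]; simp [add_assoc, add_left_comm]
  have h7 : Even (finrank F S) := by
    have := Isom.mem_SIsom_iff.1 hd
    rw [h6] at this
    simp only [Multiset.prod_add, Multiset.prod_replicate, one_pow, one_mul, Multiset.prod_sum,
      Multiset.prod_nsmul, prod_orb2 (a0 _), Finset.prod_const_one, mul_one] at this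
    exact (neg_one_pow_eq_one_iff_even fun h => two_ne_zero_Kc h2 (by linear_combination -h)).1 this
  refine ⟨a, finrank F S, r, α, k, e, ε, a1, a2, a3, hε, ?_, h7, h6, fun K b1 b2 b3 => ?_,
    fun h => ?_⟩
  · rw [← i.e.finrank_eq, finrank_prod, ← a5]; ring
  · rw [h1, show i.isomEquiv (prodHom _ _ (g1, g2)) =
      (i.isomEquiv.toMonoidHom.comp (prodHom _ _)) (g1, g2) from rfl,
      pexp_injective p _ (i.isomEquiv.injective.comp (prodHom_injective _ _)),
      pexp_prod p (Isom.orderOf_pos _) (Isom.orderOf_pos _)]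
    refine max_le ?_ (a7 K b1 zero_le b3)
    rw [← Isom.pexp_scalar_mul p (-1) (by simp)]
    refine hS.pexp_le_of_even p h2 (fun β hβ => ?_) h7 b2
    rw [Isom.ev_scalar_mul, Multiset.mem_map] at hβ
    obtain ⟨γ, hγ, rfl⟩ := hβ
    simp [h3 γ hγ]
  · have h8 : -1 ∉ Isom.ev g := by
      rw [h1, i.ev_isomEquiv, ev_prodHom, h5, h]; simpa
    have h9 := hf.spin_cast h2 g h8
    obtain ⟨c, hc⟩ := odd_card h2
    have h10 : ((2 : Kc F) * (1 + 1)) ^ (Fintype.card F / 2) = 1 := by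
      have := chi_cast h2 (2 * 2)
      rw [chi_mul_self' h2, map_mul, map_ofNat] at this
      rw [one_add_one_eq_two, ← this, Int.cast_one]
    rw [hs, h6, h, Multiset.replicate_zero, add_zero, Multiset.map_add, Multiset.prod_add, mul_pow,
      Multiset.map_replicate, Multiset.prod_replicate, pow_right_comm, h10, one_pow, one_mul,
      ← Multiset.coe_mapAddMonoidHom, map_sum, Multiset.prod_sum, ← Finset.prod_pow,
      Int.cast_one] at h9
    rw [h9]
    exact Finset.prod_congr rfl fun j _ => by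
      rw [map_nsmul, Multiset.prod_nsmul, pow_right_comm _ (e j), Multiset.coe_mapAddMonoidHom,
        spin_piece h2 (a0 j) (fun h => a1 j (by simp [h])) (hε j)]

/-- numerical spectral data -/
def ODat (p q d M : ℕ) : Prop := ∃ (a b r : ℕ) (k e : Fin r → ℕ) (ε : Fin r → Bool) (K : ℕ),
  (∀ i, 0 < k i) ∧ (∀ i, 0 < e i) ∧ a + b + 2 * ∑ i, k i * e i = d ∧ Even b ∧
  (∀ K', a ≤ p ^ K' → b ≤ p ^ K' + 1 → (∀ i, e i ≤ p ^ K') → K ≤ K') ∧
  (∀ m, (b ≠ 0 → 2 ∣ m) → (∀ i, tq q (k i) (ε i) ∣ m) → M ∣ p ^ K * m) ∧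
  (b = 0 → ∀ i, (∀ j, j = i) → e i = 1 → M ∣ p ^ K * (tq q (k i) (ε i) / 2))

open Classical in
theorem Form.Nondeg.odat {f : Form (Param.orth F) V} (hf : f.Nondeg) (h2 : (2 : F) ≠ 0)
    {g : f.Isom} (hg : g ∈ commutator f.Isom) {M δ : ℕ}
    (H : ∀ K m, g ^ (p ^ K * m) = 1 → (Isom.ev g).count 1 + δ ≤ p ^ K → M ∣ p ^ K * m) :
    ODat p (Fintype.card F) (finrank F V + δ) M := by
  obtain ⟨a, b, r, α, k, e, ε, a1, a2, a3, a4, a5, a6, a7, a8, a9⟩ := hf.exists_ospec p h2 hg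
  have hp := (Fact.out : p.Prime).one_lt
  have h1 : (Isom.ev g).count 1 = a := by
    have : (-1 : Kc F) ≠ 1 := fun h => two_ne_zero_Kc h2 (by linear_combination -h)
    rw [a7, Multiset.count_add, Multiset.count_add, Multiset.count_replicate_self,
      Multiset.count_replicate, if_neg this, Multiset.count_eq_zero.2, add_zero, add_zero]
    simp only [Multiset.mem_sum, not_exists, not_and]
    exact fun i _ h => inv_ne_of_mem_orb2 (a1 i) (Multiset.mem_of_mem_nsmul h) inv_one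
  have key : ∀ m, (b ≠ 0 → 2 ∣ m) → (∀ i, α i ^ m = 1) →
      M ∣ p ^ max (pexp p g) (Nat.clog p (a + δ)) * m := fun m h3 h4 => by
    refine H _ m ((Isom.pow_eq_one_iff p _ _).2 ⟨fun β hβ => ?_,
      (pow_dvd_pow _ le_sup_left).mul_right _⟩)
      (h1 ▸ (Nat.clog_le_iff_le_pow hp).1 le_sup_right)
    rw [mul_comm, pow_mul, show β ^ m = 1 from ?_, one_pow]
    simp only [a7, Multiset.mem_add, Multiset.mem_replicate, Multiset.mem_sum] at hβ
    rcases hβ with (⟨-, rfl⟩ | ⟨h, rfl⟩) | ⟨i, -, h⟩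
    · exact one_pow m
    · exact (even_iff_two_dvd.2 (h3 h)).neg_one_pow
    · exact pow_eq_of_mem_orb2 (h4 i) inv_one (one_pow _) (Multiset.mem_of_mem_nsmul h)
  refine ⟨a + δ, b, r, k, e, ε, max (pexp p g) (Nat.clog p (a + δ)), a2, a3, by omega, a6,
    fun K b1 b2 b3 => max_le (a8 K (by omega) b2 b3) ((Nat.clog_le_iff_le_pow hp).2 b1),
    fun m b1 b2 => key m b1 fun i => ?_, fun b1 i b2 b3 => key _ (absurd b1) fun j => ?_⟩
  · obtain ⟨c, rfl⟩ := b2 i
    rw [pow_mul, a4, one_pow]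
  · have := a9 b1
    rwa [Finset.prod_eq_single i (fun j _ h => absurd (b2 j) h) (by simp), b3, pow_one,
      congrArg α (b2 j).symm] at this

theorem Form.Nondeg.odat_orderOf {f : Form (Param.orth F) V} (hf : f.Nondeg) (h2 : (2 : F) ≠ 0)
    (g : commutator f.Isom) : ODat p (Fintype.card F) (finrank F V) (orderOf g) :=
  hf.odat p h2 g.2 (δ := 0) fun K m h _ => by
    rw [← Subgroup.orderOf_coe]; exact orderOf_dvd_of_pow_eq_one h

/-! ### synthesis -/

/-- diagonal forms -/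
def diagForm {n : ℕ} (c : Fin n → F) : Form (Param.orth F) (Fin n → F) := pi fun i => lineForm (c i)

omit [Fintype F] in
theorem diagForm_nondeg (h2 : (2 : F) ≠ 0) {n : ℕ} {c : Fin n → F} (hc : ∀ i, c i ≠ 0) :
    (diagForm c).Nondeg := pi_nondeg fun i => lineForm_nondeg h2 (hc i)

theorem disc_diagForm (h2 : (2 : F) ≠ 0) {n : ℕ} {c : Fin n → F} (hc : ∀ i, c i ≠ 0) :
    (diagForm c).disc = ∏ i, chi F (2 * c i) := by
  have h : ∀ i j, (diagForm c).B (Pi.basisFun F _ i) (Pi.basisFun F _ j) =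
      if i = j then 2 * c i else 0 := fun i j => by
    by_cases h : i = j <;> simp [diagForm, pi_B, lineForm_B, Pi.single_apply, h, eq_comm]
  rw [disc_of_orthFam (Pi.basisFun F _) ⟨fun i j hij => by rw [h, if_neg hij],
    fun i => by rw [h]; simp [h2, hc]⟩]
  simp only [← orth_B_self, h, if_true]

theorem exists_form_disc (h2 : (2 : F) ≠ 0) {n : ℕ} (hn : 0 < n) {d : ℤ} (hd : d * d = 1) :
    ∃ f : Form (Param.orth F) (Fin n → F), f.Nondeg ∧ f.disc = d := by
  obtain ⟨c, hc, rfl⟩ := exists_chi_eq h2 hd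
  let i : Fin n := ⟨0, hn⟩
  have h : ∀ j, 2⁻¹ * Pi.mulSingle (M := fun _ => F) i c j ≠ 0 := fun j => by
    by_cases h : j = i <;> simp [h, h2, hc]
  refine ⟨_, diagForm_nondeg h2 h, ?_⟩
  rw [disc_diagForm h2 h, ← map_prod]
  simp [h2]

/-- realisation with discriminant and spinor norm -/
def RealzO (h2 : (2 : F) ≠ 0) (p : ℕ) (R : Multiset (Kc F)) (k : ℕ) (d s : ℤ) : Prop :=
  ∃ (n : ℕ) (f : Form (Param.orth F) (Fin n → F)) (g : f.Isom) (hf : f.Nondeg),
    Isom.ev g = R ∧ pexp p g = k ∧ f.disc = d ∧ hf.spin h2 g = s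

namespace RealzO

variable {p} {h2 : (2 : F) ≠ 0}

omit [Fact p.Prime] [CharP F p] in
theorem of {f : Form (Param.orth F) V} (hf : f.Nondeg) (g : f.Isom) :
    RealzO h2 p (Isom.ev g) (pexp p g) f.disc (hf.spin h2 g) := by
  let i := (f.comapIso (Module.finBasis F V).equivFun.symm).symm
  exact ⟨_, _, i.isomEquiv g, i.nondeg hf, i.ev_isomEquiv g,
    pexp_injective p i.isomEquiv.toMonoidHom i.isomEquiv.injective g, i.disc_eq,
    hf.spin_isomEquiv h2 _ i g⟩

omit [CharP F p] in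
theorem add {R R' : Multiset (Kc F)} {k k' : ℕ} {d d' s s' : ℤ} (h : RealzO h2 p R k d s)
    (h' : RealzO h2 p R' k' d' s') : RealzO h2 p (R + R') (max k k') (d * d') (s * s') := by
  obtain ⟨n, f, g, hf, rfl, rfl, rfl, rfl⟩ := h
  obtain ⟨n', f', g', hf', rfl, rfl, rfl, rfl⟩ := h'
  have := of (p := p) (h2 := h2) (hf.prod hf') (prodHom f f' (g, g'))
  rwa [ev_prodHom, pexp_injective p _ (prodHom_injective f f'),
    pexp_prod p (Isom.orderOf_pos g) (Isom.orderOf_pos g'), disc_prod, hf.spin_prodHom h2 hf'] at this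

omit [Fact p.Prime] [CharP F p] in
theorem zero : RealzO h2 p 0 0 1 1 := by
  have := of (p := p) (h2 := h2) (diagForm_nondeg h2 (n := 0) (c := 1) (by simp)) 1
  rw [Isom.ev_one, pexp_one, disc_diagForm h2 (by simp), map_one] at this
  simpa using this

omit [CharP F p] in
theorem sum {ι : Type*} (t : Finset ι) {R : ι → Multiset (Kc F)} {d s : ι → ℤ}
    (h : ∀ i, RealzO h2 p (R i) 0 (d i) (s i)) :
    RealzO h2 p (∑ i ∈ t, R i) 0 (∏ i ∈ t, d i) (∏ i ∈ t, s i) := by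
  classical
  induction t using Finset.induction_on with
  | empty => simpa using zero
  | insert i t hi ih =>
    rw [Finset.sum_insert hi, Finset.prod_insert hi, Finset.prod_insert hi]
    exact (h i).add ih

omit [Fact p.Prime] [CharP F p] in
theorem one {n : ℕ} (hn : 0 < n) {d : ℤ} (hd : d * d = 1) :
    RealzO h2 p (Multiset.replicate n 1) 0 d 1 := by
  obtain ⟨f, hf, rfl⟩ := exists_form_disc h2 hn hd
  simpa [Isom.ev_one, pexp_one] using of (p := p) (h2 := h2) hf 1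

theorem neg_one {n : ℕ} (hn : 0 < n) {d : ℤ} (hd : d * d = 1) :
    RealzO h2 p (Multiset.replicate (2 * n) (-1)) 0 d d := by
  obtain ⟨f, hf, rfl⟩ := exists_form_disc h2 (n := 2 * n) (by omega) hd
  have := of (p := p) (h2 := h2) hf f.negOne
  rw [hf.spin_negOne, ← mul_one f.negOne, negOne, Isom.ev_scalar_mul, Isom.pexp_scalar_mul,
    pexp_one, Isom.ev_one] at this
  simpa [pow_mul, sq, chi_mul_self h2] using this

theorem orb2 {ζ : Kc F} {k : ℕ} {ε : Bool} (h0 : ζ ≠ 0) (hk : 0 < k)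
    (h : ζ ^ tq (Fintype.card F) k ε = 1) : ∃ s : ℤ, (s : Kc F) = ζ ^ (tq (Fintype.card F) k ε / 2) ∧
      RealzO h2 p (orb2 (Fintype.card F) ζ k) 0 (chi F (-1) ^ k * sgnB ε) s := by
  have hd : chi F (-1) ^ k * sgnB ε * (chi F (-1) ^ k * sgnB ε) = 1 := by
    rw [mul_mul_mul_comm, ← mul_pow, chi_mul_self (by simp), sgnB_mul_self]; simp
  by_cases h1 : ζ⁻¹ = ζ
  · have h3 : Forms.orb2 (Fintype.card F) ζ k = Multiset.replicate (2 * k) ζ :=
      Multiset.eq_replicate.2 ⟨card_orb2 _ _ _, fun β hβ => by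
        simpa using pow_eq_of_mem_orb2 (pow_one ζ) h1 (pow_card_of_inv_eq h0 h1) hβ⟩
    rw [h3]
    rcases (inv_eq_self_iff h0).1 h1 with rfl | rfl
    · exact ⟨1, by simp, one (by omega) hd⟩
    · exact ⟨_, by rw [← neg_one_pow_tq h2]; simp, neg_one hk hd⟩
  obtain ⟨n, f, g, hf, h3, h4⟩ := (realz_orb2_ss p h0 ((cl_iff Fintype.card_pos h0).2
    ⟨ε, h⟩)).sp_to_orth fun β hβ => inv_ne_of_mem_orb2 h1 hβ
  have h5 : ∀ β ∈ Isom.ev g, β⁻¹ ≠ β := fun β hβ => inv_ne_of_mem_orb2 h1 (h3 ▸ hβ)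
  refine ⟨hf.spin h2 g, ?_, n, f, g, hf, h3, h4, intCast_injOn h2 hf.disc_mul_self hd ?_, rfl⟩
  · rw [hf.spin_cast h2 g fun h => h5 _ h (by simp), h3, spin_piece h2 h0 (fun h => h1 (by simp [h])) h]
  · rw [hf.disc_cast h2 g h5 (by rw [← Isom.card_ev g, h3, card_orb2]; exact even_two_mul k), h3,
      disc_piece h2 h0 h1 h]

theorem sum_orb2 {ι : Type*} [Fintype ι] {ζ : ι → Kc F} {k : ι → ℕ} {ε : ι → Bool}
    (h0 : ∀ i, ζ i ≠ 0) (hk : ∀ i, 0 < k i) (h : ∀ i, ζ i ^ tq (Fintype.card F) (k i) (ε i) = 1)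
    (hs : ∏ i, ζ i ^ (tq (Fintype.card F) (k i) (ε i) / 2) = 1) :
    RealzO h2 p (∑ i, Forms.orb2 (Fintype.card F) (ζ i) (k i)) 0
      (chi F (-1) ^ (∑ i, k i) * ∏ i, sgnB (ε i)) 1 := by
  choose s h1 h3 using fun i => orb2 (p := p) (h2 := h2) (h0 i) (hk i) (h i)
  have := sum Finset.univ h3
  rw [Finset.prod_mul_distrib, Finset.prod_pow_eq_pow_sum] at this
  obtain ⟨n, f, g, hf, a1, a2, a3, a4⟩ := this
  refine ⟨n, f, g, hf, a1, a2, a3, intCast_injOn h2 (hf.spin_mul_self h2 g) (mul_one 1) ?_⟩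
  rw [a4, Int.cast_prod, Int.cast_one, ← hs]
  exact Finset.prod_congr rfl fun i _ => h1 i

omit [Fact p.Prime] [CharP F p] in
theorem exists_odd {R : Multiset (Kc F)} {k : ℕ} {d : ℤ} (h : RealzO h2 p R k d 1) (hR : R.prod = 1)
    {f : Form (Param.orth F) V} (hf : f.Nondeg) (hc : R.card = finrank F V) (ho : Odd R.card) :
    ∃ g ∈ commutator f.Isom, Isom.ev g = R ∧ pexp p g = k := by
  obtain ⟨n, f', g, hf', rfl, rfl, -, h3⟩ := h
  rw [Isom.card_ev] at hc ho
  obtain ⟨φ, e, he⟩ := hf'.exists_equiv_odd hf h2 hc ho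
  exact ⟨φ g, (mem_commutator_equiv φ g).2 ((hf'.mem_commutator_iff h2 g).2
    ⟨Isom.mem_SIsom_iff.2 hR, h3⟩), (ev_eq_of_comm e fun v => (he g v).symm).symm,
    pexp_injective p φ.toMonoidHom φ.injective g⟩

end RealzO

theorem exists_orth_unip (h2 : (2 : F) ≠ 0) (m : ℕ) :
    ∃ (f : Form (Param.orth F) (Fin (2 * m + 1) → F)) (g : f.Isom), f.Nondeg ∧
      Isom.ev g = Multiset.replicate (2 * m + 1) 1 ∧ pexp p g = Nat.clog p (2 * m + 1) ∧
      ((g.1 : (Fin (2 * m + 1) → F) →ₗ[F] (Fin (2 * m + 1) → F)) - 1) ^ (2 * m) ≠ 0 := by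
  rcases m with _ | m
  · exact ⟨_, 1, diagForm_nondeg h2 (c := 1) (by simp), by simp [Isom.ev_one], by simp [pexp_one],
      by simp⟩
  let h : F[X] := (X - C 1) ^ (2 * (m + 1) + 1)
  have hm : h.Monic := (monic_X_sub_C 1).pow _
  have hd : h.natDegree = 2 * (m + 1) + 1 := by
    rw [(monic_X_sub_C 1).natDegree_pow, natDegree_X_sub_C, mul_one]
  have hr : h.aroots (Kc F) = (2 * (m + 1) + 1) • {1} := by
    rw [aroots_pow, aroots_X_sub_C, map_one]
  have := hm.finite_adjoinRoot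
  obtain ⟨f, g, hf, hg⟩ := exists_orth_cyclic h2 hm (n := m)
    (by rw [coeff_zero_eq_eval_zero]; simp [h, pow_succ]) (by omega) (by simp [hr, Multiset.map_nsmul]) (by
      have h1 : IsNilpotent (AdjoinRoot.root h - 1) := ⟨2 * (m + 1) + 1, by
        simpa [h] using AdjoinRoot.mk_self (f := h)⟩
      have := h1.isUnit_add_left_of_commute (u := 2) (by
        simpa only [map_ofNat] using (IsUnit.mk0 _ h2).map (algebraMap F (AdjoinRoot h)))
        (Commute.all _ _)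
      convert this using 1; ring)
  let i := (f.comapIso (Module.finBasisOfFinrankEq F _
    ((finrank_adjoinRoot hm).trans hd)).equivFun.symm).symm
  refine ⟨_, i.isomEquiv g, i.nondeg hf, ?_, ?_, fun h1 => ?_⟩
  · rw [i.ev_isomEquiv, Isom.ev, hg, ev_rootMul hm, hr, Multiset.nsmul_singleton]
  · rw [← pexp_of_cyclic p hm (by simp) (by simp) hr g.1 hg, pexp_coe]
    exact pexp_injective p i.isomEquiv.toMonoidHom i.isomEquiv.injective g
  · have h3 : aeval (rootMul h) ((X - C 1) ^ (2 * (m + 1)) : F[X]) = 0 := by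
      apply i.e.conjRingEquiv.injective
      rw [i.isomEquiv_coe, hg] at h1
      simp only [map_pow, map_sub, map_one, aeval_X, map_zero]
      exact h1
    have := natDegree_le_of_dvd ((aeval_rootMul_eq_zero_iff _).1 h3) ((monic_X_sub_C 1).pow _).ne_zero
    rw [hd, (monic_X_sub_C 1).natDegree_pow, natDegree_X_sub_C] at this
    omega

omit [Fintype F] in
theorem char_odd (h2 : (2 : F) ≠ 0) : Odd p :=
  (Fact.out : p.Prime).odd_of_ne_two fun h => h2 (by
    have := CharP.cast_eq_zero F p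
    rwa [h] at this)

theorem Form.Nondeg.spin_of_unip {f : Form (Param.orth F) V} (hf : f.Nondeg) (h2 : (2 : F) ≠ 0)
    {g : f.Isom} (h : ∀ α ∈ Isom.ev g, α = 1) : hf.spin h2 g = 1 := by
  obtain ⟨p, hc⟩ := CharP.exists F
  haveI : Fact p.Prime := ⟨CharP.char_is_prime F p⟩
  exact ((hf.mem_commutator_iff h2 g).1 (hf.mem_commutator_of_odd (Or.inl (exists_ne_zero_one h2))
    (char_odd p h2).pow ((Isom.pow_eq_one_iff p g _).2
      ⟨fun α hα => by rw [h α hα, one_pow], dvd_rfl⟩))).2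

theorem realzO_unip (h2 : (2 : F) ≠ 0) (m : ℕ) {K : ℕ} (hK : K ≤ Nat.clog p (2 * m + 1)) :
    ∃ d, RealzO h2 p (Multiset.replicate (2 * m + 1) 1) K d 1 := by
  obtain ⟨f, g, hf, h1, h3, -⟩ := exists_orth_unip p h2 m
  have := Realz.of (p := p) hf g
  rw [h1, h3] at this
  obtain ⟨n, f, g, hf, h1, h3⟩ := this.unip_mono hK
  exact ⟨_, n, f, g, hf, h1, h3, rfl,
    hf.spin_of_unip h2 fun α hα => Multiset.eq_of_mem_replicate (h1 ▸ hα)⟩

theorem Form.Nondeg.exists_omega_odd {f : Form (Param.orth F) V} (hf : f.Nondeg) (h2 : (2 : F) ≠ 0)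
    {ι : Type*} [Fintype ι] {ζ : ι → Kc F} {k : ι → ℕ} {ε : ι → Bool}
    (h0 : ∀ i, ζ i ≠ 0) (hk : ∀ i, 0 < k i) (h : ∀ i, ζ i ^ tq (Fintype.card F) (k i) (ε i) = 1)
    (hs : ∏ i, ζ i ^ (tq (Fintype.card F) (k i) (ε i) / 2) = 1) {m K : ℕ}
    (hd : finrank F V = 2 * (∑ i, k i + m) + 1) (hK : K ≤ Nat.clog p (2 * m + 1)) :
    ∃ g : commutator f.Isom, p ^ K ∣ orderOf g ∧ ∀ i, ζ i ^ orderOf g = 1 := by
  obtain ⟨d, h3⟩ := realzO_unip p h2 m hK
  have h4 := (RealzO.sum_orb2 h0 hk h hs).add h3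
  have h5 : (∑ i, orb2 (Fintype.card F) (ζ i) (k i) + Multiset.replicate (2 * m + 1) 1).card =
      2 * (∑ i, k i + m) + 1 := by
    simp [Multiset.card_sum, ← Finset.mul_sum]; ring
  obtain ⟨g, h6, h7, h8⟩ := (mul_one (1 : ℤ) ▸ h4).exists_odd
    (by simp [Multiset.prod_sum, prod_orb2 (h0 _)]) hf (h5.trans hd.symm)
    (h5 ▸ odd_two_mul_add_one _)
  have h9 := (Isom.orderOf_dvd_iff p g _).1 dvd_rfl
  refine ⟨⟨g, h6⟩, ?_, fun i => ?_⟩ <;> rw [← Subgroup.orderOf_coe]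
  · simpa [h8] using h9.2
  · exact h9.1 _ (h7 ▸ Multiset.mem_add.2 (Or.inl (Multiset.mem_sum.2
      ⟨i, Finset.mem_univ _, self_mem_orb2 (hk i)⟩)))

end Cfsg.Agent.Forms
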