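import Cfsg.Agent.Lib.Forms.Card
import Cfsg.Agent.Lib.Forms.Eigen
import Cfsg.Agent.Lib.Forms.OrthMax

/-! Fixed vectors of `p`-groups of isometries; the unipotent radical of the stabiliser of a singular vector. -/

set_option autoImplicit false

namespace Cfsg.Agent.Forms

open Module

variable {F : Type*} [Field F] {P : Param F} {V W : Type*} [AddCommGroup V] [Module F V]
  [AddCommGroup W] [Module F W]

theorem exists_fixed_mod [Finite F] [FiniteDimensional F V] (p : ℕ) [Fact p.Prime] [CharP F p]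
    {G : Type*} [Group G] (hG : IsPGroup p G) (ρ : G →* (V ≃ₗ[F] V)) {S T : Submodule F V}
    (hT : ¬ T ≤ S) (hS : ∀ g, ∀ x ∈ S, ρ g x ∈ S) (h : ∀ g, ∀ x ∈ T, ρ g x ∈ T) :
    ∃ v ∈ T, v ∉ S ∧ ∀ g, ρ g v - v ∈ S := by
  let _ : MulAction G (T.map S.mkQ) :=
    { smul := fun g x => ⟨S.mapQ S (ρ g : V →ₗ[F] V) (hS g) x, by
        obtain ⟨_, y, hy, rfl⟩ := x
        exact ⟨_, h g y hy, rfl⟩⟩
      one_smul := by
        rintro ⟨_, y, hy, rfl⟩
        exact Subtype.ext (by change S.mkQ (ρ 1 y) = S.mkQ y; rw [map_one]; rfl)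
      mul_smul := by
        rintro a b ⟨_, y, hy, rfl⟩
        exact Subtype.ext (by change S.mkQ (ρ (a * b) y) = S.mkQ (ρ a (ρ b y)); rw [map_mul]; rfl) }
  have := Fintype.ofFinite F
  have : Nontrivial (T.map S.mkQ) := Submodule.nontrivial_iff_ne_bot.2 fun e => hT (by
    rwa [← le_bot_iff, Submodule.map_le_iff_le_comap, Submodule.comap_bot, Submodule.ker_mkQ] at e)
  have : Finite (T.map S.mkQ) := Module.finite_of_finite F
  have hdvd : p ∣ Nat.card (T.map S.mkQ) := by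
    have := Fintype.ofFinite (T.map S.mkQ)
    rw [Nat.card_eq_fintype_card, Module.card_eq_pow_finrank (K := F)]
    obtain ⟨k, -, hk⟩ := FiniteField.card F p
    rw [hk]
    exact dvd_pow (dvd_pow_self p k.ne_zero) Module.finrank_pos.ne'
  obtain ⟨⟨_, y, hy, rfl⟩, hb, hb0⟩ := hG.exists_fixed_point_of_prime_dvd_card_of_fixed_point
    (T.map S.mkQ) hdvd (a := 0) (fun u => Subtype.ext (map_zero (S.mapQ S _ (hS u))))
  exact ⟨y, hy, fun e => hb0 (Subtype.ext ((Submodule.Quotient.mk_eq_zero S).2 e).symm),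
    fun g => (Submodule.Quotient.eq S).1 (congrArg Subtype.val (hb g))⟩

theorem exists_fixed_of_isPGroup [Finite F] [FiniteDimensional F V] (p : ℕ) [Fact p.Prime] [CharP F p]
    {G : Type*} [Group G] (hG : IsPGroup p G) (ρ : G →* (V ≃ₗ[F] V)) {T : Submodule F V} (hT : T ≠ ⊥)
    (h : ∀ g, ∀ x ∈ T, ρ g x ∈ T) : ∃ v ∈ T, v ≠ 0 ∧ ∀ g, ρ g v = v := by
  obtain ⟨v, h1, h2, h3⟩ := exists_fixed_mod p hG ρ (S := ⊥) (mt le_bot_iff.1 hT) (by simp) h
  exact ⟨v, h1, by simpa using h2, fun g => by simpa [sub_eq_zero] using h3 g⟩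

theorem comm_sub_mem_of_finrank [FiniteDimensional F V] {S T : Submodule F V} (hST : S ≤ T)
    (hd : finrank F T ≤ finrank F S + 1) {a b : V →ₗ[F] V} (haS : ∀ x ∈ S, a x ∈ S)
    (hbS : ∀ x ∈ S, b x ∈ S) (haT : ∀ x ∈ T, a x ∈ T) (hbT : ∀ x ∈ T, b x ∈ T) {w : V} (hw : w ∈ T) :
    a (b w) - b (a w) ∈ S := by
  by_cases h : w ∈ S
  · exact sub_mem (haS _ (hbS _ h)) (hbS _ (haS _ h))
  have h1 : S ⊔ (F ∙ w) = T := Submodule.eq_of_le_of_finrank_le
    (sup_le hST ((Submodule.span_singleton_le_iff_mem _ _).2 hw)) (hd.trans (Submodule.finrank_lt_finrank_of_lt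
      (lt_of_le_of_ne le_sup_left fun e => h (e ▸ Submodule.mem_sup_right (Submodule.mem_span_singleton_self w)))))
  obtain ⟨s, hs, _, h2, e1⟩ := Submodule.mem_sup.1 (h1.ge (haT w hw))
  obtain ⟨t, ht, _, h3, e2⟩ := Submodule.mem_sup.1 (h1.ge (hbT w hw))
  obtain ⟨α, rfl⟩ := Submodule.mem_span_singleton.1 h2
  obtain ⟨β, rfl⟩ := Submodule.mem_span_singleton.1 h3
  have : a (b w) - b (a w) = a t - b s + β • s - α • t := by
    conv_lhs => rw [← e1, ← e2, map_add, map_add, map_smul, map_smul, ← e1, ← e2]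
    module
  rw [this]
  exact sub_mem (add_mem (sub_mem (haS _ ht) (hbS _ hs)) (S.smul_mem _ hs)) (S.smul_mem _ ht)

theorem pow_eq_one_of_sub_pow (p : ℕ) [Fact p.Prime] [CharP F p] {g : V ≃ₗ[F] V} {n k : ℕ}
    (h : ((g : V →ₗ[F] V) - 1) ^ n = 0) (hk : n ≤ p ^ k) : g ^ p ^ k = 1 := by
  rcases subsingleton_or_nontrivial V with hV | hV
  · exact Subsingleton.elim _ _
  have : CharP (Module.End F V) p := charP_of_injective_algebraMap (algebraMap F _).injective p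
  have h5 := pow_eq_zero_of_le hk h
  rw [sub_pow_char_pow_of_commute p k (Commute.one_right _), one_pow, sub_eq_zero] at h5
  apply LinearEquiv.toLinearMap_injective
  rw [coe_pow_eq, h5]
  rfl

namespace Form

variable {f : Form P V}

/-- The vectors fixed by a group of isometries. -/
def fixSub (H : Subgroup f.Isom) : Submodule F V where
  carrier := {v | ∀ g ∈ H, g.1 v = v}
  add_mem' ha hb g hg := by rw [map_add, ha g hg, hb g hg]
  zero_mem' g _ := map_zero _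
  smul_mem' c v hv g hg := by rw [map_smul, hv g hg]

theorem mem_fixSub {H : Subgroup f.Isom} {v : V} : v ∈ fixSub H ↔ ∀ g ∈ H, g.1 v = v := Iff.rfl

theorem map_mem_fixSub {H : Subgroup f.Isom} {a : f.Isom}
    (ha : a ∈ Subgroup.normalizer (H : Set f.Isom)) : ∀ v ∈ fixSub H, a.1 v ∈ fixSub H := by
  intro v hv g hg
  have := hv _ ((Subgroup.mem_normalizer_iff''.1 ha g).1 hg)
  rw [Isom.mul_apply, Isom.mul_apply] at this
  rw [← Isom.apply_inv a (g.1 _), this]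

theorem exists_mem_fixSub [Finite F] [FiniteDimensional F V] (p : ℕ) [Fact p.Prime] [CharP F p]
    {H : Subgroup f.Isom} (hH : IsPGroup p H) {T : Submodule F V} (hT : T ≠ ⊥)
    (h : ∀ g ∈ H, ∀ x ∈ T, g.1 x ∈ T) : ∃ v ∈ T, v ≠ 0 ∧ v ∈ fixSub H := by
  obtain ⟨v, h1, h2, h3⟩ := exists_fixed_of_isPGroup p hH (f.Isom.subtype.comp H.subtype) hT
    fun g => h g g.2
  exact ⟨v, h1, h2, fun g hg => h3 ⟨g, hg⟩⟩

theorem Nondeg.fixSub_inf_orth_ne_bot [Finite F] [FiniteDimensional F V] (hf : f.Nondeg) (p : ℕ)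
    [Fact p.Prime] [CharP F p] {H : Subgroup f.Isom} (hH : IsPGroup p H) (h0 : H ≠ ⊥) :
    fixSub H ⊓ f.orth (fixSub H) ≠ ⊥ := by
  obtain ⟨v, h1, h2, h3⟩ := exists_mem_fixSub p hH (T := f.orth (fixSub H)) (fun e => h0 (by
      have : fixSub H = ⊤ := hf.orth_inj (e.trans hf.orth_top.symm)
      exact eq_bot_iff.2 fun g hg => Isom.ext fun x => (this.ge trivial : x ∈ fixSub H) g hg))
    fun g hg => Isom.orth_invariant g fun x hx => (hx g hg).symm ▸ hx
  exact (Submodule.ne_bot_iff _).2 ⟨v, ⟨h3, h1⟩, h2⟩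

/-- The unipotent radical of the stabiliser of `u`. -/
def Qsub (f : Form P V) (u : V) : Subgroup f.Isom where
  carrier := {g | g.1 u = u ∧ ∀ x, f.B x u = 0 → g.1 x - x ∈ F ∙ u}
  one_mem' := ⟨rfl, fun x _ => by simp⟩
  mul_mem' {a b} ha hb := ⟨by rw [Isom.mul_apply, hb.1, ha.1], fun x hx => by
    have h1 := ha.2 (b.1 x) (by rw [← hb.1, Isom.map_B, hx])
    simpa [Isom.mul_apply] using add_mem h1 (hb.2 x hx)⟩
  inv_mem' {a} ha := by
    have h0 : a⁻¹.1 u = u := by rw [← ha.1, Isom.inv_apply, ha.1]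
    refine ⟨h0, fun x hx => ?_⟩
    have h1 := ha.2 (a⁻¹.1 x) (by rw [← h0, Isom.map_B, hx])
    rw [Isom.apply_inv] at h1
    simpa using neg_mem h1

theorem mem_Qsub {u : V} {g : f.Isom} :
    g ∈ f.Qsub u ↔ g.1 u = u ∧ ∀ x, f.B x u = 0 → g.1 x - x ∈ F ∙ u := Iff.rfl

theorem isPGroup_Qsub (p : ℕ) [Fact p.Prime] [CharP F p] (u : V) : IsPGroup p (f.Qsub u) := by
  rintro ⟨g, h1, h2⟩
  refine ⟨2, Subtype.ext (Subtype.ext (pow_eq_one_of_sub_pow p (n := 3) (LinearMap.ext fun x => ?_) ?_))⟩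
  · obtain ⟨c, hc⟩ := Submodule.mem_span_singleton.1 (h2 (g.1 x - x) (by
      rw [B_sub_left, sub_eq_zero]; conv_lhs => rw [← h1, Isom.map_B]))
    change g.1 (g.1 (g.1 x - x) - (g.1 x - x)) - (g.1 (g.1 x - x) - (g.1 x - x)) = 0
    rw [← hc, map_smul, h1, sub_self]
  · have := (Fact.out : p.Prime).two_le
    nlinarith

theorem conj_mem_Qsub {u : V} {a g : f.Isom} (ha : a.1 u = u) (hg : g ∈ f.Qsub u) :
    a * g * a⁻¹ ∈ f.Qsub u := by
  have h0 : a⁻¹.1 u = u := by rw [← ha, Isom.inv_apply, ha]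
  refine ⟨by rw [Isom.mul_apply, Isom.mul_apply, h0, hg.1, ha], fun x hx => ?_⟩
  obtain ⟨c, hc⟩ := Submodule.mem_span_singleton.1 (hg.2 (a⁻¹.1 x) (by rw [← h0, Isom.map_B, hx]))
  refine Submodule.mem_span_singleton.2 ⟨c, ?_⟩
  rw [Isom.mul_apply, Isom.mul_apply, ← ha, ← map_smul, hc, map_sub, Isom.apply_inv]

theorem eichler_mem_Qsub (u v : V) (l : F) (hu : f.Q u = 0) (hv : f.B v u = 0) (h : f.IsLam v l) :
    f.eichler u v l hu hv h ∈ f.Qsub u :=
  ⟨f.eichler_apply_self u v l hu hv h, fun x hx => Submodule.mem_span_singleton.2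
    ⟨-(P.ε * f.B x v), by rw [eichler_apply, hx]; module⟩⟩

/-- The stabiliser of a vector. -/
def stabV (f : Form P V) (u : V) : Subgroup f.Isom where
  carrier := {g | g.1 u = u}
  one_mem' := rfl
  mul_mem' {a b} (ha : _ = _) (hb : _ = _) := show _ = _ by rw [Isom.mul_apply, hb, ha]
  inv_mem' {a} (ha : _ = _) := show _ = _ by rw [← ha, Isom.inv_apply, ha]

theorem isPGroup_sup_Qsub (p : ℕ) [Fact p.Prime] [CharP F p] {u : V} {H : Subgroup f.Isom}
    (hH : IsPGroup p H) (h : ∀ g ∈ H, g.1 u = u) : IsPGroup p (H ⊔ f.Qsub u : Subgroup f.Isom) := by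
  refine hH.to_sup_of_normal_right' (isPGroup_Qsub p u) fun a ha => ?_
  refine Subgroup.mem_normalizer_iff.2 fun g => ⟨conj_mem_Qsub (h a ha), fun hg => ?_⟩
  simpa [mul_assoc] using conj_mem_Qsub (h _ (inv_mem ha)) hg

theorem Qsub_le_sylow (p : ℕ) [Fact p.Prime] [CharP F p] {u : V} (S : Sylow p f.Isom)
    (h : ∀ g ∈ (S : Subgroup f.Isom), g.1 u = u) : f.Qsub u ≤ S :=
  (S.is_maximal' (isPGroup_sup_Qsub p S.isPGroup' h) le_sup_left).le.trans' le_sup_right

theorem HypPair.exists_Qsub {u e e' : V} (h : f.HypPair u e) (h' : f.HypPair u e') :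
    ∃ g ∈ f.Qsub u, g.1 e = e' := by
  obtain ⟨a, b, x, h1, h2, rfl⟩ := h.exists_decomp e'
  have hb : b = 1 := by
    have := h'.Bue
    rw [B_add_right, B_add_right, B_smul_right, B_smul_right, h.Buu, h.Bue, f.B_eq_zero_symm h1] at this
    apply P.σ_bijective.1
    simpa using this
  subst hb
  have hQ := h'.Qe
  have hB := h'.Bee
  rw [h.Q_decomp _ _ h1 h2] at hQ
  rw [h.B_decomp _ _ _ _ h1 h2 h1 h2] at hB
  have hl : f.IsLam (P.ε • x) (-a) := by
    have e1 := P.εε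
    refine ⟨?_, ?_⟩
    · rw [f.Q_smul, P.σε, e1, map_neg]; simp only [map_one, mul_one] at hQ; linear_combination -hQ
    · rw [B_smul_left, B_smul_right, P.σε, map_neg]; simp only [map_one, mul_one] at hB
      linear_combination -hB - f.B x x * e1
  refine ⟨_, eichler_mem_Qsub u _ _ h.Qu (by rw [B_smul_left, h1, mul_zero]) hl, ?_⟩
  rw [eichler_apply, h.Beu, B_smul_right, f.B_eq_zero_symm h2, smul_smul, P.εε,
    show P.ε * -a * P.ε = -a by linear_combination -a * P.εε]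
  module

/-- Extension of isometries of the orthogonal complement of a hyperbolic pair. -/
noncomputable def HypPair.ext [FiniteDimensional F V] {u e : V} (h : f.HypPair u e) (hf : f.Nondeg) :
    (f.restrict (f.orth (LinearMap.range (pairMap F u e)))).Isom →* f.Isom :=
  (hf.glueHom hyp_nondeg _ h.isIsom_pairMap).comp (MonoidHom.inr _ _)

section

variable [FiniteDimensional F V] {u e : V} (h : f.HypPair u e) (hf : f.Nondeg)

theorem HypPair.ext_injective : Function.Injective (h.ext hf) :=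
  (hf.glueHom_injective _ _ _).comp fun _ _ e => congrArg Prod.snd e

theorem HypPair.ext_u (a) : (h.ext hf a).1 u = u := by
  simpa [pairMap_apply, HypPair.ext] using
    hf.glueHom_apply_left hyp_nondeg _ h.isIsom_pairMap (1, a) (1, 0)

theorem HypPair.ext_e (a) : (h.ext hf a).1 e = e := by
  simpa [pairMap_apply, HypPair.ext] using
    hf.glueHom_apply_left hyp_nondeg _ h.isIsom_pairMap (1, a) (0, 1)

theorem HypPair.ext_right (a) (x : f.orth (LinearMap.range (pairMap F u e))) :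
    (h.ext hf a).1 x = a.1 x := hf.glueHom_apply_right hyp_nondeg _ h.isIsom_pairMap (1, a) x

theorem HypPair.exists_ext {g : f.Isom} (h1 : g.1 u = u) (h2 : g.1 e = e) : ∃ a, h.ext hf a = g := by
  obtain ⟨c, hc⟩ := hf.eq_glueHom hyp_nondeg _ h.isIsom_pairMap g 1 fun w => by
    simp [pairMap_apply, h1, h2]
  exact ⟨c, hc.symm⟩

omit [FiniteDimensional F V] in
include h in
theorem HypPair.exists_sylow_comap (p : ℕ) [Fact p.Prime] [CharP F p] {L : Type*} [Group L]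
    (ι : L →* f.Isom) (hι : Function.Injective ι) (hu : ∀ a, (ι a).1 u = u)
    (hs : ∀ g : f.Isom, g.1 u = u → g.1 e = e → ∃ a, ι a = g) (S : Sylow p f.Isom)
    (hS : ∀ g ∈ (S : Subgroup f.Isom), g.1 u = u) :
    ∃ T : Sylow p L, (T : Subgroup L) = (S : Subgroup f.Isom).comap ι := by
  obtain ⟨T, hT⟩ := (S.isPGroup'.comap_of_injective _ hι).exists_le_sylow
  refine ⟨T, le_antisymm (Subgroup.map_le_iff_le_comap.1 (le_sup_left.trans (S.is_maximal'
    (isPGroup_sup_Qsub p (u := u) (T.isPGroup'.map _) ?_) fun s hs' => ?_).le)) hT⟩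
  · rintro _ ⟨a, -, rfl⟩
    exact hu a
  · obtain ⟨g, h1, h2⟩ := h.exists_Qsub (e' := s.1 e) (by simpa [hS s hs'] using h.map s)
    obtain ⟨a, ha⟩ := hs (g⁻¹ * s)
      (by rw [Isom.mul_apply, hS s hs']; exact (inv_mem h1 : g⁻¹ ∈ f.Qsub u).1)
      (by rw [Isom.mul_apply, ← h2, Isom.inv_apply])
    rw [← mul_inv_cancel_left g s, ← ha]
    exact mul_mem (Subgroup.mem_sup_right h1) (Subgroup.mem_sup_left ⟨a, hT (show ι a ∈ _ from
      ha ▸ mul_mem (inv_mem (Qsub_le_sylow p S hS h1)) hs'), rfl⟩)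

include h hf in
theorem HypPair.exists_totSing {R : Submodule F V} (hR : f.TotSing R) :
    ∃ R', (f.restrict (f.orth (LinearMap.range (pairMap F u e)))).TotSing R' ∧
      finrank F R ≤ finrank F R' + 1 := by
  by_cases h0 : R = ⊥
  · exact ⟨⊥, ⟨by simp [Q_zero], by simp⟩, by rw [h0]; simp⟩
  obtain ⟨r, hr, h1⟩ := R.exists_mem_ne_zero_of_ne_bot h0
  obtain ⟨g, hg⟩ := hf.witt_one h1 h.u_ne_zero (by rw [hR.2 r hr r hr, h.Buu]) (by rw [hR.1 r hr, h.Qu])
  have h2 := hR.map g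
  have h3 : u ∈ R.map (g.1 : V →ₗ[F] V) := ⟨r, hr, hg⟩
  rw [← LinearEquiv.finrank_map_eq g.1 R]
  generalize R.map (g.1 : V →ₗ[F] V) = X at h2 h3
  have h4 : X ⊓ f.orth (F ∙ e) ≤ f.orth (LinearMap.range (pairMap F u e)) := fun x hx => by
    rw [range_pairMap, mem_orth_pair]
    exact ⟨h2.2 x hx.1 u h3, mem_orth_singleton.1 hx.2⟩
  refine ⟨(X ⊓ f.orth (F ∙ e)).comap (Submodule.subtype _),
    ⟨fun x hx => h2.1 _ hx.1, fun x hx y hy => h2.2 _ hx.1 _ hy.1⟩, ?_⟩
  rw [(Submodule.comapSubtypeEquivOfLe h4).finrank_eq]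
  have h5 := Submodule.finrank_sup_add_finrank_inf_eq X (f.orth (F ∙ e))
  have h6 := hf.finrank_orth_singleton h.e_ne_zero
  have h7 := Submodule.finrank_le (X ⊔ f.orth (F ∙ e))
  omega

end

end Form

end Cfsg.Agent.Forms
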