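import Cfsg.Agent.Lib.Forms.Card
import Cfsg.Agent.Lib.Forms.Rank2

/-!
Involutions of `SU₃(q)`, `q` odd.
-/

set_option autoImplicit false

namespace Cfsg.Agent.Forms

open Module

variable {F : Type*} [Field F] {V : Type*} [AddCommGroup V] [Module F V]

theorem card_of_fibers {α β : Type*} [Finite α] [Finite β] (T : α → β) {k : ℕ}
    (h : ∀ b, Nat.card {a // T a = b} = k) (p : β → Prop) :
    Nat.card {a // p (T a)} = Nat.card {b // p b} * k := by
  haveI := Fintype.ofFinite {b // p b}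
  have e : {a // p (T a)} ≃ Σ b : {b // p b}, {a // T a = b} :=
    { toFun := fun a => ⟨⟨T a, a.2⟩, a, rfl⟩
      invFun := fun x => ⟨x.2, x.2.2.symm ▸ x.1.2⟩
      left_inv := fun _ => rfl
      right_inv := by
        rintro ⟨⟨b, h⟩, a, ha⟩
        dsimp only at ha
        subst ha
        rfl }
  rw [Nat.card_congr e, Nat.card_sigma]
  simp [h]

theorem card_split {α : Type*} [Finite α] (p r : α → Prop) :
    Nat.card {x // p x} = Nat.card {x // p x ∧ r x} + Nat.card {x // p x ∧ ¬ r x} := by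
  classical
  rw [← Nat.card_sum]
  exact Nat.card_congr ((Equiv.sumCompl fun x : {x // p x} => r x).symm.trans
    ((Equiv.subtypeSubtypeEquivSubtypeInter p r).sumCongr
      (Equiv.subtypeSubtypeEquivSubtypeInter p fun x => ¬ r x)))

theorem det_of_diag {ι : Type*} [Fintype ι] (b : Basis ι F V) {g : V →ₗ[F] V} {d : ι → F}
    (h : ∀ i, g (b i) = d i • b i) : LinearMap.det g = ∏ i, d i := by
  classical
  rw [← LinearMap.det_toMatrix b, ← Matrix.det_diagonal]
  congr 1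
  ext i j
  by_cases hij : i = j <;> simp [LinearMap.toMatrix_apply, h, hij]

namespace Form

variable [Fintype F] {q : ℕ} {hF : Fintype.card F = q ^ 2} [FiniteDimensional F V]
  {f : Form (uP hF) V}

theorem Nondeg.unit_sign_basis (hf : f.Nondeg) (h2 : (2 : F) ≠ 0) (S : Set f.Isom)
    (hS : ∀ a ∈ S, a * a = 1) (hc : ∀ a ∈ S, ∀ b ∈ S, Commute a b) {n : ℕ} (hn : finrank F V = n) :
    ∃ b : Basis (Fin n) F V, f.OrthFam b ∧
      ∀ i, f.B (b i) (b i) = 1 ∧ ∀ a ∈ S, a.1 (b i) = b i ∨ a.1 (b i) = -b i := by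
  obtain ⟨b, hb, h⟩ := f.exists_orthFam n
    (fun _ v => f.B v v = 1 ∧ ∀ a ∈ S, a.1 v = v ∨ a.1 v = -v) fun j hj b hb h => by
      have h3 := hb.finrank_orth hf
      obtain ⟨U, hle, h0, hU, hs⟩ := exists_sign_sub h2 S hS hc _ (fun h => by
          rw [h, finrank_bot, Fintype.card_fin] at h3; omega)
        (hf.disjoint_orth_orth hb.disjoint) fun a ha => Isom.orth_invariant a fun x hx => by
          refine (Submodule.span_le (p := Submodule.comap (a.1 : V →ₗ[F] V)
            (Submodule.span F (Set.range b)))).2 ?_ hx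
          rintro _ ⟨i, rfl⟩
          have : b i ∈ Submodule.span F (Set.range b) := Submodule.subset_span ⟨i, rfl⟩
          rcases (h i).2 a ha with h | h <;> simpa [h]
      have := Submodule.nontrivial_iff_ne_bot.2 h0
      obtain ⟨v, hv⟩ := ((f.restrict_nondeg_iff U).2 hU).unit_exists_B_eq (map_one _) one_ne_zero
      exact ⟨v, hle v.2, by rw [show f.B v v = 1 from hv]; simp, hv,
        fun a ha => (hs a ha).imp (fun h => h v v.2) fun h => h v v.2⟩
  exact ⟨hb.basis (by simp [hn]), by simpa using hb, by simpa using h⟩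

theorem Nondeg.exists_det_eq (hf : f.Nondeg) {v : V} (hv : f.B v v ≠ 0) {c : F}
    (hc : c * frobq hF c = 1) : ∃ k : f.Isom, (f.detHom k : F) = c ∧
      ∀ t : f.Isom, t.1 v ∈ F ∙ v → Commute k t := by
  have hg := f.comap_toSpanSingleton_nondeg hv
  refine ⟨hf.extHom hg _ (f.isIsom_comap _) (scalar _ c hc), ?_, fun t ht =>
    hf.commute_extHom_scalar hg _ _ c hc t fun w => ?_⟩
  · rw [hf.detHom_extHom]
    exact (detHom_scalar _ c hc).trans (by simp)
  · rw [LinearMap.range_toSpanSingleton, LinearMap.toSpanSingleton_apply, map_smul]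
    exact Submodule.smul_mem _ _ ht

theorem Nondeg.card_SIsom (hf : f.Nondeg) [Nontrivial V] :
    Nat.card f.SIsom * (q + 1) = Nat.card f.Isom := by
  obtain ⟨v, hv⟩ := hf.unit_exists_B_eq (map_one _) one_ne_zero
  rw [← f.SIsom.card_mul_index, SIsom, Subgroup.index_ker, ← card_norm_one hF]
  congr 1
  refine Nat.card_congr (Equiv.ofBijective (fun x => ⟨x.1, by
    obtain ⟨_, g, rfl⟩ := x; exact hf.det_mul_σ_det g⟩)
    ⟨fun x y h => Subtype.ext (Units.ext (congrArg Subtype.val h)), fun c => ?_⟩).symm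
  obtain ⟨k, hk, -⟩ := hf.exists_det_eq (hv ▸ one_ne_zero : f.B v v ≠ 0) c.2
  exact ⟨⟨_, k, rfl⟩, Subtype.ext hk⟩

/-- unit vectors -/
abbrev UV (f : Form (uP hF) V) := {v // f.B v v = 1}

section tau

variable (h2 : (2 : F) ≠ 0)

omit [FiniteDimensional F V] in
include h2 in
theorem isLam_half (v : f.UV) : f.IsLam v.1 2⁻¹ := by
  rw [unit_isLam_iff, v.2, map_inv₀, map_ofNat]; field_simp; norm_num

/-- the involution fixing the vector `v` and negating its complement -/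
def tau0 (v : f.UV) : f.Isom := f.negOne * f.qrefl v.1 2⁻¹ (isLam_half h2 v) (inv_ne_zero h2)

omit [FiniteDimensional F V] in
theorem tau0_apply (v : f.UV) (x : V) : (tau0 h2 v).1 x = (2 * f.B x v.1) • v.1 - x := by
  rw [tau0, Isom.mul_apply, negOne_apply, qrefl_apply]; simp

theorem tau0_mem (h3 : finrank F V = 3) (v : f.UV) : tau0 h2 v ∈ f.SIsom := by
  refine MonoidHom.mem_ker.2 (Units.ext ?_)
  rw [tau0, map_mul, Units.val_mul, negOne, detHom_scalar, coe_detHom, det_qrefl, h3]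
  change (-1) ^ 3 * (-(1 * frobq hF 2⁻¹) / 2⁻¹) = (1 : F)
  rw [map_inv₀, map_ofNat]; field_simp

variable {G : Type*} [Group G] (h3 : finrank F V = 3) (e : G ≃* f.SIsom)

/-- the involution fixing the vector `v` and negating its complement -/
noncomputable def tau (v : f.UV) : G := e.symm ⟨tau0 h2 v, tau0_mem h2 h3 v⟩

theorem tau_apply (v : f.UV) (x : V) : (e (tau h2 h3 e v)).1.1 x = (2 * f.B x v.1) • v.1 - x := by
  rw [tau, e.apply_symm_apply]; exact tau0_apply h2 v x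

omit [FiniteDimensional F V] in
theorem sisom_ext {a b : G} (h : ∀ x, (e a).1.1 x = (e b).1.1 x) : a = b :=
  e.injective (Subtype.ext (Isom.ext h))

omit [FiniteDimensional F V] in
theorem sisom_mul (a b : G) (x : V) : (e (a * b)).1.1 x = (e a).1.1 ((e b).1.1 x) := by
  rw [map_mul]; rfl

theorem tau_self (v : f.UV) : (e (tau h2 h3 e v)).1.1 v.1 = v.1 := by
  rw [tau_apply, v.2, mul_one, two_smul, add_sub_cancel_right]

theorem tau_mul_self (v : f.UV) : tau h2 h3 e v * tau h2 h3 e v = 1 :=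
  sisom_ext e fun x => by
    rw [sisom_mul, tau_apply h2 h3 e v x, map_sub, map_smul, tau_self, tau_apply, map_one]
    simp

theorem tau_eq_iff {v w : f.UV} : tau h2 h3 e v = tau h2 h3 e w ↔ ∃ c : F, w.1 = c • v.1 := by
  constructor
  · intro h
    have := tau_self h2 h3 e w
    rw [← h, tau_apply, sub_eq_iff_eq_add, ← two_smul F, mul_smul] at this
    exact ⟨_, (smul_right_injective V h2 this).symm⟩
  · rintro ⟨c, hc⟩
    have := w.2
    rw [hc, B_smul_left, unit_B_smul_right, v.2, mul_one] at this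
    refine sisom_ext e fun x => ?_
    rw [tau_apply, tau_apply, hc, unit_B_smul_right, smul_smul]
    congr 2
    linear_combination (-2 * f.B x v.1) * this

theorem tau_conj (g : G) (v : f.UV) : g * tau h2 h3 e v * g⁻¹ =
    tau h2 h3 e ⟨(e g).1.1 v.1, by rw [Isom.map_B, v.2]⟩ := by
  rw [mul_inv_eq_iff_eq_mul]
  refine sisom_ext e fun x => ?_
  rw [sisom_mul, sisom_mul, tau_apply, tau_apply, map_sub, map_smul, Isom.map_B]

theorem commute_tau_iff {v w : f.UV} : Commute (tau h2 h3 e v) (tau h2 h3 e w) ↔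
    tau h2 h3 e v = tau h2 h3 e w ∨ f.B w.1 v.1 = 0 := by
  rw [commute_iff_eq, ← mul_inv_eq_iff_eq_mul, tau_conj, eq_comm, tau_eq_iff]
  simp only [tau_apply]
  constructor
  · rintro ⟨c, hc⟩
    refine or_iff_not_imp_right.2 fun h => ((tau_eq_iff h2 h3 e).2
      ⟨(2 * f.B w.1 v.1)⁻¹ * (c + 1), ?_⟩).symm
    rw [mul_smul, add_smul, ← hc, one_smul, sub_add_cancel, inv_smul_smul₀ (mul_ne_zero h2 h)]
  · rintro (h | h)
    · exact ⟨1, by rw [← tau_apply h2 h3 e, h, tau_self, one_smul]⟩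
    · exact ⟨-1, by simp [h]⟩

theorem tau_ne_of_orth {v w : f.UV} (h : f.B w.1 v.1 = 0) : tau h2 h3 e w ≠ tau h2 h3 e v := by
  intro h1
  obtain ⟨c, hc⟩ := (tau_eq_iff h2 h3 e).1 h1.symm
  have := w.2
  rw [hc, B_smul_left, v.2, mul_one] at h
  simp [hc, h] at this

omit [FiniteDimensional F V] in
theorem UV.ne_zero (v : f.UV) : v.1 ≠ 0 := fun h => by simpa [h] using v.2

omit [FiniteDimensional F V] in
theorem UV.B_ne (v : f.UV) : f.B v.1 v.1 ≠ 0 := by rw [v.2]; exact one_ne_zero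

variable (hf : f.Nondeg)
include hf

theorem Nondeg.tau_ne_one (v : f.UV) : tau h2 h3 e v ≠ 1 := by
  intro h
  have h4 := hf.finrank_orth_singleton v.ne_zero
  obtain ⟨x, hx, hx0⟩ := (Submodule.ne_bot_iff (f.orth (F ∙ v.1))).1 fun h => by
    rw [h, finrank_bot] at h4; omega
  have := tau_apply h2 h3 e v x
  rw [h, map_one, mem_orth_singleton.1 hx] at this
  refine hx0 ((smul_eq_zero.1 (show (2 : F) • x = 0 from ?_)).resolve_left h2)
  rw [two_smul]
  exact eq_neg_iff_add_eq_zero.1 (by simpa using this)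

theorem Nondeg.exists_tau {t : G} (h1 : t ≠ 1) (ht : t * t = 1) : ∃ v, tau h2 h3 e v = t := by
  obtain ⟨b, hb, h⟩ := hf.unit_sign_basis h2 {(e t).1} (by
    rintro _ rfl
    exact congrArg Subtype.val ((map_mul e t t).symm.trans (by rw [ht, map_one])))
    (by rintro _ rfl _ rfl; rfl) h3
  have h4 : ∀ i, ∃ d : F, (d = 1 ∨ d = -1) ∧ (e t).1.1 (b i) = d • b i := fun i => by
    rcases (h i).2 _ rfl with h | h
    exacts [⟨1, Or.inl rfl, by simpa⟩, ⟨-1, Or.inr rfl, by simpa⟩]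
  choose d hd h4 using h4
  have h5 := det_of_diag b (g := ((e t).1.1 : V →ₗ[F] V)) h4
  rw [mem_SIsom.1 (e t).2, Fin.prod_univ_three] at h5
  have h6 : ¬ ∀ i, d i = 1 := fun h => h1 (e.injective (Subtype.ext
    (Isom.ext_basis b fun i => by rw [h4, h, map_one]; simp)))
  have h7 : (-1 : F) ≠ 1 := fun h => h2 (by linear_combination -h)
  obtain ⟨i, hi, hi'⟩ : ∃ i, d i = 1 ∧ ∀ j, j ≠ i → d j = -1 := by
    clear h4
    rcases hd 0 with a | a <;> rcases hd 1 with b | b <;> rcases hd 2 with c | c <;>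
      simp [Fin.exists_fin_succ, Fin.forall_fin_succ, a, b, c, h7, h7.symm] at h5 h6 ⊢
  refine ⟨⟨b i, (h i).1⟩, e.injective (Subtype.ext (Isom.ext_basis b fun j => ?_))⟩
  rw [tau_apply, h4]
  by_cases hj : j = i
  · simp [hj, hi, (h i).1, two_smul]
  · simp [hb.ne j i hj, hi' j hj]

theorem Nondeg.exists_conj_tau (v w : f.UV) : ∃ g, g * tau h2 h3 e v * g⁻¹ = tau h2 h3 e w := by
  obtain ⟨g, hg⟩ := hf.witt_one v.ne_zero w.ne_zero (v.2.trans w.2.symm)
    (by rw [unit_Q, unit_Q, v.2, w.2])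
  obtain ⟨k, hk, hc⟩ := hf.exists_det_eq w.B_ne
    (hf.det_mul_σ_det g⁻¹)
  have := isConj_SIsom (a := e (tau h2 h3 e v)) (b := e (tau h2 h3 e w)) g (by
      rw [mul_inv_eq_iff_eq_mul]
      refine Isom.ext fun x => ?_
      rw [Isom.mul_apply, Isom.mul_apply, tau_apply, tau_apply, map_sub, map_smul, ← hg, Isom.map_B])
    k (hc _ (by rw [tau_self]; exact Submodule.mem_span_singleton_self _))
    (by rw [Units.ext hk, ← map_mul, inv_mul_cancel, map_one])
  exact isConj_iff.1 ((isConj_equiv_iff e).1 this)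

theorem Nondeg.card_tau [Finite G] (p : G → Prop) :
    Nat.card {x // x ≠ 1 ∧ x * x = 1 ∧ p x} * (q + 1) = Nat.card {v // p (tau h2 h3 e v)} := by
  have := Module.finite_of_finite F (M := V)
  have := card_of_fibers (β := {x : G // x ≠ 1 ∧ x * x = 1})
    (fun v => ⟨tau h2 h3 e v, hf.tau_ne_one h2 h3 e v, tau_mul_self h2 h3 e v⟩) (k := q + 1)
    (fun x => by
      obtain ⟨v, hv⟩ := hf.exists_tau h2 h3 e x.2.1 x.2.2
      rw [← card_norm_one hF]
      refine Nat.card_congr (Equiv.ofBijective (fun c => ⟨⟨c.1 • v.1, by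
        rw [B_smul_left, unit_B_smul_right, v.2, mul_one, c.2]⟩,
        Subtype.ext (((tau_eq_iff h2 h3 e).2 ⟨_, rfl⟩).symm.trans hv)⟩) ⟨fun c d h =>
          Subtype.ext (smul_left_injective F v.ne_zero (congrArg (·.1.1) h)), fun w => ?_⟩).symm
      obtain ⟨c, hc⟩ := (tau_eq_iff h2 h3 e).1 (hv.trans (congrArg Subtype.val w.2).symm)
      have := w.1.2
      rw [hc, B_smul_left, unit_B_smul_right, v.2, mul_one] at this
      exact ⟨⟨c, this⟩, Subtype.ext (Subtype.ext hc.symm)⟩) fun x => p x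
  rw [this]
  congr 1
  exact Nat.card_congr ((Equiv.subtypeEquivRight fun x => and_assoc.symm).trans
    (Equiv.subtypeSubtypeEquivSubtypeInter _ p).symm)

omit hf [FiniteDimensional F V] in
theorem card_UV_mem (S : Submodule F V) (p : f.UV → Prop) (h : ∀ v, p v ↔ v.1 ∈ S) :
    Nat.card {v // p v} = Nat.card {x // (f.restrict S).B x x = 1} :=
  Nat.card_congr
    { toFun := fun v => ⟨⟨v.1.1, (h _).1 v.2⟩, v.1.2⟩
      invFun := fun x => ⟨⟨x.1.1, x.2⟩, (h _).2 x.1.2⟩
      left_inv := fun _ => rfl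
      right_inv := fun _ => rfl }

omit hf [FiniteDimensional F V] in
theorem orthFam_pair {x y : V} (hx : f.B x x ≠ 0) (hy : f.B y y ≠ 0) (h : f.B y x = 0) :
    f.OrthFam ![x, y] :=
  ⟨by simp [Fin.forall_fin_succ, h, f.B_eq_zero_symm h], by simp [Fin.forall_fin_succ, hx, hy]⟩

include h3 in
theorem Nondeg.orth_pair {x y : V} (hx : f.B x x ≠ 0) (hy : f.B y y ≠ 0) (h : f.B y x = 0) :
    (f.restrict (f.orth (Submodule.span F {x, y}))).Nondeg ∧
      finrank F (f.orth (Submodule.span F {x, y})) = 1 := by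
  have h4 := orthFam_pair hx hy h
  have h5 := h4.restrict_orth hf
  have h6 := h4.finrank_orth hf
  rw [Matrix.range_cons_cons_empty] at h5 h6
  exact ⟨h5, by simp at h6; omega⟩

omit hf [FiniteDimensional F V] in
theorem UV.B_proj (v w : f.UV) : f.B (w.1 - f.B w.1 v.1 • v.1) v.1 = 0 ∧
    f.B (w.1 - f.B w.1 v.1 • v.1) (w.1 - f.B w.1 v.1 • v.1) =
      1 - f.B w.1 v.1 * frobq hF (f.B w.1 v.1) := by
  have h : f.B (w.1 - f.B w.1 v.1 • v.1) v.1 = 0 := by simp [v.2]
  refine ⟨h, ?_⟩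
  rw [B_sub_right, unit_B_smul_right, h, B_sub_left, B_smul_left, w.2, unit_symm f w.1 v.1]
  ring

include h3 in
theorem Nondeg.exists_perp (v w : f.UV) (h : f.B w.1 v.1 * frobq hF (f.B w.1 v.1) ≠ 1) :
    ∃ u : f.UV, f.B u.1 v.1 = 0 ∧ f.B u.1 w.1 = 0 := by
  obtain ⟨h4, h5⟩ := UV.B_proj v w
  obtain ⟨h6, h7⟩ := hf.orth_pair h3 v.B_ne (h5 ▸ sub_ne_zero.2 h.symm) h4
  have := Module.nontrivial_of_finrank_eq_succ h7
  obtain ⟨u, hu⟩ := h6.unit_exists_B_eq (map_one _) one_ne_zero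
  obtain ⟨h8, h9⟩ := mem_orth_pair.1 u.2
  refine ⟨⟨u, hu⟩, h8, ?_⟩
  rwa [B_sub_right, unit_B_smul_right, h8, mul_zero, sub_zero] at h9

include h3 in
theorem Nondeg.eq_smul_of_perp {v w u : f.UV} (h : f.B w.1 v.1 * frobq hF (f.B w.1 v.1) = 1)
    (h4 : f.B u.1 v.1 = 0) (h5 : f.B u.1 w.1 = 0) : w.1 = f.B w.1 v.1 • v.1 := by
  obtain ⟨h6, h7⟩ := UV.B_proj v w
  obtain ⟨h8, h9⟩ := hf.orth_pair h3 v.B_ne u.B_ne h4
  let z : f.orth (Submodule.span F {v.1, u.1}) := ⟨w.1 - f.B w.1 v.1 • v.1, mem_orth_pair.2 ⟨h6, by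
    rw [B_sub_left, B_smul_left, f.B_eq_zero_symm h4, f.B_eq_zero_symm h5]; simp⟩⟩
  by_contra hne
  have hz : z ≠ 0 := fun h => hne (sub_eq_zero.1 (congrArg Subtype.val h))
  refine hz (h8 z fun y => ?_)
  obtain ⟨c, rfl⟩ := (finrank_eq_one_iff_of_nonzero' z hz).1 h9 y
  rw [unit_B_smul_right, restrict_B, h7, h, sub_self, mul_zero]

end tau

end Form

end Cfsg.Agent.Forms
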