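import Mathlib

/-!
Upper bounds for the number of objects of given weight.
-/

set_option autoImplicit false

namespace Cfsg.Agent.Forms

open Finset

variable {X X' Y : Type*} {q c G : ℝ}

/-- at most `c * q ^ n` objects of weight `n` -/
def Bd (q : ℝ) (w : X → ℕ) (c : ℝ) : Prop :=
  ∀ n, Finite {x // w x = n} ∧ (Nat.card {x // w x = n} : ℝ) ≤ c * q ^ n

/-- the generating function at `q⁻¹` is at most `G` -/
def Gf (q : ℝ) (v : Y → ℕ) (G : ℝ) : Prop :=
  (∀ n, Finite {y // v y = n}) ∧ ∀ s : Finset Y, ∑ y ∈ s, q⁻¹ ^ v y ≤ G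

theorem Bd.card_le {w : X → ℕ} (h : Bd q w c) {n : ℕ} (φ : X' → X) (hφ : Function.Injective φ)
    (hw : ∀ x, w (φ x) = n) : Finite X' ∧ (Nat.card X' : ℝ) ≤ c * q ^ n := by
  have := (h n).1
  have h1 : Function.Injective fun x => (⟨φ x, hw x⟩ : {x // w x = n}) :=
    fun _ _ e => hφ (congrArg Subtype.val e)
  exact ⟨.of_injective _ h1, le_trans (Nat.cast_le.2 (Nat.card_le_card_of_injective _ h1)) (h n).2⟩

theorem Bd.comp {w : X → ℕ} (h : Bd q w c) {w' : X' → ℕ} (φ : X' → X) (hφ : Function.Injective φ)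
    (hw : ∀ x, w (φ x) = w' x) : Bd q w' c :=
  fun _ => h.card_le (fun x => φ x.1) (hφ.comp Subtype.val_injective) fun x => (hw _).trans x.2

theorem Bd.prod (hq : 0 < q) (hc : 0 ≤ c) {w : X → ℕ} {v : Y → ℕ} (h : Bd q w c) (h' : Gf q v G) :
    Bd q (fun x : X × Y => w x.1 + v x.2) (c * G) := by
  intro n
  have h1 := fun n => (h n).1
  have h2 := h'.1
  have h3 : Finite {y // v y ≤ n} := .of_injective
    (fun y => (⟨⟨v y.1, Nat.lt_succ_of_le y.2⟩, y.1, rfl⟩ : Σ k : Fin (n + 1), {y // v y = k}))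
    fun _ _ e => Subtype.ext (congrArg (fun z : Σ k : Fin (n + 1), {y // v y = k} => z.2.1) e)
  have := Fintype.ofFinite {y // v y ≤ n}
  let φ : {x : X × Y // w x.1 + v x.2 = n} → Σ y : {y // v y ≤ n}, {x // w x = n - v y} :=
    fun x => ⟨⟨x.1.2, by have := x.2; omega⟩, x.1.1, by have := x.2; dsimp only; omega⟩
  have h4 : Function.Injective φ := fun _ _ e => Subtype.ext (Prod.ext
    (congrArg (fun z : Σ y : {y // v y ≤ n}, {x // w x = n - v y} => z.2.1) e)
    (congrArg (fun z : Σ y : {y // v y ≤ n}, {x // w x = n - v y} => z.1.1) e))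
  refine ⟨.of_injective φ h4, le_trans (Nat.cast_le.2 (Nat.card_le_card_of_injective φ h4)) ?_⟩
  have h5 := h'.2 (univ.map (Function.Embedding.subtype fun y => v y ≤ n))
  rw [sum_map] at h5
  rw [Nat.card_sigma, Nat.cast_sum, mul_right_comm]
  refine le_trans ?_ (mul_le_mul_of_nonneg_left h5 (by positivity))
  rw [mul_sum]
  refine sum_le_sum fun y _ => (h _).2.trans_eq ?_
  rw [pow_sub₀ _ hq.ne' y.2, inv_pow, mul_assoc]
  rfl

theorem Gf.nonneg {v : Y → ℕ} (h : Gf q v G) : 0 ≤ G := by simpa using h.2 ∅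

theorem Bd.pi (hq : 0 < q) (hc : 0 ≤ c) {w : X → ℕ} (h : Bd q w c) {v : ℕ → Y → ℕ} {G : ℕ → ℝ}
    (h' : ∀ i, Gf q (v i) (G i)) (M : ℕ) :
    Bd q (fun x : X × (Fin M → Y) => w x.1 + ∑ i : Fin M, v i (x.2 i)) (c * ∏ i ∈ range M, G i) := by
  induction M with
  | zero => simpa using h.comp Prod.fst (fun _ _ e => Prod.ext e (Subsingleton.elim _ _)) (by simp)
  | succ M ih =>
    rw [prod_range_succ, ← mul_assoc]
    refine (ih.prod hq (mul_nonneg hc (prod_nonneg fun i _ => (h' i).nonneg)) (h' M)).comp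
      (fun x => ((x.1, Fin.init x.2), x.2 (Fin.last M))) (fun x y e => ?_) fun x => ?_
    · simp only [Prod.mk.injEq] at e
      refine Prod.ext e.1.1 ?_
      rw [← Fin.snoc_init_self x.2, ← Fin.snoc_init_self y.2, e.1.2, e.2]
    · simp [Fin.sum_univ_castSucc, Fin.init, add_assoc]

theorem gf_of_card (hq : 0 < q) {d : Y → ℕ} {N : ℕ → ℝ}
    (h : ∀ k, Finite {y // d y = k} ∧ (Nat.card {y // d y = k} : ℝ) ≤ N k) {i : ℕ} (hi : 0 < i)
    (hG : ∀ K, ∑ k ∈ range K, N k * (q⁻¹ ^ i) ^ k ≤ G) : Gf q (fun y => i * d y) G := by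
  classical
  refine ⟨fun n => ?_, fun s => le_trans ?_ (hG (s.sup d + 1))⟩
  · have := (h (n / i)).1
    exact .of_injective (fun y => (⟨y.1, (Nat.div_eq_of_eq_mul_right hi y.2.symm).symm⟩ :
      {y // d y = n / i})) fun _ _ e => Subtype.ext (by simpa using e)
  · rw [← sum_fiberwise_of_maps_to (g := d) (t := range (s.sup d + 1))
      fun y hy => mem_range.2 (Nat.lt_succ_of_le (le_sup hy))]
    refine sum_le_sum fun k _ => ?_
    rw [sum_congr rfl (g := fun _ => (q⁻¹ ^ i) ^ k) fun y hy => by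
      rw [pow_mul, (mem_filter.1 hy).2], sum_const, nsmul_eq_mul]
    refine mul_le_mul_of_nonneg_right (le_trans (Nat.cast_le.2 ?_) (h k).2) (by positivity)
    have := (h k).1
    rw [← Fintype.card_coe, ← Nat.card_eq_fintype_card]
    exact Nat.card_le_card_of_injective (fun y => ⟨y.1, (mem_filter.1 y.2).2⟩)
      fun _ _ e => Subtype.ext (by simpa using e)

theorem gf_bool (hq : 0 < q) (i : ℕ) : Gf q (fun b : Bool => i * b.toNat) (1 + q⁻¹ ^ i) :=
  ⟨fun _ => inferInstance, fun s => (sum_le_univ_sum_of_nonneg fun _ => by positivity).trans_eq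
    (by simp [add_comm])⟩

theorem geom_le {x : ℝ} (h0 : 0 ≤ x) (h1 : x < 1) (K : ℕ) : ∑ k ∈ range K, x ^ k ≤ (1 - x)⁻¹ := by
  rw [← tsum_geometric_of_lt_one h0 h1]
  exact (summable_geometric_of_lt_one h0 h1).sum_le_tsum _ fun _ _ => by positivity

/-- equidistribution of an invariant among the cosets -/
theorem sum_index_mul_le {T Z A : Type*} [Fintype T] [Group A] [Finite A] [DecidableEq A]
    (K : T → Z) (H : Z → Subgroup A) (cst : T → A) (ψ : T → A → T) (h1 : ∀ u t, K (ψ u t) = K u)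
    (h2 : ∀ u, ∀ t ∈ H (K u), cst (ψ u t) = t * cst u)
    (h3 : ∀ u v t, K u = K v → ψ u t = ψ v t → u = v) (a : A) :
    (∑ u with cst u = a, (H (K u)).index) * Nat.card A ≤ ∑ u, (H (K u)).index ^ 2 := by
  classical
  have := Fintype.ofFinite A
  let s : Finset (Σ _ : T, A) :=
    (univ.filter fun u => cst u = a).sigma fun u => univ.filter fun t => t ∈ H (K u)
  have hs : ∀ x ∈ s, cst x.1 = a ∧ x.2 ∈ H (K x.1) := fun x hx =>
    ⟨(mem_filter.1 (mem_sigma.1 hx).1).2, (mem_filter.1 (mem_sigma.1 hx).2).2⟩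
  have hinj : Set.InjOn (fun x : Σ _ : T, A => ψ x.1 x.2) s := by
    rintro ⟨u, t⟩ hx ⟨v, t'⟩ hy h
    replace hx := hs _ hx
    replace hy := hs _ hy
    dsimp only at h hx hy
    obtain rfl : t = t' := by
      have := h2 u t hx.2
      rw [h, h2 v t' hy.2, hx.1, hy.1] at this
      exact (mul_right_cancel this).symm
    rw [h3 u v t (by rw [← h1 u t, h, h1 v t]) h]
  calc (∑ u with cst u = a, (H (K u)).index) * Nat.card A
      = ∑ x ∈ s, (H (K x.1)).index ^ 2 := by
        rw [sum_sigma, sum_mul]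
        refine sum_congr rfl fun u _ => ?_
        rw [← (H (K u)).index_mul_card, ← mul_assoc]
        dsimp only
        rw [sum_const, smul_eq_mul, Nat.card_eq_fintype_card, Fintype.card_subtype]
        ring
    _ = ∑ x ∈ s, (H (K (ψ x.1 x.2))).index ^ 2 := sum_congr rfl fun x _ => by rw [h1]
    _ = ∑ v ∈ s.image fun x => ψ x.1 x.2, (H (K v)).index ^ 2 :=
      (sum_image (f := fun v => (H (K v)).index ^ 2) hinj).symm
    _ ≤ _ := sum_le_sum_of_subset (subset_univ _)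

end Cfsg.Agent.Forms
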