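import Cfsg.Agent.Lib.Forms.UDet
import Cfsg.Agent.Lib.Forms.WtCount
import Cfsg.Agent.Lib.Forms.ClassCount

/-!
An upper bound for the number of conjugacy classes of the special unitary group.
-/

set_option autoImplicit false

namespace Cfsg.Agent.Forms

open Module Polynomial GLn Finset

section HS

variable {A : Type*} [CommGroup A]

/-- the subgroup generated by the `i`-th powers, `i ∈ S` -/
def HS (A : Type*) [CommGroup A] (S : Set ℕ) : Subgroup A :=
  ⨆ i ∈ S, (powMonoidHom i : A →* A).range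

theorem pow_mem_HS {S : Set ℕ} {i : ℕ} (hi : i ∈ S) (c : A) : c ^ i ∈ HS A S :=
  (le_iSup₂ (f := fun i (_ : i ∈ S) => (powMonoidHom i : A →* A).range) i hi) ⟨c, rfl⟩

theorem index_HS_dvd [IsCyclic A] {S : Set ℕ} {i : ℕ} (hi : i ∈ S) : (HS A S).index ∣ i := by
  have := isCyclic_of_surjective _ (QuotientGroup.mk'_surjective (HS A S))
  obtain ⟨γ, hγ⟩ := IsCyclic.exists_generator (α := A ⧸ HS A S)
  obtain ⟨c, rfl⟩ := QuotientGroup.mk_surjective γ
  rw [Subgroup.index, ← orderOf_eq_card_of_forall_mem_zpowers hγ, orderOf_dvd_iff_pow_eq_one,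
    ← QuotientGroup.mk_pow, QuotientGroup.eq_one_iff]
  exact pow_mem_HS hi c

theorem exists_prod_eq_of_mem_HS {S : Set ℕ} {M : ℕ} (hS : ∀ i ∈ S, i ≤ M) {t : A}
    (ht : t ∈ HS A S) : ∃ c : ℕ → A, (∀ i, i ∉ S → c i = 1) ∧ ∏ i ∈ range (M + 1), c i ^ i = t := by
  classical
  rw [HS, iSup_subtype'] at ht
  induction ht using Subgroup.iSup_induction' with
  | hp i x hx =>
    obtain ⟨c, rfl⟩ := hx
    refine ⟨Pi.mulSingle i.1 c, fun j hj =>
      Pi.mulSingle_eq_of_ne (fun h : j = i.1 => hj (h ▸ i.2)) _, ?_⟩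
    rw [prod_eq_single i.1]
    · simp
    · intro j _ hj
      simp [Pi.mulSingle_eq_of_ne hj]
    · intro h
      exact absurd (mem_range.2 (Nat.lt_succ_of_le (hS _ i.2))) h
  | h1 => exact ⟨1, fun _ _ => rfl, by simp⟩
  | hmul x y _ _ hx hy =>
    obtain ⟨c, hc, rfl⟩ := hx
    obtain ⟨d, hd, rfl⟩ := hy
    exact ⟨c * d, fun i hi => by simp [hc i hi, hd i hi], by simp [mul_pow, prod_mul_distrib]⟩

end HS

variable {F : Type*} [Field F]

/-- self-dual monic polynomials -/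
def SD (P : Param F) (p : F[X]) : Prop := p.Monic ∧ p.coeff 0 ≠ 0 ∧ dl P p = p

theorem SD.mul_σ {P : Param F} {p : F[X]} (h : SD P p) : p.coeff 0 * P.σ (p.coeff 0) = 1 := by
  have := coeff_zero_dl (P := P) h.1
  rw [h.2.2] at this
  nth_rw 1 [this]
  exact inv_mul_cancel₀ (P.σ_ne_zero h.2.1)

theorem SD.coeff_eq {P : Param F} {p : F[X]} (h : SD P p) {i : ℕ} (hi : i ≤ p.natDegree) :
    p.coeff i = p.coeff 0 * P.σ (p.coeff (p.natDegree - i)) := by
  rw [(dl_eq_iff h.2.1).1 h.2.2 i hi, ← mul_assoc, h.mul_σ, one_mul]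

/-- sequences of self-dual polynomials -/
abbrev ST (P : Param F) (M n : ℕ) := {u : ℕ → F[X] // IsU M n u ∧ ∀ i, dl P (u i) = u i}

theorem ST.sd {P : Param F} {M n : ℕ} (u : ST P M n) (i : ℕ) : SD P (u.1 i) :=
  ⟨u.2.1.1 i, u.2.1.2.1 i, u.2.2 i⟩

instance finite_ST [Finite F] (P : Param F) (M n : ℕ) : Finite (ST P M n) :=
  .of_injective (fun u => (⟨u.1, u.2.1⟩ : UT F M n)) fun _ _ e => Subtype.ext (by simpa using e)

noncomputable instance fintype_ST [Finite F] (P : Param F) (M n : ℕ) : Fintype (ST P M n) :=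
  Fintype.ofFinite _

open scoped Classical in
/-- changing the constant term of a self-dual polynomial -/
noncomputable def tw (l c : F) (p : F[X]) : F[X] :=
  if p = 1 then 1 else C l * p + C (1 - l) * X ^ p.natDegree + C ((c - l) * p.coeff 0)

theorem tw_one (l c : F) : tw l c 1 = 1 := if_pos rfl

theorem coeff_tw (l c : F) {p : F[X]} (hm : p.Monic) (h : p ≠ 1) (i : ℕ) : (tw l c p).coeff i =
    if i = p.natDegree then 1 else if i = 0 then c * p.coeff 0 else l * p.coeff i := by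
  have h1 : p.natDegree ≠ 0 := mt hm.natDegree_eq_zero.1 h
  rw [tw, if_neg h, coeff_add, coeff_add, coeff_C_mul, coeff_C_mul, coeff_X_pow, coeff_C]
  split_ifs with h2 h3 h3
  · exact absurd (h2.symm.trans h3) h1
  · rw [h2, hm.coeff_natDegree]; ring
  · rw [h3]; ring
  · ring

theorem monic_tw (l c : F) {p : F[X]} (hm : p.Monic) :
    (tw l c p).Monic ∧ (tw l c p).natDegree = p.natDegree := by
  by_cases h : p = 1
  · simp [h, tw_one]
  have h1 : (tw l c p).natDegree ≤ p.natDegree := natDegree_le_iff_coeff_eq_zero.2 fun i hi => by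
    rw [coeff_tw l c hm h, if_neg hi.ne', if_neg (by omega), coeff_eq_zero_of_natDegree_lt hi,
      mul_zero]
  have h2 : (tw l c p).coeff p.natDegree = 1 := by rw [coeff_tw l c hm h, if_pos rfl]
  exact ⟨monic_of_natDegree_le_of_coeff_eq_one _ h1 h2,
    natDegree_eq_of_le_of_coeff_ne_zero h1 (h2 ▸ one_ne_zero)⟩

theorem tw_eq_one_iff (l c : F) {p : F[X]} (hm : p.Monic) : tw l c p = 1 ↔ p = 1 := by
  rw [← (monic_tw l c hm).1.natDegree_eq_zero, (monic_tw l c hm).2, hm.natDegree_eq_zero]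

theorem coeff_zero_tw (l c : F) {p : F[X]} (hm : p.Monic) (h : p ≠ 1) :
    (tw l c p).coeff 0 = c * p.coeff 0 := by
  rw [coeff_tw l c hm h, if_neg (Ne.symm (mt hm.natDegree_eq_zero.1 h)), if_pos rfl]

theorem tw_inj {l c : F} (hl : l ≠ 0) (hc : c ≠ 0) {p r : F[X]} (hp : p.Monic) (hr : r.Monic)
    (h : tw l c p = tw l c r) : p = r := by
  have h1 : p.natDegree = r.natDegree := by rw [← (monic_tw l c hp).2, h, (monic_tw l c hr).2]
  by_cases e : p = 1
  · rw [e, eq_comm, ← hr.natDegree_eq_zero, ← h1, e, natDegree_one]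
  have e' : r ≠ 1 := fun e' => e (by rw [← hp.natDegree_eq_zero, h1, e', natDegree_one])
  ext i
  have := congrArg (coeff · i) h
  simp only [coeff_tw l c hp e, coeff_tw l c hr e', h1] at this
  split_ifs at this with h2 h3
  · rw [h2, hr.coeff_natDegree, ← h1, hp.coeff_natDegree]
  · rw [h3, mul_left_cancel₀ hc this]
  · exact mul_left_cancel₀ hl this

theorem SD.tw {P : Param F} {p : F[X]} (h : SD P p) {l c : F} (hl : l ≠ 0) (hc : l = c * P.σ l) :
    SD P (tw l c p) := by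
  by_cases e : p = 1
  · rw [e, tw_one]
    exact e ▸ h
  have h0 : c ≠ 0 := left_ne_zero_of_mul (hc ▸ hl)
  have h1 : (Forms.tw l c p).coeff 0 ≠ 0 := by
    rw [coeff_zero_tw l c h.1 e]
    exact mul_ne_zero h0 h.2.1
  have h2 : P.σ l = P.σ c * l := by rw [hc, map_mul, P.σσ, ← hc]
  have h3 : c * P.σ c = 1 := mul_right_cancel₀ hl (by linear_combination -hc - c * h2)
  have h4 : p.natDegree ≠ 0 := mt h.1.natDegree_eq_zero.1 e
  refine ⟨(monic_tw l c h.1).1, h1, (dl_eq_iff h1).2 fun i hi => ?_⟩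
  rw [(monic_tw l c h.1).2] at hi ⊢
  rw [coeff_zero_tw l c h.1 e, coeff_tw l c h.1 e, coeff_tw l c h.1 e]
  rcases hi.eq_or_lt with rfl | hi
  · simp [h4.symm]
  rcases Nat.eq_zero_or_pos i with rfl | hi'
  · simp only [Nat.sub_zero, if_true, if_neg h4.symm, map_one, map_mul]
    linear_combination -h3 - c * P.σ c * h.mul_σ
  · rw [if_neg (by omega), if_neg (by omega), if_neg hi.ne, if_neg hi'.ne', map_mul, map_mul,
      (dl_eq_iff h.2.1).1 h.2.2 i hi.le, h2]
    ring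

variable [Fintype F] {q : ℕ} (hF : Fintype.card F = q ^ 2)

theorem card_SD_le (k : ℕ) : Finite {p : {p // SD (uP hF) p} // p.1.natDegree = k} ∧
    Nat.card {p : {p // SD (uP hF) p} // p.1.natDegree = k} ≤
      if k = 0 then 1 else (q + 1) * q ^ (k - 1) := by
  have h0 : Finite {p : {p // SD (uP hF) p} // p.1.natDegree = k} :=
    .of_injective (fun p => (⟨p.1.1, p.1.2.1, p.2⟩ : {f : F[X] // f.Monic ∧ f.natDegree = k}))
      fun _ _ e => Subtype.ext (Subtype.ext (by simpa using e))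
  refine ⟨h0, ?_⟩
  cases k with
  | zero => exact Finite.card_le_one_iff_subsingleton.2 ⟨fun a b => Subtype.ext (Subtype.ext (by
      rw [a.1.2.1.natDegree_eq_zero.1 a.2, b.1.2.1.natDegree_eq_zero.1 b.2]))⟩
  | succ k =>
  let τ : F → (Fin k → F) →+ (Fin k → F) := fun c =>
    { toFun := fun a i => c * frobq hF (a i.rev)
      map_zero' := by ext; simp
      map_add' := fun a b => by ext; simp [mul_add] }
  have h1 : ∀ c : {c : F // c * frobq hF c = 1}, Nat.card {a // τ c a = a} = q ^ k := by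
    intro c
    obtain ⟨ω, hω⟩ := frobq_ne hF
    have h1 := card_fixed_sq (frobq hF) hω (frobq_frobq hF) (τ c)
      (fun a w => by ext; simp [τ]; ring) fun w => by ext; simp [τ, ← mul_assoc, c.2, frobq_frobq]
    rw [Nat.card_fun, Nat.card_eq_fintype_card (α := F), hF, Nat.card_eq_fintype_card (α := Fin _),
      Fintype.card_fin, ← pow_mul, mul_comm, pow_mul] at h1
    exact Nat.pow_left_injective two_ne_zero h1
  classical
  let φ : {p : {p // SD (uP hF) p} // p.1.natDegree = k + 1} →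
      Σ c : {c : F // c * frobq hF c = 1}, {a // τ c a = a} := fun p =>
    ⟨⟨_, p.1.2.mul_σ⟩, fun i => p.1.1.coeff (i + 1), funext fun i => by
      rw [p.1.2.coeff_eq (i := i + 1) (by rw [p.2]; omega), p.2]
      exact congrArg (fun j => _ * frobq hF (p.1.1.coeff j)) (by rw [Fin.val_rev]; omega)⟩
  refine (Nat.card_le_card_of_injective φ fun a b e => Subtype.ext (Subtype.ext ?_)).trans_eq ?_
  · have e1 := congrArg (fun x : Σ c : {c : F // c * frobq hF c = 1}, {a // τ c a = a} => x.1.1) e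
    have e2 := congrArg (fun x : Σ c : {c : F // c * frobq hF c = 1}, {a // τ c a = a} => x.2.1) e
    ext i
    rcases lt_trichotomy i (k + 1) with h | rfl | h
    · cases i with
      | zero => exact e1
      | succ i => exact congrFun e2 ⟨i, by omega⟩
    · have h2 := a.1.2.1.coeff_natDegree
      have h3 := b.1.2.1.coeff_natDegree
      rw [a.2] at h2
      rw [b.2] at h3
      rw [h2, h3]
    · rw [coeff_eq_zero_of_natDegree_lt (a.2.trans_lt h),
        coeff_eq_zero_of_natDegree_lt (b.2.trans_lt h)]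
  · rw [Nat.card_sigma, sum_congr rfl fun c _ => h1 c, sum_const, card_univ,
      ← Nat.card_eq_fintype_card, card_norm_one, smul_eq_mul]
    simp

/-- the product bounding the number of classes -/
noncomputable def PU (q : ℝ) (M : ℕ) : ℝ :=
  ∏ i ∈ range M, (1 + q⁻¹ ^ (i + 2)) / (1 - q⁻¹ ^ (i + 1))

theorem card_ST_le (M n : ℕ) :
    (Nat.card (ST (uP hF) (M + 1) n) : ℝ) ≤ (1 + (q : ℝ)⁻¹) * PU q M * q ^ n := by
  have hq : (2 : ℝ) ≤ q := by exact_mod_cast two_le_q hF
  have hq0 : (0 : ℝ) < q := by linarith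
  have h1 : ∀ k, Finite {p : {p // SD (uP hF) p} // p.1.natDegree = k} ∧
      (Nat.card {p : {p // SD (uP hF) p} // p.1.natDegree = k} : ℝ) ≤
        if k = 0 then 1 else ((q : ℝ) + 1) * q ^ (k - 1) := fun k =>
    ⟨(card_SD_le hF k).1, by exact_mod_cast (card_SD_le hF k).2⟩
  have h2 : Bd (q : ℝ) (fun p : {p // SD (uP hF) p} => p.1.natDegree) (1 + (q : ℝ)⁻¹) := fun k => by
    refine ⟨(h1 k).1, (h1 k).2.trans ?_⟩
    cases k with
    | zero => simp
    | succ k => simp only [Nat.succ_ne_zero, if_false, Nat.add_sub_cancel]; field_simp; rw [pow_succ']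
  have h3 : ∀ i, Gf (q : ℝ) (fun p : {p // SD (uP hF) p} => (i + 2) * p.1.natDegree)
      ((1 + (q : ℝ)⁻¹ ^ (i + 2)) / (1 - (q : ℝ)⁻¹ ^ (i + 1))) := fun i => by
    refine gf_of_card hq0 h1 (Nat.succ_pos _) fun K => ?_
    have h4 : (q : ℝ)⁻¹ ^ (i + 1) < 1 :=
      pow_lt_one₀ (by positivity) (inv_lt_one_of_one_lt₀ (by linarith)) (Nat.succ_ne_zero i)
    have h5 : (q : ℝ)⁻¹ ^ (i + 1) = q * (q : ℝ)⁻¹ ^ (i + 2) := by
      rw [pow_succ' _ (i + 1), mul_inv_cancel_left₀ hq0.ne']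
    have h6 : (0 : ℝ) ≤ (q : ℝ)⁻¹ ^ (i + 2) := by positivity
    rw [h5] at h4 ⊢
    generalize (q : ℝ)⁻¹ ^ (i + 2) = x at h4 h6
    refine (sum_le_sum_of_subset_of_nonneg (range_mono K.le_succ) fun k _ _ => by
      split_ifs <;> positivity).trans ?_
    have h7 := mul_le_mul_of_nonneg_left (geom_le (by positivity) h4 K)
      (show 0 ≤ ((q : ℝ) + 1) * x by positivity)
    rw [sum_range_succ', mul_sum] at *
    simp only [Nat.succ_ne_zero, if_false, Nat.add_sub_cancel, if_true, pow_zero, mul_one]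
    have h8 : 0 < 1 - q * x := by linarith
    rw [show (1 + x) / (1 - q * x) = (q + 1) * x * (1 - q * x)⁻¹ + 1 by
      rw [div_eq_iff h8.ne', add_mul, mul_assoc _ _ (1 - _), inv_mul_cancel₀ h8.ne']; ring]
    refine add_le_add_left (le_trans (sum_le_sum fun k _ => le_of_eq ?_) h7) _
    ring
  refine ((h2.pi hq0 (by positivity) h3 M).card_le (X' := ST (uP hF) (M + 1) n)
    (fun u => (⟨u.1 1, u.sd 1⟩, fun i => ⟨u.1 (i + 2), u.sd _⟩)) (fun u v e => ?_) fun u => ?_).2
  · refine Subtype.ext (funext fun i => ?_)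
    simp only [Prod.mk.injEq, Subtype.mk.injEq, funext_iff] at e
    match i with
    | 0 => rw [u.2.1.2.2.1, v.2.1.2.2.1]
    | 1 => exact e.1
    | i + 2 =>
      by_cases h : i < M
      · exact e.2 ⟨i, h⟩
      · rw [u.2.1.2.2.2.1 _ (by omega), v.2.1.2.2.2.1 _ (by omega)]
  · refine Eq.trans ?_ u.2.1.2.2.2.2
    rw [sum_range_succ', sum_range_succ',
      Fin.sum_univ_eq_sum_range (fun i => (i + 2) * (u.1 (i + 2)).natDegree), add_comm]
    simp [add_assoc]

/-- the elements of norm one -/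
abbrev mu (F : Type*) [Field F] (q : ℕ) : Subgroup Fˣ := (powMonoidHom (q + 1) : Fˣ →* Fˣ).ker

theorem mem_mu {c : Fˣ} : c ∈ mu F q ↔ (c : F) * frobq hF c = 1 := by
  rw [MonoidHom.mem_ker, powMonoidHom_apply, Units.ext_iff, frobq_apply, ← pow_succ']
  simp

include hF in
theorem card_mu : Nat.card (mu F q) = q + 1 := by
  rw [IsCyclic.card_powMonoidHom_ker, Nat.card_units, Nat.card_eq_fintype_card, hF]
  exact Nat.gcd_eq_right ⟨q - 1, by rw [← Nat.sq_sub_sq]⟩

theorem exists_lam (c : mu F q) : ∃ l : F, l ≠ 0 ∧ l = c.1 * frobq hF l := by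
  obtain ⟨ω, hω⟩ := frobq_ne hF
  obtain ⟨u, h1, h2⟩ := hilbert90 (frobq hF) (frobq_frobq hF) (ω := ω)
    (sub_ne_zero.2 hω.symm).isUnit ((mem_mu hF).1 c.2)
  exact ⟨u, h1.ne_zero, h2⟩

/-- the index attached to a sequence -/
noncomputable def gM (F : Type*) [Field F] (q : ℕ) (u : ℕ → F[X]) : ℕ :=
  (HS (mu F q) (suppU u)).index

/-- the constant term -/
noncomputable def cstM {M n : ℕ} (u : ST (uP hF) M n) : mu F q :=
  ⟨Units.mk0 (cstU M u.1) (prod_ne_zero_iff.2 fun i _ => pow_ne_zero _ (u.sd i).2.1),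
    (mem_mu hF).2 (by
      simp only [Units.val_mk0, cstU, map_prod, map_pow, ← prod_mul_distrib, ← mul_pow]
      exact prod_eq_one fun i _ => by rw [show _ * frobq hF _ = 1 from (u.sd i).mul_σ, one_pow])⟩

theorem sum_gM_mul_le [DecidableEq (mu F q)] (M n : ℕ) (a : mu F q) :
    (∑ u : ST (uP hF) M n with cstM hF u = a, gM F q u.1) * (q + 1) ≤
      ∑ u : ST (uP hF) M n, gM F q u.1 ^ 2 := by
  classical
  have h0 : ∀ (S : Set ℕ) (t : mu F q), ∃ c : ℕ → mu F q, (∀ i ∈ S, i ≤ M) → t ∈ HS (mu F q) S →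
      (∀ i, i ∉ S → c i = 1) ∧ ∏ i ∈ range (M + 1), c i ^ i = t := by
    intro S t
    by_cases h : (∀ i ∈ S, i ≤ M) ∧ t ∈ HS (mu F q) S
    · obtain ⟨c, hc⟩ := exists_prod_eq_of_mem_HS h.1 h.2
      exact ⟨c, fun _ _ => hc⟩
    · exact ⟨1, fun h1 h2 => absurd ⟨h1, h2⟩ h⟩
  choose c hc using h0
  choose l hl hl' using exists_lam hF
  have hsupp : ∀ u : ST (uP hF) M n, ∀ i ∈ suppU u.1, i ≤ M := fun u i hi =>
    not_lt.1 fun h => hi (u.2.1.2.2.2.1 i h)
  let w : ST (uP hF) M n → (ℕ → mu F q) → ST (uP hF) M n := fun u d =>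
    ⟨fun i => tw (l (d i)) (d i).1 (u.1 i), ⟨fun i => ((u.sd i).tw (hl _) (hl' _)).1,
      fun i => ((u.sd i).tw (hl _) (hl' _)).2.1, by simp only [u.2.1.2.2.1, tw_one],
      fun i hi => by simp only [u.2.1.2.2.2.1 i hi, tw_one],
      by simp only [(monic_tw _ _ (u.sd _).1).2]; exact u.2.1.2.2.2.2⟩,
      fun i => ((u.sd i).tw (hl _) (hl' _)).2.2⟩
  have hw : ∀ u d, suppU (w u d).1 = suppU u.1 := fun u d =>
    Set.ext fun i => (tw_eq_one_iff _ _ (u.sd i).1).not
  rw [← card_mu hF]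
  refine sum_index_mul_le (fun u : ST (uP hF) M n => suppU u.1) (HS (mu F q)) (cstM hF)
    (fun u t => w u (c (suppU u.1) t)) (fun u t => hw _ _) (fun u t ht => ?_)
    (fun u v t h1 h2 => Subtype.ext (funext fun i => ?_)) a
  · obtain ⟨h1, h2⟩ := hc _ t (hsupp u) ht
    refine Subtype.ext (Units.ext ?_)
    conv_rhs => rw [← h2]
    simp only [cstM, cstU, Units.val_mk0, Subgroup.coe_mul, Units.val_mul, SubmonoidClass.coe_pow,
      Subgroup.val_finsetProd, Units.coe_prod, Units.val_pow_eq_pow_val, ← prod_mul_distrib,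
      ← mul_pow, w]
    refine prod_congr rfl fun i _ => ?_
    by_cases e : u.1 i = 1
    · simp [e, tw_one, h1 i (not_not.2 e)]
    · rw [coeff_zero_tw _ _ (u.sd i).1 e]
  · have h3 := congrFun (congrArg Subtype.val h2) i
    simp only [w, h1] at h3
    exact tw_inj (hl _) (Units.ne_zero _) (u.sd i).1 (v.sd i).1 h3

omit [Fintype F] in
theorem gM_dvd [Finite F] {M n : ℕ} {u : ℕ → F[X]} (hu : IsU M n u) : gM F q u ∣ n := by
  rw [← hu.2.2.2.2]
  refine dvd_sum fun i _ => ?_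
  by_cases h : u i = 1
  · simp [h]
  · exact (index_HS_dvd (S := suppU u) h).mul_right _

omit [Fintype F] in
theorem gM_pos [Finite F] (u : ℕ → F[X]) : 0 < gM F q u :=
  Nat.pos_of_ne_zero Subgroup.index_ne_zero_of_finite

theorem card_filter_gM_le (n d : ℕ) :
    (univ.filter fun u : ST (uP hF) n n => gM F q u.1 = d).card ≤
      Nat.card (ST (uP hF) (n / d) (n / d)) := by
  classical
  rw [Nat.card_eq_fintype_card, ← Fintype.card_subtype]
  have key : ∀ u : ST (uP hF) n n, gM F q u.1 = d → ∀ i, ¬ d ∣ i → u.1 i = 1 := fun u hu i hi => by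
    by_contra h
    exact hi (hu ▸ index_HS_dvd (S := suppU u.1) h)
  refine Fintype.card_le_of_injective (fun u => ⟨fun i => u.1.1 (d * i), ⟨fun i => u.1.2.1.1 _,
    fun i => u.1.2.1.2.1 _, by simpa using u.1.2.1.2.2.1, fun i hi => u.1.2.1.2.2.2.1 _ ?_, ?_⟩,
    fun i => u.1.2.2 _⟩) ?_
  · exact mul_comm d i ▸ (Nat.div_lt_iff_lt_mul (u.2 ▸ gM_pos _)).1 hi
  · have hd : 0 < d := u.2 ▸ gM_pos _
    symm
    apply Nat.div_eq_of_eq_mul_right hd
    refine u.1.2.1.2.2.2.2.symm.trans ?_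
    rw [mul_sum]
    symm
    refine sum_bij_ne_zero (fun i _ _ => d * i) (fun i hi h => ?_) (fun i _ _ j _ _ h => ?_)
      (fun j hj h => ?_) (fun i _ _ => by ring)
    · rw [mem_range, Nat.lt_succ_iff]
      by_contra h1
      exact h (by simp [u.1.2.1.2.2.2.1 _ (not_le.1 h1)])
    · exact Nat.eq_of_mul_eq_mul_left hd h
    · obtain ⟨i, rfl⟩ : d ∣ j := by
        by_contra h1
        exact h (by rw [key u.1 u.2 j h1]; simp)
      refine ⟨i, ?_, ?_, rfl⟩
      · rw [mem_range, Nat.lt_succ_iff] at hj ⊢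
        exact (Nat.le_div_iff_mul_le hd).2 (mul_comm d i ▸ hj)
      · rwa [← mul_assoc]
  · intro u v h
    have h1 : (fun i => u.1.1 (d * i)) = fun i => v.1.1 (d * i) := congrArg Subtype.val h
    apply Subtype.ext
    apply Subtype.ext
    funext i
    by_cases hi : d ∣ i
    · obtain ⟨j, rfl⟩ := hi
      exact congrFun h1 j
    · rw [key u.1 u.2 i hi, key v.1 v.2 i hi]

theorem sum_gM_sq_le {n : ℕ} (hn : 0 < n) :
    ∑ u : ST (uP hF) n n, gM F q u.1 ^ 2 ≤ Nat.card (ST (uP hF) n n) +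
      ∑ d ∈ (Icc 2 n).filter (fun d => d ∣ n ∧ d ∣ q + 1),
        (d ^ 2 - 1) * Nat.card (ST (uP hF) (n / d) (n / d)) := by
  classical
  have h1 : ∑ u : ST (uP hF) n n, gM F q u.1 ^ 2 =
      ∑ u : ST (uP hF) n n, (1 + (gM F q u.1 ^ 2 - 1)) :=
    sum_congr rfl fun u _ => by
      have := Nat.one_le_pow 2 _ (gM_pos (q := q) u.1)
      omega
  rw [h1, sum_add_distrib, sum_const, smul_eq_mul, mul_one, card_univ, ← Nat.card_eq_fintype_card,
    Nat.add_le_add_iff_left, ← sum_filter_of_ne (p := fun u : ST (uP hF) n n => gM F q u.1 ≠ 1)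
      (fun u _ h h' => h (by simp [h'])),
    ← sum_fiberwise_of_maps_to (t := (Icc 2 n).filter (fun d => d ∣ n ∧ d ∣ q + 1))
      (g := fun u : ST (uP hF) n n => gM F q u.1)]
  · refine sum_le_sum fun d _ => ?_
    rw [sum_congr rfl (g := fun _ => d ^ 2 - 1) (fun u hu => by rw [(mem_filter.1 hu).2]),
      sum_const, smul_eq_mul, mul_comm]
    refine Nat.mul_le_mul_left _ (le_trans (card_le_card ?_) (card_filter_gM_le hF n d))
    intro u hu
    exact mem_filter.2 ⟨mem_univ _, (mem_filter.1 hu).2⟩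
  · intro u hu
    have h2 := (mem_filter.1 hu).2
    have h3 := gM_pos (q := q) u.1
    exact mem_filter.2 ⟨mem_Icc.2 ⟨by omega, Nat.le_of_dvd hn (gM_dvd u.2.1)⟩, gM_dvd u.2.1,
      card_mu hF ▸ Subgroup.index_dvd_card _⟩

namespace Form

variable {hF} {V : Type*} [AddCommGroup V] [Module F V] [FiniteDimensional F V] {f : Form (uP hF) V}

theorem Nondeg.exists_commute_det_HS (hf : f.Nondeg) (g : f.Isom) {t : mu F q}
    (ht : t ∈ HS (mu F q) (suppU (phiU (tp (g.1 : V →ₗ[F] V))))) :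
    ∃ k : f.Isom, Commute k g ∧ f.detHom k = t := by
  rw [HS, iSup_subtype'] at ht
  induction ht using Subgroup.iSup_induction' with
  | hp i x hx =>
    obtain ⟨c, rfl⟩ := hx
    obtain ⟨y, hy, h⟩ := ((valid_tp _).phiU_ne_one_iff i.1).1 i.2
    obtain ⟨l, h1, h2⟩ := exists_lam hF c
    obtain ⟨k, h3, h4⟩ := hf.exists_commute_det_tp (frobq_ne hF) g hy h1
    refine ⟨k, h3, Units.ext ?_⟩
    rw [h4, h, (div_eq_iff ((_root_.map_ne_zero _).2 h1)).2 h2]
    simp
  | h1 => exact ⟨1, Commute.one_left _, by simp⟩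
  | hmul x y _ _ hx hy =>
    obtain ⟨k, hk, hk'⟩ := hx
    obtain ⟨l, hl, hl'⟩ := hy
    exact ⟨k * l, hk.mul_left hl, by rw [map_mul, hk', hl']; rfl⟩

theorem Nondeg.card_conjClasses_SIsom (hf : f.Nondeg) :
    Nat.card (ConjClasses f.SIsom) * (q + 1) ≤
      ∑ u : ST (uP hF) (finrank F V) (finrank F V), gM F q u.1 ^ 2 := by
  classical
  have := f.finite_isom
  have := Fintype.ofFinite (ConjClasses f.SIsom)
  choose g hg using ConjClasses.exists_rep (α := f.SIsom)
  let φ : ConjClasses f.SIsom → ST (uP hF) (finrank F V) (finrank F V) := fun c =>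
    ⟨phiU (tp ((g c).1.1 : V →ₗ[F] V)), isU_phiU_tp _ le_rfl, hf.dl_phiU _⟩
  let a : mu F q := ⟨(-1) ^ finrank F V, pow_mem ((mem_mu hF).2 (by simp)) _⟩
  refine le_trans (Nat.mul_le_mul_right _ ?_) (sum_gM_mul_le hF _ _ a)
  rw [Nat.card_eq_fintype_card, ← card_univ, card_eq_sum_card_fiberwise (f := φ)
    (t := univ.filter fun u => cstM hF u = a) fun c _ => mem_coe.2 (mem_filter.2 ⟨mem_univ _, ?_⟩)]
  · refine sum_le_sum fun u _ => ?_
    rcases (univ.filter fun c => φ c = u).eq_empty_or_nonempty with h | ⟨c₀, hc₀⟩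
    · rw [h]; simp
    obtain rfl := (mem_filter.1 hc₀).2
    have h1 : ∀ c : {c // φ c = φ c₀}, ∃ x : f.Isom, x * g c₀ * x⁻¹ = g c.1 := fun c => by
      obtain ⟨x, hx⟩ := exists_equiv_of_tp_eq
        (eq_of_phiU_eq (valid_tp _) (valid_tp _) (congrArg Subtype.val c.2)).symm
      obtain ⟨z, h4, h5⟩ := hf.exists_B_equiv hf _ _ x hx (Or.inl (frobq_ne hF))
      exact isConj_iff.1 (Sim.isConj ⟨⟨z, unit_isIsom h4⟩, h5⟩)
    choose x hx using h1
    let δ : f.Isom →* mu F q := f.detHom.codRestrict _ fun x => (mem_mu hF).2 (hf.det_mul_σ_det x)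
    rw [← Fintype.card_subtype, ← Nat.card_eq_fintype_card]
    refine Nat.card_le_card_of_injective (β := mu F q ⧸ HS (mu F q) (suppU (φ c₀).1))
      (fun c => QuotientGroup.mk (δ (x c))) fun c c' h => Subtype.ext ?_
    obtain ⟨k, h2, h3⟩ := hf.exists_commute_det_HS _ (QuotientGroup.eq.1 h)
    rw [← hg c.1, ← hg c'.1, ConjClasses.mk_eq_mk_iff_isConj]
    refine isConj_SIsom (x c' * k⁻¹ * (x c)⁻¹) ?_ 1 (Commute.one_left _) ?_
    · rw [← hx c, ← hx c']
      have := h2.inv_left.eq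
      calc _ = x c' * (k⁻¹ * g c₀) * k * (x c')⁻¹ := by group
        _ = _ := by rw [this]; group
    · simp only [map_mul, map_inv, h3, map_one]
      change 1 * (_ * ((f.detHom (x c))⁻¹ * f.detHom (x c'))⁻¹ * _) = 1
      group
  · refine Subtype.ext (Units.ext ?_)
    have h1 := LinearMap.det_eq_sign_charpoly_coeff ((g c).1.1 : V →ₗ[F] V)
    rw [mem_SIsom.1 (g c).2, ← chp_tp, ← cstU_phiU (M := finrank F V) fun x hx =>
      ((valid_tp _).snd_le_wt hx).trans_eq (wt_tp _)] at h1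
    have h2 : ((-1 : F) ^ finrank F V) * (-1) ^ finrank F V = 1 := by rw [← mul_pow]; simp
    simp only [a, Units.val_pow_eq_pow_val, Units.val_neg, Units.val_one]
    change cstU _ (phiU (tp _)) = _
    linear_combination (-(-1) ^ finrank F V) * h1 - cstU _ _ * h2

end Form

end Cfsg.Agent.Forms
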