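import Cfsg.Agent.Lib.Forms.SpUni
import Cfsg.Agent.Lib.Forms.UClass
import Cfsg.Agent.Lib.Forms.OSpec

/-!
An upper bound for the number of conjugacy classes of the symplectic group in odd characteristic.
-/

set_option autoImplicit false

universe u

namespace Cfsg.Agent.Forms

open Module Polynomial GLn Finset

variable {F : Type*} [Field F]

theorem SD.mul {P : Param F} {p r : F[X]} (h : SD P p) (h' : SD P r) : SD P (p * r) :=
  ⟨h.1.mul h'.1, by rw [mul_coeff_zero]; exact mul_ne_zero h.2.1 h'.2.1,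
    by rw [map_mul, h.2.2, h'.2.2]⟩

theorem SD.pow {P : Param F} {p : F[X]} (h : SD P p) (k : ℕ) : SD P (p ^ k) := by
  induction k with
  | zero => exact ⟨by simp, by simp, by simp⟩
  | succ k ih => rw [pow_succ]; exact ih.mul h

theorem sd_X_sub_C {c : F} (hc : c * c = 1) : SD (Param.sp F) (X - C c) := by
  have h0 : (X - C c).coeff 0 ≠ 0 := by simpa using left_ne_zero_of_mul_eq_one hc
  refine ⟨monic_X_sub_C c, h0, (dl_eq_iff h0).2 fun i hi => ?_⟩
  rw [natDegree_X_sub_C] at hi ⊢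
  interval_cases i <;> simp [hc, coeff_X]

theorem SD.eval_eq {p : F[X]} (h : SD (Param.sp F) p) {c : F} (hc : c * c = 1)
    (h0 : p.eval c ≠ 0) : p.coeff 0 = c ^ p.natDegree := by
  have h1 := congrArg (eval c) h.2.2
  have h2 := aeval_reflect (F := F) hc (le_refl p.natDegree)
  simp only [coe_aeval_eq_eval] at h2
  rw [dl_apply, show p.map (Param.sp F).σ = p from Polynomial.map_id, eval_mul, eval_C, reverse, h2,
    Param.sp_σ, ← mul_assoc, mul_eq_right₀ h0, inv_mul_eq_one₀ h.2.1] at h1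
  exact h1

theorem mul_pow_inj {p r : F[X]} {c : F} (hp : p.eval c ≠ 0) (hr : r.eval c ≠ 0) {a b : ℕ}
    (h : p * (X - C c) ^ a = r * (X - C c) ^ b) : p = r ∧ a = b := by
  have key : ∀ (p : F[X]) a, p.eval c ≠ 0 → (p * (X - C c) ^ a).rootMultiplicity c = a :=
    fun p a hp => by
      rw [rootMultiplicity_mul_X_sub_C_pow (by rintro rfl; simp at hp),
        rootMultiplicity_eq_zero hp, zero_add]
  obtain rfl : a = b := by rw [← key p a hp, h, key r b hr]
  exact ⟨mul_right_cancel₀ (pow_ne_zero _ (X_sub_C_ne_zero c)) h, rfl⟩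

/-- palindromic polynomials of even degree -/
abbrev Pal (F : Type*) [Field F] :=
  {w : F[X] // SD (Param.sp F) w ∧ w.coeff 0 = 1 ∧ Even w.natDegree}

theorem card_Pal_le [Fintype F] (k : ℕ) : Finite {w : Pal F // w.1.natDegree / 2 = k} ∧
    (Nat.card {w : Pal F // w.1.natDegree / 2 = k} : ℝ) ≤ (Fintype.card F : ℝ) ^ k := by
  have h : Function.Injective fun (w : {w : Pal F // w.1.natDegree / 2 = k}) (i : Fin k) =>
      w.1.1.coeff (i + 1) := fun a b e => by
    have h1 : ∀ w : {w : Pal F // w.1.natDegree / 2 = k}, w.1.1.natDegree = 2 * k := fun w => by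
      obtain ⟨m, hm⟩ := w.1.2.2.2
      have := w.2
      omega
    have h2 : ∀ i ≤ k, a.1.1.coeff i = b.1.1.coeff i := fun i hi => by
      cases i with
      | zero => rw [a.1.2.2.1, b.1.2.2.1]
      | succ i => exact congrFun e ⟨i, hi⟩
    refine Subtype.ext (Subtype.ext (Polynomial.ext fun i => ?_))
    rcases le_or_gt i k with h3 | h3
    · exact h2 i h3
    rcases le_or_gt i (2 * k) with h4 | h4
    · rw [a.1.2.1.coeff_eq (h4.trans_eq (h1 a).symm), b.1.2.1.coeff_eq (h4.trans_eq (h1 b).symm),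
        h1, h1, h2 0 k.zero_le, h2 _ (by omega)]
    · rw [coeff_eq_zero_of_natDegree_lt ((h1 a).trans_lt h4),
        coeff_eq_zero_of_natDegree_lt ((h1 b).trans_lt h4)]
  refine ⟨.of_injective _ h, ?_⟩
  have := Nat.card_le_card_of_injective _ h
  rw [Nat.card_fun, Nat.card_eq_fintype_card (α := F), Nat.card_eq_fintype_card (α := Fin k),
    Fintype.card_fin] at this
  exact_mod_cast this

open scoped Classical in
/-- the two bits attached to a form -/
noncomputable def bits (x : ℕ × Prop) : Bool × Bool := (decide x.2, decide (Even x.1 ↔ x.2))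

/-- the weight of two bits -/
def wb (b : Bool × Bool) : ℕ := b.1.toNat + b.2.toNat

/-- the remaining part -/
noncomputable def hf (x : ℕ × Prop) : ℕ := (x.1 - wb (bits x)) / 2

theorem hf_add {x : ℕ × Prop} (h : x.1 = 0 → ¬ x.2) : x.1 = 2 * hf x + wb (bits x) := by
  obtain ⟨m, s⟩ := x
  by_cases hs : s <;> by_cases h1 : m % 2 = 0 <;>
    simp [hf, wb, bits, hs, h1, Nat.even_iff] at h ⊢ <;> omega

theorem bits_eq {x : ℕ × Prop} (h : Even x.1 ∧ ¬ x.2) : bits x = (false, false) := by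
  simp [bits, h]

theorem eq_of_bits {x y : ℕ × Prop} (hx : x.1 = 0 → ¬ x.2) (hy : y.1 = 0 → ¬ y.2)
    (h1 : hf x = hf y) (h2 : bits x = bits y) : x = y :=
  Prod.ext (by rw [hf_add hx, hf_add hy, h1, h2]) (by simpa [bits] using congrArg Prod.fst h2)

namespace Form

theorem Adm.bits_eq {L : ℕ} {d : ℕ → ℕ × Prop} (h : Adm L d) {i : ℕ} (hi : Even i ∨ L ≤ i) :
    bits (d i) = (false, false) := Forms.bits_eq (hi.elim (h i).1 fun hi =>
  ⟨(h i).2.2 hi ▸ Even.zero, (h i).2.1 ((h i).2.2 hi)⟩)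

theorem Adm.sum {L : ℕ} {d : ℕ → ℕ × Prop} (h : Adm (L + 1) d) :
    ∑ i ∈ range (L + 1), (i + 1) * (d i).1 = 2 * (∑ i ∈ range (L + 1), (i + 1) * hf (d i) +
      ∑ j ∈ range L, (j + 1) * wb (bits (d (2 * j + 1)))) := by
  rw [sum_congr rfl fun i _ => by rw [hf_add (h i).2.1, mul_add, mul_left_comm], sum_add_distrib,
    mul_add, mul_sum, mul_sum, Nat.add_left_cancel_iff]
  symm
  refine sum_bij_ne_zero (fun j _ _ => 2 * j + 1) (fun j _ hj => ?_) (fun _ _ _ _ _ _ e => by omega)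
    (fun i hi hi' => ?_) fun j _ _ => by ring
  · by_contra h1
    rw [h.bits_eq (Or.inr (by simpa using h1))] at hj
    simp [wb] at hj
  · obtain ⟨j, rfl⟩ : Odd i := by
      by_contra h1
      rw [h.bits_eq (Or.inl (by simpa using h1))] at hi'
      simp [wb] at hi'
    exact ⟨j, by simp at hi ⊢; omega, fun e => hi' (by linear_combination e), rfl⟩

theorem Adm.ext {L : ℕ} {d d' : ℕ → ℕ × Prop} (h : Adm (L + 1) d) (h' : Adm (L + 1) d')
    (h1 : ∀ i < L + 1, hf (d i) = hf (d' i))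
    (h2 : ∀ j < L, bits (d (2 * j + 1)) = bits (d' (2 * j + 1))) : ∀ i < L + 1, d i = d' i :=
  fun i hi => eq_of_bits (h i).2.1 (h' i).2.1 (h1 i hi) (by
    rcases i.even_or_odd with h3 | ⟨j, rfl⟩
    · rw [h.bits_eq (Or.inl h3), h'.bits_eq (Or.inl h3)]
    · exact h2 j (by omega))

variable {V W V' W' U U' : Type*} [AddCommGroup V] [Module F V] [AddCommGroup W] [Module F W]
  [AddCommGroup V'] [Module F V'] [AddCommGroup W'] [Module F W'] [AddCommGroup U] [Module F U]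
  [AddCommGroup U'] [Module F U']

theorem Sim.prod {P : Param F} {f : Form P V} {k : Form P W} {f' : Form P V'} {k' : Form P W'}
    {l : Form P U} {l' : Form P U'} (i : Iso (f.prod k) l) (j : Iso (f'.prod k') l')
    {a : f.Isom} {b : k.Isom} {a' : f'.Isom} {b' : k'.Isom} (h1 : Sim a a') (h2 : Sim b b') :
    Sim (i.isomEquiv (prodHom _ _ (a, b))) (j.isomEquiv (prodHom _ _ (a', b'))) := by
  obtain ⟨x, hx⟩ := h1
  obtain ⟨y, hy⟩ := h2
  refine ⟨i.symm.trans ((x.prod y).trans j), fun v => ?_⟩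
  obtain ⟨v, rfl⟩ := i.e.surjective v
  simp [Iso.isomEquiv_apply, Iso.trans, Iso.symm, Iso.prod, prodHom_apply, hx, hy]

theorem Sim.of_neg {P : Param F} {f : Form P V} {f' : Form P V'} {a : f.Isom} {a' : f'.Isom}
    (h : Sim (f.negOne * a) (f'.negOne * a')) : Sim a a' := by
  obtain ⟨x, hx⟩ := h
  exact ⟨x, fun v => by simpa [Isom.mul_apply, negOne_apply] using hx v⟩

theorem Isom.N_pow_eq_zero [FiniteDimensional F V] {P : Param F} {f : Form P V} {g : f.Isom}
    (h : ∀ α ∈ Isom.ev g, α = 1) {M : ℕ} (hM : finrank F V ≤ M) : Isom.N g ^ M = 0 := by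
  classical
  have := aeval_pow_eq_zero (g := (g.1 : V →ₗ[F] V)) (P := X - 1) (N := M)
    (fun α hα => by simp [h α hα]) fun α _ =>
      (Multiset.count_le_card _ _).trans ((card_ev _).trans_le hM)
  simpa [Isom.N] using this

variable [Fintype F] {V : Type u} [AddCommGroup V] [Module F V] [FiniteDimensional F V]
  {f : Form (Param.sp F) V}

/-- the invariants of a symplectic transformation -/
def Rel (M : ℕ) (g : f.Isom) (v : ℕ → F[X]) (d e : ℕ → ℕ × Prop) : Prop :=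
  ∃ (S T : Submodule F V) (g1 : (f.restrict S).Isom) (g2 : (f.restrict T).Isom)
    (i : Iso ((f.restrict S).prod (f.restrict T)) f) (S' T' : Submodule F T)
    (g3 : ((f.restrict T).restrict S').Isom) (g4 : ((f.restrict T).restrict T').Isom)
    (j : Iso (((f.restrict T).restrict S').prod ((f.restrict T).restrict T')) (f.restrict T)),
    (f.restrict S).Nondeg ∧ ((f.restrict T).restrict S').Nondeg ∧
    ((f.restrict T).restrict T').Nondeg ∧ g = i.isomEquiv (prodHom _ _ (g1, g2)) ∧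
    g2 = j.isomEquiv (prodHom _ _ (g3, g4)) ∧ Has d M g1 ∧ Has e M (negOne _ * g3) ∧
    phiU (tp (g4.1 : T' →ₗ[F] T')) = v ∧ ∀ x, g4.1 (g4.1 x) = x → x = 0

theorem Rel.isConj (h2 : (2 : F) ≠ 0) {M : ℕ} {g h : f.Isom} {v : ℕ → F[X]} {d e : ℕ → ℕ × Prop}
    (H : Rel M g v d e) (H' : Rel M h v d e) : IsConj g h := by
  obtain ⟨S, T, g1, g2, i, S', T', g3, g4, j, a1, a2, a3, rfl, rfl, a4, a5, a6, a7⟩ := H
  obtain ⟨S, T, g1', g2', i', S', T', g3', g4', j', b1, b2, b3, rfl, rfl, b4, b5, b6, -⟩ := H'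
  obtain ⟨x, hx⟩ := exists_equiv_of_tp_eq
    (eq_of_phiU_eq (valid_tp _) (valid_tp _) (a6.trans b6.symm))
  obtain ⟨z, h4, h5⟩ := a3.exists_B_equiv b3 _ _ x hx (Or.inr a7)
  exact (Sim.prod i i' (Has.sim h2 M a1 b1 a4 b4)
    (Sim.prod j j' (Has.sim h2 M a2 b2 a5 b5).of_neg ⟨⟨z, sp_isIsom h4⟩, h5⟩)).isConj

theorem Rel.congr {M : ℕ} {g : f.Isom} {v : ℕ → F[X]} {d e d' e' : ℕ → ℕ × Prop}
    (H : Rel M g v d e) (h1 : ∀ i < M, d i = d' i) (h2 : ∀ i < M, e i = e' i) :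
    Rel M g v d' e' := by
  obtain ⟨S, T, g1, g2, i, S', T', g3, g4, j, a1, a2, a3, a8, a9, a4, a5, a6, a7⟩ := H
  exact ⟨S, T, g1, g2, i, S', T', g3, g4, j, a1, a2, a3, a8, a9, a4.congr M h1, a5.congr M h2,
    a6, a7⟩

theorem Nondeg.exists_rel (hf : f.Nondeg) (h2 : (2 : F) ≠ 0) {M : ℕ} (hM : finrank F V ≤ M)
    (g : f.Isom) : ∃ v d e, Rel M g v d e ∧ Adm M d ∧ Adm M e ∧ (∀ i, SD (Param.sp F) (v i) ∧
      (v i).eval 1 ≠ 0 ∧ (v i).eval (-1) ≠ 0) ∧ v 0 = 1 ∧ (∀ i, M < i → v i = 1) ∧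
      ∑ i ∈ range M, (i + 1) * (d i).1 + ∑ i ∈ range M, (i + 1) * (e i).1 +
        ∑ i ∈ range M, (i + 1) * (v (i + 1)).natDegree = finrank F V := by
  obtain ⟨p, hp⟩ := CharP.exists F
  have := Fact.mk (CharP.char_is_prime F p)
  obtain ⟨S, T, g1, g2, i, a1, a2, a3, a4, a5⟩ := hf.exists_primary p g 1 (by simp)
  obtain ⟨S', T', g3, g4, j, b1, b2, b3, b4, b5⟩ := a2.exists_primary p g2 (-1) (by simp)
  have c1 := i.e.finrank_eq
  have c2 := j.e.finrank_eq
  rw [finrank_prod] at c1 c2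
  obtain ⟨d, d1, d2, d3⟩ := exists_has h2 M g1 a1
    (Isom.N_pow_eq_zero (by simpa using a4) (by omega))
  obtain ⟨e, e1, e2, e3⟩ := exists_has h2 M (negOne _ * g3) b1 (Isom.N_pow_eq_zero (fun α hα => by
    rw [negOne, Isom.ev_scalar_mul] at hα
    obtain ⟨β, hβ, rfl⟩ := Multiset.mem_map.1 hα
    simp [b4 β hβ]) (by omega))
  have c3 : algebraMap F (Kc F) 1 ∉ Isom.ev g4 := fun h => a5 (by
    rw [b3, Iso.ev_isomEquiv, ev_prodHom]
    exact Multiset.mem_add.2 (Or.inr h))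
  have c4 := isU_phiU_tp g4.1 (M := M) (by omega)
  have c5 : ∀ c, algebraMap F (Kc F) c ∉ Isom.ev g4 → ∀ i,
      (phiU (tp (g4.1 : T' →ₗ[F] T')) i).eval c ≠ 0 := fun c hc i h => by
    have h3 : ∀ x ∈ tp (g4.1 : T' →ₗ[F] T'), x.2 ≤ M := fun x hx =>
      ((valid_tp _).snd_le_wt hx).trans (by rw [wt_tp]; omega)
    by_cases hi : phiU (tp (g4.1 : T' →ₗ[F] T')) i = 1
    · simp [hi] at h
    obtain ⟨x, hx, rfl⟩ := ((valid_tp _).phiU_ne_one_iff i).1 hi
    refine hc (mem_ev_iff.2 ?_)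
    rw [aeval_algebraMap_apply, coe_aeval_eq_eval, ← chp_tp, ← prod_phiU_pow h3, eval_prod,
      prod_eq_zero (mem_range.2 (Nat.lt_succ_of_le (h3 x hx))), map_zero]
    rw [eval_pow, h, zero_pow (valid_tp _ x hx).2.2.ne']
  refine ⟨_, d, e, ⟨S, T, g1, g2, i, S', T', g3, g4, j, a1, b1, b2, a3, b3, d2, e2, rfl,
    fun x hx => ?_⟩, d1, e1, fun i => ⟨⟨c4.1 i, c4.2.1 i, b2.dl_phiU g4 i⟩, c5 _ c3 i, c5 _ b5 i⟩,
    c4.2.2.1, c4.2.2.2.1, ?_⟩
  · by_contra h
    refine c3 (algebraMap_mem_ev_iff.2 ⟨x, h, ?_⟩)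
    by_contra h3
    refine b5 (algebraMap_mem_ev_iff.2 ⟨g4.1 x - x, sub_ne_zero.2 (by simpa using h3), ?_⟩)
    simp [hx]
  · have := c4.2.2.2.2
    rw [sum_range_succ'] at this
    omega

theorem Nondeg.card_conjClasses_sp (hf : f.Nondeg) (h2 : (2 : F) ≠ 0) {n M : ℕ}
    (hn : finrank F V = 2 * n) (hM : 2 * n ≤ M + 1) : (Nat.card (ConjClasses f.Isom) : ℝ) ≤
      (∏ i ∈ range M, (1 + (Fintype.card F : ℝ)⁻¹ ^ (i + 1)) ^ 4 /
        (1 - (Fintype.card F : ℝ)⁻¹ ^ (i + 1))) * Fintype.card F ^ n := by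
  have hq : 1 < (Fintype.card F : ℝ) := by exact_mod_cast Fintype.one_lt_card
  set q := (Fintype.card F : ℝ)
  have hq0 : 0 < q := by linarith
  have h3 : Bd q (fun w : Pal F => w.1.natDegree / 2) 1 := fun k => by simpa using card_Pal_le k
  have h4 : ∀ i, Gf q (fun w : Pal F => (i + 2) * (w.1.natDegree / 2)) (1 - q⁻¹ ^ (i + 1))⁻¹ :=
    fun i => gf_of_card hq0 card_Pal_le (Nat.succ_pos _) fun K => le_trans (le_of_eq
      (sum_congr rfl fun k _ => by rw [← mul_pow, pow_succ' _ (i + 1), mul_inv_cancel_left₀ hq0.ne']))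
      (geom_le (by positivity) (pow_lt_one₀ (by positivity) (inv_lt_one_of_one_lt₀ hq)
        (Nat.succ_ne_zero i)) K)
  have h5 : ∀ i, Gf q (fun b : (Bool × Bool) × Bool × Bool => (i + 1) * (wb b.1 + wb b.2))
      ((1 + q⁻¹ ^ (i + 1)) ^ 4) := fun i =>
    ⟨fun _ => inferInstance, fun s => (sum_le_univ_sum_of_nonneg fun _ => by positivity).trans_eq
      (by simp only [pow_mul, Fintype.sum_prod_type, wb]; simp; ring)⟩
  have h6 := (h3.pi hq0 zero_le_one h4 M).pi hq0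
    (mul_nonneg zero_le_one (prod_nonneg fun i _ => (h4 i).nonneg)) h5 M
  simp only [div_eq_inv_mul, prod_mul_distrib]
  rw [one_mul] at h6
  choose g hg using ConjClasses.exists_rep (α := f.Isom)
  choose v d e a1 a2 a3 a4 a5 a6 a7 using fun c => hf.exists_rel h2 (hn.trans_le hM) (g c)
  have b1 : (1 : F) * 1 = 1 := mul_one 1
  have b2 : (-1 : F) * -1 = 1 := by simp
  have b3 : ∀ c i, (v c i).coeff 0 = 1 ∧ Even (v c i).natDegree := fun c i => by
    have h7 := (a4 c i).1.eval_eq b1 (a4 c i).2.1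
    have h8 := (a4 c i).1.eval_eq b2 (a4 c i).2.2
    rw [one_pow] at h7
    rw [h7, eq_comm, neg_one_pow_eq_one_iff_even fun e => h2 (by linear_combination -e)] at h8
    exact ⟨h7, h8⟩
  have b4 : ∀ (r : F[X]) (a b : ℕ), r.Monic → (r * (X - C (-1)) ^ (2 * b) *
      (X - C 1) ^ (2 * a)).natDegree = r.natDegree + 2 * b + 2 * a := fun r a b hr => by
    rw [(hr.mul ((monic_X_sub_C _).pow _)).natDegree_mul ((monic_X_sub_C _).pow _),
      hr.natDegree_mul ((monic_X_sub_C _).pow _), natDegree_pow, natDegree_pow]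
    simp only [natDegree_X_sub_C, mul_one]
  let w : ConjClasses f.Isom → ℕ → Pal F := fun c i =>
    ⟨v c (i + 1) * (X - C (-1)) ^ (2 * Forms.hf (e c i)) * (X - C 1) ^ (2 * Forms.hf (d c i)),
      ((a4 c _).1.mul ((sd_X_sub_C b2).pow _)).mul ((sd_X_sub_C b1).pow _),
      by rw [mul_coeff_zero, mul_coeff_zero, (b3 c _).1]; simp [coeff_zero_eq_eval_zero],
      by rw [b4 _ _ _ (a4 c _).1.1]; exact ((b3 c _).2.add (even_two_mul _)).add (even_two_mul _)⟩
  refine (h6.card_le (fun c => ((w c 0, fun i => w c (i + 1)),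
    fun j => (bits (d c (2 * j + 1)), bits (e c (2 * j + 1))))) (fun c c' h => ?_) fun c => ?_).2
  · simp only [Prod.mk.injEq, funext_iff] at h
    have h7 : ∀ i < M + 1, v c (i + 1) = v c' (i + 1) ∧ Forms.hf (e c i) = Forms.hf (e c' i) ∧
        Forms.hf (d c i) = Forms.hf (d c' i) := fun i hi => by
      have h8 : w c i = w c' i := by
        cases i with
        | zero => exact h.1.1
        | succ i => exact h.1.2 ⟨i, by omega⟩
      have h9 : ∀ c i b, (v c i * (X - C (-1)) ^ b).eval 1 ≠ 0 := fun c i b => by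
        rw [eval_mul, eval_pow]
        exact mul_ne_zero (a4 c i).2.1 (pow_ne_zero _ fun e => h2 (by simpa [one_add_one_eq_two] using e))
      obtain ⟨h10, h11⟩ := mul_pow_inj (h9 _ _ _) (h9 _ _ _) (congrArg Subtype.val h8)
      obtain ⟨h12, h13⟩ := mul_pow_inj (a4 _ _).2.2 (a4 _ _).2.2 h10
      exact ⟨h12, by omega, by omega⟩
    have h8 : v c = v c' := funext fun i => by
      rcases i with _ | i
      · rw [a5, a5]
      · by_cases hi : i < M + 1
        · exact (h7 i hi).1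
        · rw [a6 c _ (by omega), a6 c' _ (by omega)]
    rw [← hg c, ← hg c', ConjClasses.mk_eq_mk_iff_isConj]
    exact ((a1 c).congr ((a2 c).ext (a2 c') (fun i hi => (h7 i hi).2.2) fun j hj => (h.2 ⟨j, hj⟩).1)
      ((a3 c).ext (a3 c') (fun i hi => (h7 i hi).2.1) fun j hj => (h.2 ⟨j, hj⟩).2)).isConj h2
      (h8 ▸ a1 c')
  · have h7 := a7 c
    have h8 : ∀ i, (i + 1) * (v c (i + 1)).natDegree + 2 * ((i + 1) * Forms.hf (e c i)) +
        2 * ((i + 1) * Forms.hf (d c i)) = 2 * ((i + 1) * ((w c i).1.natDegree / 2)) := fun i => by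
      rw [mul_left_comm 2 (i + 1) (_ / 2), Nat.two_mul_div_two_of_even (w c i).2.2.2,
        b4 _ _ _ (a4 c _).1.1]
      ring
    have h9 := sum_congr rfl fun i (_ : i ∈ range (M + 1)) => h8 i
    simp only [sum_add_distrib, ← mul_sum] at h9
    rw [sum_range_succ' fun i => (i + 1) * ((w c i).1.natDegree / 2)] at h9
    rw [(a2 c).sum, (a3 c).sum] at h7
    simp only [mul_add, sum_add_distrib]
    rw [Fin.sum_univ_eq_sum_range fun i => (i + 2) * ((w c (i + 1)).1.natDegree / 2),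
      Fin.sum_univ_eq_sum_range fun j => (j + 1) * wb (bits (d c (2 * j + 1))),
      Fin.sum_univ_eq_sum_range fun j => (j + 1) * wb (bits (e c (2 * j + 1)))]
    simp only [add_assoc, Nat.reduceAdd] at h9
    omega

end Form

end Cfsg.Agent.Forms
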