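import Cfsg.Agent.Lib.Forms.SpUni
import Cfsg.Agent.Lib.GLn.Blocks

/-!
Counting by Fitting decompositions in symplectic spaces.
-/

set_option autoImplicit false

namespace Cfsg.Agent.Forms

open Module Finset

variable {F : Type*} [Field F] {V W : Type*} [AddCommGroup V] [Module F V]
  [AddCommGroup W] [Module F W]

/-- the generalized kernel -/
def gk (N : Module.End F V) : Submodule F V where
  carrier := {x | ∃ k, (N ^ k) x = 0}
  add_mem' := by
    rintro x y ⟨a, ha⟩ ⟨b, hb⟩
    refine ⟨a + b, ?_⟩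
    rw [map_add, pow_add, Module.End.mul_apply _ _ y, hb, ← pow_add, add_comm a, pow_add,
      Module.End.mul_apply, ha, map_zero, map_zero, add_zero]
  zero_mem' := ⟨0, rfl⟩
  smul_mem' := by
    rintro c x ⟨a, ha⟩
    exact ⟨a, by rw [map_smul, ha, smul_zero]⟩

theorem mem_gk {N : Module.End F V} {x : V} : x ∈ gk N ↔ ∃ k, (N ^ k) x = 0 := Iff.rfl

theorem map_pow_of_comm {φ : V →ₗ[F] W} {N : Module.End F V} {N' : Module.End F W}
    (h : ∀ x, φ (N x) = N' (φ x)) (k : ℕ) (x : V) : φ ((N ^ k) x) = (N' ^ k) (φ x) := by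
  induction k with
  | zero => rfl
  | succ k ih => rw [pow_succ', pow_succ', Module.End.mul_apply, h, ih]; rfl

theorem map_mem_gk {φ : V →ₗ[F] W} {N : Module.End F V} {N' : Module.End F W}
    (h : ∀ x, φ (N x) = N' (φ x)) {x : V} (hx : x ∈ gk N) : φ x ∈ gk N' :=
  hx.imp fun k hk => by rw [← map_pow_of_comm h, hk, map_zero]

theorem map_mem_gk_iff {φ : V →ₗ[F] W} {N : Module.End F V} {N' : Module.End F W}
    (h : ∀ x, φ (N x) = N' (φ x)) (hφ : Function.Injective φ) {x : V} :
    φ x ∈ gk N' ↔ x ∈ gk N :=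
  exists_congr fun k => by rw [← map_pow_of_comm h, map_eq_zero_iff _ hφ]

theorem gk_conj (e : V ≃ₗ[F] W) (N : Module.End F V) :
    gk (e.conj N) = (gk N).map (e : V →ₗ[F] W) := by
  ext y
  obtain ⟨x, rfl⟩ := e.surjective y
  rw [Submodule.mem_map_equiv, e.symm_apply_apply]
  exact map_mem_gk_iff (φ := (e : V →ₗ[F] W)) (fun x => by simp) e.injective

theorem gk_prodMap (N : Module.End F V) (N' : Module.End F W) :
    gk (N.prodMap N') = (gk N).prod (gk N') := by
  ext x
  refine ⟨fun h => ⟨map_mem_gk (φ := LinearMap.fst F V W) (fun _ => rfl) h,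
    map_mem_gk (φ := LinearMap.snd F V W) (fun _ => rfl) h⟩, fun h => ?_⟩
  simpa using (gk _).add_mem (map_mem_gk (φ := LinearMap.inl F V W) (N' := N.prodMap N')
    (fun _ => by simp) h.1) (map_mem_gk (φ := LinearMap.inr F V W) (fun _ => by simp) h.2)

theorem gk_eq_bot_iff {N : Module.End F V} : gk N = ⊥ ↔ Function.Injective N := by
  rw [eq_bot_iff, injective_iff_map_eq_zero]
  refine ⟨fun h x hx => h ⟨1, hx⟩, fun h x ⟨k, hk⟩ => ?_⟩
  induction k with
  | zero => exact hk
  | succ k ih => exact ih (h _ (by rwa [pow_succ'] at hk))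

theorem gk_eq [FiniteDimensional F V] (N : Module.End F V) :
    gk N = LinearMap.ker (N ^ finrank F V) :=
  le_antisymm (fun _ ⟨k, hk⟩ => Module.End.ker_pow_le_ker_pow_finrank N k hk) fun _ h => ⟨_, h⟩

theorem gk_eq_top_iff [FiniteDimensional F V] {N : Module.End F V} : gk N = ⊤ ↔ IsNilpotent N :=
  ⟨fun h => ⟨_, LinearMap.ker_eq_top.1 (gk_eq N ▸ h)⟩,
    fun ⟨k, hk⟩ => eq_top_iff.2 fun _ _ => ⟨k, by rw [hk]; rfl⟩⟩

/-- the operator whose Fitting decomposition is used -/
def pol : Bool → Module.End F V → Module.End F V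
  | true, T => T - 1
  | false, T => T * (1 - T)

theorem pol_conj (s : Bool) (e : V ≃ₗ[F] W) (T : Module.End F V) :
    pol s (e.conj T) = e.conj (pol s T) := by
  cases s <;> ext <;> simp [pol]

theorem pol_prodMap (s : Bool) (T : Module.End F V) (T' : Module.End F W) :
    pol s (T.prodMap T') = (pol s T).prodMap (pol s T') := by
  cases s <;> ext <;> simp [pol]

theorem commute_pol (s : Bool) (T : Module.End F V) : Commute T (pol s T) := by
  cases s
  · exact (Commute.refl T).mul_right ((Commute.one_right T).sub_right (Commute.refl T))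
  · exact (Commute.refl T).sub_right (Commute.one_right T)

namespace Form

/-- the two kinds of operators -/
def AA : Bool → Form (Param.sp F) V → Module.End F V → Prop
  | true, f, T => ∀ x y, f.B (T x) (T y) = f.B x y
  | false, f, T => ∀ x y, f.B (T x) y + f.B x (T y) = f.B x y

variable {s : Bool} {f : Form (Param.sp F) V} {f' : Form (Param.sp F) W}

theorem AA.comap {T : Module.End F V} {T' : Module.End F W} (h : AA s f' T') {φ : V →ₗ[F] W}
    (h1 : IsIsom f f' φ) (h2 : ∀ x, φ (T x) = T' (φ x)) : AA s f T := by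
  cases s <;> intro x y <;> simp only [← h1.map_B, h2] <;> exact h _ _

theorem AA_conj (i : Iso f f') {T : Module.End F V} : AA s f' (i.e.conj T) ↔ AA s f T :=
  ⟨fun h => h.comap (φ := (i.e : V →ₗ[F] W)) i.isom fun x => by simp,
    fun h => h.comap (φ := (i.e.symm : W →ₗ[F] V)) i.symm.isom fun x => by simp⟩

theorem AA.prodMap {T : Module.End F V} {T' : Module.End F W} (h : AA s f T) (h' : AA s f' T') :
    AA s (f.prod f') (T.prodMap T') := by
  cases s <;> intro x y <;> simp only [prod_B, LinearMap.prodMap_apply]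
  · linear_combination h x.1 y.1 + h' x.2 y.2
  · rw [h, h']

/-- the number of operators with a given dimension of the generalized kernel -/
noncomputable def cX (s : Bool) (f : Form (Param.sp F) V) (d : ℕ) : ℕ :=
  Nat.card {T // AA s f T ∧ finrank F (gk (pol s T)) = d}

theorem Iso.cX_eq (i : Iso f f') (d : ℕ) : cX s f d = cX s f' d :=
  Nat.card_congr (i.e.conj.toEquiv.subtypeEquiv fun T => by
    change _ ↔ AA s f' (i.e.conj T) ∧ finrank F (gk (pol s (i.e.conj T))) = d
    rw [AA_conj, pol_conj, gk_conj, LinearEquiv.finrank_map_eq])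

/-- the conjugation action -/
@[reducible] def cact {P : Param F} (f : Form P V) : MulAction f.Isom (Module.End F V) where
  smul g T := g.1.conj T
  one_smul _ := rfl
  mul_smul _ _ _ := rfl

/-- the stabilizer of a subspace -/
def stabS {P : Param F} (f : Form P V) (S : Submodule F V) : Subgroup f.Isom where
  carrier := {g | S.map (g.1 : V →ₗ[F] V) = S}
  mul_mem' {a b} ha hb := by
    change S.map ((a.1 : V →ₗ[F] V) ∘ₗ (b.1 : V →ₗ[F] V)) = S
    rw [Submodule.map_comp, hb, ha]
  one_mem' := S.map_id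
  inv_mem' {a} ha := (Submodule.map_symm_eq_iff a.1).2 ha

variable [FiniteDimensional F V] [FiniteDimensional F W]

theorem AA.B_eq_zero (hf : f.Nondeg) {T : Module.End F V} (h : AA s f T) (k : ℕ) (x : V) {y : V}
    (hy : (pol s T ^ k) y = 0) : f.B ((pol s T ^ k) x) y = 0 := by
  cases s
  · have h1 : ∀ x y, f.B (pol false T x) y = f.B x (pol false T y) := fun x y => by
      simp only [pol, Module.End.mul_apply, LinearMap.sub_apply, Module.End.one_apply, map_sub,
        LinearMap.sub_apply]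
      linear_combination h x y - h (T x) y - h x y + h x (T y)
    have h2 : ∀ k x y, f.B ((pol false T ^ k) x) y = f.B x ((pol false T ^ k) y) := fun k => by
      induction k with
      | zero => exact fun _ _ => rfl
      | succ k ih =>
        intro x y
        rw [show (pol false T ^ (k + 1)) x = (pol false T ^ k) (pol false T x) by
          rw [pow_succ]; rfl, ih, h1, pow_succ']
        rfl
    rw [h2, hy, B_zero_right]
  · have := Isom.B_N_pow (Isom.ofEnd hf T (sp_isIsom h)) k x y
    change f.B ((pol true T ^ k) x) y = _ * f.B _ ((pol true T ^ k) y) at this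
    rw [this, hy, B_zero_right, mul_zero]

theorem AA.orth_gk (hf : f.Nondeg) {T : Module.End F V} (h : AA s f T) :
    f.orth (gk (pol s T)) = LinearMap.range (pol s T ^ finrank F V) := by
  rw [gk_eq]
  refine (Submodule.eq_of_le_of_finrank_eq ?_ ?_).symm
  · rintro _ ⟨x, rfl⟩ y hy
    exact h.B_eq_zero hf _ x hy
  · have := hf.finrank_add_orth (LinearMap.ker (pol s T ^ finrank F V))
    have := (pol s T ^ finrank F V).finrank_range_add_finrank_ker
    omega

theorem AA.disjoint (hf : f.Nondeg) {T : Module.End F V} (h : AA s f T) :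
    Disjoint (gk (pol s T)) (f.orth (gk (pol s T))) := by
  rw [h.orth_gk hf, Submodule.disjoint_def]
  rintro _ ⟨k, hk⟩ ⟨x, rfl⟩
  rw [← Module.End.mul_apply, ← pow_add] at hk
  exact Module.End.ker_pow_le_ker_pow_finrank _ _ hk

theorem AA.mem_orth (hf : f.Nondeg) {T : Module.End F V} (h : AA s f T) {x : V}
    (hx : x ∈ f.orth (gk (pol s T))) : T x ∈ f.orth (gk (pol s T)) := by
  rw [h.orth_gk hf] at hx ⊢
  obtain ⟨x, rfl⟩ := hx
  exact ⟨T x, LinearMap.congr_fun ((commute_pol s T).pow_right _).eq.symm x⟩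

omit [FiniteDimensional F V] [FiniteDimensional F W] in
theorem orth_top_prod_bot {P : Param F} {f : Form P V} (hf : f.Nondeg) (f' : Form P W) :
    (f.prod f').orth ((⊤ : Submodule F V).prod ⊥) = (⊥ : Submodule F V).prod ⊤ := by
  ext x
  simp only [mem_orth, Submodule.mem_prod, Submodule.mem_top, Submodule.mem_bot, true_and, and_true]
  exact ⟨fun h => hf _ fun y => by simpa using h (y, 0) rfl, fun h y hy => by simp [h, hy]⟩

omit [FiniteDimensional F V] [FiniteDimensional F W] in
theorem eq_prodMap {T : Module.End F (V × W)}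
    (h1 : ∀ x ∈ (⊤ : Submodule F V).prod ⊥, T x ∈ (⊤ : Submodule F V).prod ⊥)
    (h2 : ∀ x ∈ (⊥ : Submodule F V).prod ⊤, T x ∈ (⊥ : Submodule F V).prod ⊤) :
    ∃ (T₁ : Module.End F V) (T₂ : Module.End F W), T = T₁.prodMap T₂ := by
  refine ⟨LinearMap.fst F V W ∘ₗ T ∘ₗ LinearMap.inl F V W,
    LinearMap.snd F V W ∘ₗ T ∘ₗ LinearMap.inr F V W, LinearMap.prod_ext (LinearMap.ext fun x => ?_)
    (LinearMap.ext fun x => ?_)⟩
  · exact Prod.ext (by simp) (by simpa [Prod.mk_zero_zero] using (h1 (x, 0) ⟨trivial, rfl⟩).2)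
  · exact Prod.ext (by simpa [Prod.mk_zero_zero] using (h2 (0, x) ⟨rfl, trivial⟩).1) (by simp)

theorem stabS_prod (hf : f.Nondeg) (hf' : f'.Nondeg) :
    (f.prod f').stabS ((⊤ : Submodule F V).prod ⊥) = (prodHom f f').range := by
  ext g
  constructor
  · intro hg
    have h1 : ∀ x ∈ (⊤ : Submodule F V).prod ⊥, g.1 x ∈ (⊤ : Submodule F V).prod ⊥ :=
      fun x hx => hg ▸ Submodule.mem_map_of_mem hx
    have h2 := Isom.orth_invariant g h1
    rw [orth_top_prod_bot hf] at h2
    obtain ⟨a, b, h⟩ := eq_prodMap (T := (g.1 : V × W →ₗ[F] V × W)) h1 h2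
    have h3 : AA true (f.prod f') (a.prodMap b) := h ▸ Isom.map_B g
    exact ⟨(Isom.ofEnd hf a (sp_isIsom fun x y => by simpa using h3 (x, 0) (y, 0)),
      Isom.ofEnd hf' b (sp_isIsom fun x y => by simpa using h3 (0, x) (0, y))),
      Isom.ext fun x => (LinearMap.congr_fun h x).symm⟩
  · rintro ⟨⟨a, b⟩, rfl⟩
    change Submodule.map _ _ = _
    rw [prodHom_coe, LinearMap.prodMap_map_prod]
    simp

theorem cX_prod (hf : f.Nondeg) (hf' : f'.Nondeg) :
    cX s (f.prod f') (finrank F V) * (Nat.card f.Isom * Nat.card f'.Isom) =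
      Nat.card (f.prod f').Isom * (cX s f (finrank F V) * cX s f' 0) := by
  have h0 := hf.prod hf'
  have hd : finrank F ((⊤ : Submodule F V).prod (⊥ : Submodule F W)) = finrank F V := by
    rw [← Submodule.map_inl, Submodule.map_top,
      LinearMap.finrank_range_of_inj LinearMap.inl_injective]
  letI := cact (f.prod f')
  have h := GLn.card_translates ((f.prod f').stabS ((⊤ : Submodule F V).prod ⊥))
    (fun T : Module.End F (V × W) => AA s (f.prod f') T ∧ gk (pol s T) = (⊤ : Submodule F V).prod ⊥)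
    fun g T hT => by
      change AA s _ ((Iso.ofIsom g).e.conj T) ∧ gk (pol s (g.1.conj T)) = _ ↔ _
      rw [AA_conj, pol_conj, gk_conj, hT.2]
      exact and_iff_right hT.1
  rw [stabS_prod hf hf', ← Nat.card_congr (MonoidHom.ofInjective (prodHom_injective f f')).toEquiv,
    Nat.card_prod] at h
  convert h using 2
  · refine Nat.card_congr (Equiv.subtypeEquivRight fun T => ⟨fun ⟨h1, h2⟩ => ?_, ?_⟩)
    · have h3 := ((f.prod f').restrict_nondeg_iff _).2 (h1.disjoint h0)
      obtain ⟨i⟩ := hf.sp_iso h3 h2.symm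
      obtain ⟨g, hg⟩ := h0.witt_maps (LinearMap.inl F V W) ((gk (pol s T)).subtype ∘ₗ i.e.toLinearMap)
        LinearMap.inl_injective (Subtype.val_injective.comp i.e.injective)
        (fun x y => by simpa using (i.isom.map_B x y).symm) fun x => by simp only [sp_Q]
      refine ⟨g, g.1.symm.conj T, ⟨(AA_conj (Iso.ofIsom g⁻¹)).2 h1, ?_⟩, g.1.conj_conj_symm T⟩
      rw [pol_conj, gk_conj, Submodule.map_symm_eq_iff]
      refine Submodule.eq_of_le_of_finrank_eq ?_ (by rw [LinearEquiv.finrank_map_eq, hd, h2])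
      rintro _ ⟨⟨x, y⟩, ⟨-, rfl : y = 0⟩, rfl⟩
      exact (hg x).symm ▸ (i.e x).2
    · rintro ⟨g, T, ⟨h1, h2⟩, rfl⟩
      refine ⟨(AA_conj (Iso.ofIsom g)).2 h1, ?_⟩
      change finrank F (gk (pol s (g.1.conj T))) = _
      rw [pol_conj, gk_conj, LinearEquiv.finrank_map_eq, h2, hd]
  · rw [cX, cX, ← Nat.card_prod]
    refine Nat.card_eq_of_bijective (fun x => ⟨x.1.1.prodMap x.2.1, x.1.2.1.prodMap x.2.2.1, by
      rw [pol_prodMap, gk_prodMap, Submodule.eq_top_of_finrank_eq x.1.2.2,
        Submodule.finrank_eq_zero.1 x.2.2.2]⟩) ⟨fun x y e => ?_, ?_⟩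
    · have := LinearMap.congr_fun (congrArg Subtype.val e)
      exact Prod.ext (Subtype.ext (LinearMap.ext fun v => congrArg Prod.fst (this (v, 0))))
        (Subtype.ext (LinearMap.ext fun v => congrArg Prod.snd (this (0, v))))
    · rintro ⟨T, h1, h2⟩
      obtain ⟨a, b, rfl⟩ := eq_prodMap (T := T) (fun x hx => h2 ▸ map_mem_gk (fun x =>
        LinearMap.congr_fun (commute_pol s T).eq x) (h2 ▸ hx)) fun x hx => by
          have := h1.mem_orth h0 (x := x)
          rw [h2, orth_top_prod_bot hf] at this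
          exact this hx
      rw [pol_prodMap, gk_prodMap] at h2
      have h3 := congrArg (Submodule.map (LinearMap.fst F V W)) h2
      have h4 := congrArg (Submodule.map (LinearMap.snd F V W)) h2
      rw [Submodule.prod_map_fst, Submodule.prod_map_fst] at h3
      rw [Submodule.prod_map_snd, Submodule.prod_map_snd] at h4
      exact ⟨(⟨a, h1.comap (φ := LinearMap.inl F V W) (sp_isIsom fun _ _ => by simp) (by simp),
        by rw [h3, finrank_top]⟩, ⟨b, h1.comap (φ := LinearMap.inr F V W)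
          (sp_isIsom fun _ _ => by simp) (by simp), by rw [h4, finrank_bot]⟩), rfl⟩

theorem card_AA [Finite F] (s : Bool) (n : ℕ) :
    (Nat.card {T // AA s (spForm n F) T} : ℚ) / Nat.card (spForm n F).Isom =
      ∑ p ∈ antidiagonal n, (cX s (spForm p.1 F) (2 * p.1) / Nat.card (spForm p.1 F).Isom : ℚ) *
        (cX s (spForm p.2 F) 0 / Nat.card (spForm p.2 F).Isom) := by
  classical
  have : Finite (Module.End F (Fin n ⊕ Fin n → F)) := Module.finite_of_finite F
  have := Fintype.ofFinite (Module.End F (Fin n ⊕ Fin n → F))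
  have h0 : ∀ k, (Nat.card (spForm k F).Isom : ℚ) ≠ 0 := fun k => by
    have := (spForm k F).finite_isom
    exact_mod_cast Nat.card_pos.ne'
  have h1 : ∀ T, AA s (spForm n F) T → Even (finrank F (gk (pol s T))) := fun T hT =>
    (((spForm n F).restrict_nondeg_iff _).2 (hT.disjoint (spForm_nondeg n))).sp_even
  rw [Nat.card_eq_fintype_card, Fintype.card_subtype, card_eq_sum_card_fiberwise
    (t := antidiagonal n) (f := fun T => (finrank F (gk (pol s T)) / 2,
      n - finrank F (gk (pol s T)) / 2)) fun T _ => by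
        have := (gk (pol s T)).finrank_le
        rw [finrank_plus] at this
        simp only [mem_coe, HasAntidiagonal.mem_antidiagonal]
        omega, Nat.cast_sum, sum_div]
  refine sum_congr rfl fun p hp => ?_
  have h2 := mem_antidiagonal.1 hp
  obtain ⟨i⟩ := ((spForm_nondeg (F := F) p.1).prod (spForm_nondeg p.2)).sp_iso (spForm_nondeg n)
    (by rw [finrank_prod, finrank_plus, finrank_plus, finrank_plus]; omega)
  have h3 := cX_prod (s := s) (spForm_nondeg (F := F) p.1) (spForm_nondeg p.2)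
  rw [i.cX_eq, Nat.card_congr i.isomEquiv.toEquiv, finrank_plus] at h3
  rw [div_mul_div_comm, div_eq_div_iff (h0 _) (mul_ne_zero (h0 _) (h0 _)), filter_filter, ← Fintype.card_subtype, ← Nat.card_eq_fintype_card]
  norm_cast
  rw [mul_comm _ (Nat.card (spForm n F).Isom), ← h3]
  refine congrArg (· * _) (Nat.card_congr (Equiv.subtypeEquivRight fun T =>
    and_congr_right fun hT => ?_))
  obtain ⟨k, hk⟩ := h1 T hT
  rw [Prod.ext_iff]
  dsimp only
  omega

theorem card_AA_true (hf : f.Nondeg) : Nat.card {T // AA true f T} = Nat.card f.Isom :=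
  (Nat.card_eq_of_bijective (fun g => ⟨(g.1 : V →ₗ[F] V), Isom.map_B g⟩)
    ⟨fun _ _ e => Isom.ext (LinearMap.congr_fun (congrArg Subtype.val e)),
      fun T => ⟨Isom.ofEnd hf T.1 (sp_isIsom T.2), rfl⟩⟩).symm

theorem card_AA_false (hf : f.Nondeg) :
    Nat.card {T // AA false f T} = Nat.card F ^ (finrank F V + 1).choose 2 := by
  classical
  let b := finBasis F V
  rw [← Fintype.card_fin (finrank F V), ← Sym2.card, Fintype.card_congr Sym2.sortEquiv,
    ← Nat.card_eq_fintype_card, ← Nat.card_fun]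
  refine Nat.card_eq_of_bijective (fun T p => f.B (b p.1.1) (T.1 (b p.1.2))) ⟨fun T T' e => ?_,
    fun c => ?_⟩
  · refine Subtype.ext (b.ext fun j => hf.ext_right fun x =>
      LinearMap.congr_fun (b.ext (f₁ := f.B.flip _) (f₂ := f.B.flip _) fun i => ?_) x)
    change f.B (b i) _ = f.B (b i) _
    rcases le_total i j with h | h
    · exact congrFun e ⟨(i, j), h⟩
    · have h1 : f.B (b j) (T.1 (b i)) = f.B (b j) (T'.1 (b i)) := congrFun e ⟨(j, i), h⟩
      linear_combination T.2 (b i) (b j) - T'.2 (b i) (b j) + h1 - f.sp_symm (b j) (T.1 (b i)) +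
        f.sp_symm (b j) (T'.1 (b i))
  · let β : V →ₗ[F] V →ₗ[F] F := b.constr F fun i => b.constr F fun j =>
      if h : i ≤ j then c ⟨(i, j), h⟩ else f.B (b i) (b j) + c ⟨(j, i), le_of_not_ge h⟩
    obtain ⟨T, hT⟩ := hf.exists_adj β
    have h1 : ∀ i j, f.B (b i) (T (b j)) = if h : i ≤ j then c ⟨(i, j), h⟩ else
        f.B (b i) (b j) + c ⟨(j, i), le_of_not_ge h⟩ := fun i j => by
      rw [hT]; exact (LinearMap.congr_fun (b.constr_basis F _ i) _).trans (b.constr_basis F _ j)
    refine ⟨⟨T, fun x y => LinearMap.congr_fun₂ (LinearMap.ext_basis b b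
      (B := f.B.comp T + f.B.compl₂ T) (B' := f.B) fun i j => ?_) x y⟩,
      funext fun p => (h1 _ _).trans (dif_pos p.2)⟩
    change f.B (T (b i)) (b j) + f.B (b i) (T (b j)) = _
    rw [f.sp_symm (b j) (T _), h1, h1]
    rcases lt_trichotomy i j with h | rfl | h
    · rw [dif_neg h.not_ge, dif_pos h.le, f.sp_symm (b i)]; ring
    · simp [sp_B_self]
    · rw [dif_neg h.not_ge, dif_pos h.le]; ring

theorem cX_zero (hf : f.Nondeg) : cX true f 0 = cX false f 0 := by
  have h0 : ∀ s, cX s f 0 = Nat.card {T // AA s f T ∧ IsUnit (pol s T)} := fun s =>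
    Nat.card_congr (Equiv.subtypeEquivRight fun T => by
      rw [Submodule.finrank_eq_zero, gk_eq_bot_iff, LinearMap.isUnit_iff_ker_eq_bot,
        LinearMap.ker_eq_bot])
  simp only [h0, pol]
  have h1 : ∀ {u : Module.End F V}, IsUnit u → ∀ x, Ring.inverse u (u x) = x := fun hu x =>
    LinearMap.congr_fun (Ring.inverse_mul_cancel _ hu) x
  have h2 : ∀ {u : Module.End F V}, IsUnit u → Function.Surjective u := fun hu =>
    ((Module.End.isUnit_iff _).1 hu).2
  refine Nat.card_congr ⟨fun g => ⟨Ring.inverse (1 - g.1), fun x y => ?_, ?_⟩,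
    fun T => ⟨1 - Ring.inverse T.1, fun x y => ?_, ?_⟩, fun g => Subtype.ext ?_,
    fun T => Subtype.ext ?_⟩
  · have h3 := g.2.2.neg
    rw [neg_sub] at h3
    obtain ⟨x, rfl⟩ := h2 h3 x
    obtain ⟨y, rfl⟩ := h2 h3 y
    rw [h1 h3, h1 h3]
    simp only [LinearMap.sub_apply, Module.End.one_apply, B_sub_left, B_sub_right, g.2.1 x y]
    ring
  · have h3 := g.2.2.neg
    rw [neg_sub] at h3
    have h4 : IsUnit g.1 := (LinearMap.isUnit_iff_ker_eq_bot _).2
      (LinearMap.ker_eq_bot.2 ((sp_isIsom g.2.1).injective hf))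
    refine h3.ringInverse.mul ?_
    have : 1 - Ring.inverse (1 - g.1) = -(Ring.inverse (1 - g.1) * g.1) := by
      nth_rw 1 [← Ring.inverse_mul_cancel _ h3]
      noncomm_ring
    exact this ▸ (h3.ringInverse.mul h4).neg
  · have h3 := (commute_pol true T.1).neg_right.isUnit_mul_iff.1 (by simpa [pol] using T.2.2)
    obtain ⟨x, rfl⟩ := h2 h3.1 x
    obtain ⟨y, rfl⟩ := h2 h3.1 y
    simp only [h1 h3.1, LinearMap.sub_apply, Module.End.one_apply, B_sub_left, B_sub_right]
    linear_combination -T.2.1 x y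
  · have h3 := (commute_pol true T.1).neg_right.isUnit_mul_iff.1 (by simpa [pol] using T.2.2)
    simpa using h3.1.ringInverse
  · have h3 := g.2.2.neg
    rw [neg_sub] at h3
    simp [Ring.inverse_inverse h3]
  · have h3 := (commute_pol true T.1).neg_right.isUnit_mul_iff.1 (by simpa [pol] using T.2.2)
    simp [Ring.inverse_inverse h3.1]

omit [FiniteDimensional F V] in
theorem AA.one_sub {T : Module.End F V} (h : AA false f T) : AA false f (1 - T) := fun x y => by
  simp only [LinearMap.sub_apply, Module.End.one_apply, B_sub_left, B_sub_right]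
  linear_combination -h x y

omit [FiniteDimensional F V] in
theorem AA.gk_le {T : Module.End F V} (h : AA false f T) : gk T ≤ f.orth (gk T) := by
  suffices H : ∀ n a b x y, a + b = n → (T ^ a) x = 0 → (T ^ b) y = 0 → f.B x y = 0 from
    fun x ⟨a, ha⟩ y ⟨b, hb⟩ => H _ a b x y rfl ha hb
  intro n
  induction n with
  | zero =>
    intro a b x y e ha _
    obtain rfl : a = 0 := by omega
    rw [show x = 0 from ha, B_zero_left]
  | succ n ih =>
    intro a b x y e ha hb
    rcases a with _ | a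
    · rw [show x = 0 from ha, B_zero_left]
    rcases b with _ | b
    · rw [show y = 0 from hb, B_zero_right]
    rw [← h, ih a (b + 1) _ y (by omega) (by rwa [pow_succ] at ha) hb,
      ih (a + 1) b x _ (by omega) ha (by rwa [pow_succ] at hb), add_zero]

/-- the hyperbolic space -/
def hypD (F V : Type*) [Field F] [AddCommGroup V] [Module F V] :
    Form (Param.sp F) (V × Dual F V) :=
  Form.ofAlt (LinearMap.mk₂ F (fun x y => y.2 x.1 - x.2 y.1) (fun _ _ _ => by simp; ring)
    (fun _ _ _ => by simp; ring) (fun _ _ _ => by simp; ring) fun _ _ _ => by simp; ring)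
    fun _ => sub_self _

omit [FiniteDimensional F V] in
theorem hypD_B (x y : V × Dual F V) : (hypD F V).B x y = y.2 x.1 - x.2 y.1 := rfl

omit [FiniteDimensional F V] in
theorem hypD_nondeg : (hypD F V).Nondeg := fun x h =>
  Prod.ext ((Module.forall_dual_apply_eq_zero_iff F x.1).1 fun φ => by simpa [hypD_B] using h (0, φ))
    (LinearMap.ext fun y => by simpa [hypD_B] using h (y, 0))

omit [FiniteDimensional F V] in
theorem gk_pol_false (T : Module.End F V) : gk (pol false T) = gk T ⊔ gk (1 - T) := by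
  have hc : Commute T (1 - T) := (Commute.one_right T).sub_right (Commute.refl T)
  refine le_antisymm ?_ (sup_le ?_ ?_)
  · rintro x ⟨k, hk⟩
    obtain ⟨a, b, hab⟩ : IsCoprime ((1 - Polynomial.X : Polynomial F) ^ k) (Polynomial.X ^ k) :=
      IsCoprime.pow ⟨1, 1, by simp⟩
    have h1 := LinearMap.congr_fun (congrArg (Polynomial.aeval T) hab) x
    simp only [map_add, map_mul, map_pow, map_sub, map_one, Polynomial.aeval_X,
      LinearMap.add_apply, Module.End.mul_apply, Module.End.one_apply] at h1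
    have h2 : ∀ r : Polynomial F, Commute T (Polynomial.aeval T r) := fun r => by
      simpa using (Commute.all Polynomial.X r).map (Polynomial.aeval T)
    rw [pol, hc.mul_pow] at hk
    rw [← h1]
    refine Submodule.add_mem_sup (map_mem_gk (fun y => LinearMap.congr_fun (h2 a).eq.symm y)
      ⟨k, hk⟩) (map_mem_gk (fun y => LinearMap.congr_fun
        ((Commute.one_left _).sub_left (h2 b)).eq.symm y) ⟨k, ?_⟩)
    rwa [(hc.pow_pow k k).eq] at hk
  · rintro x ⟨k, hk⟩
    exact ⟨k, by rw [pol, hc.mul_pow, (hc.pow_pow k k).eq, Module.End.mul_apply, hk, map_zero]⟩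
  · rintro x ⟨k, hk⟩
    exact ⟨k, by rw [pol, hc.mul_pow, Module.End.mul_apply, hk, map_zero]⟩

omit [FiniteDimensional F V] [FiniteDimensional F W] in
theorem one_sub_conj (e : V ≃ₗ[F] W) (T : Module.End F V) : 1 - e.conj T = e.conj (1 - T) := by
  ext; simp

theorem exists_hypD (hf : f'.Nondeg) (hd : finrank F W = 2 * finrank F V) {A C : Submodule F W}
    (hA : A ≤ f'.orth A) (hC : C ≤ f'.orth C) (h2 : A ⊔ C = ⊤) : ∃ i : Iso (hypD F V) f',
      ((⊤ : Submodule F V).prod ⊥).map (i.e : V × Dual F V →ₗ[F] W) = A ∧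
      ((⊥ : Submodule F V).prod ⊤).map (i.e : V × Dual F V →ₗ[F] W) = C := by
  have h3 := Submodule.finrank_mono hA
  have h4 := Submodule.finrank_mono hC
  have h5 := hf.finrank_add_orth A
  have h6 := hf.finrank_add_orth C
  have h7 := Submodule.finrank_sup_add_finrank_inf_eq A C
  rw [h2, finrank_top] at h7
  let e : V ≃ₗ[F] A := LinearEquiv.ofFinrankEq _ _ (by omega)
  let ψ : C →ₗ[F] Dual F V := (f'.B.comp (A.subtype ∘ₗ e.toLinearMap)).flip ∘ₗ C.subtype
  have h8 : Function.Injective ψ := (injective_iff_map_eq_zero _).2 fun z hz =>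
    Subtype.ext (hf.right _ fun x => by
      obtain ⟨a, ha, b, hb, rfl⟩ := Submodule.mem_sup.1 (h2 ▸ Submodule.mem_top (x := x))
      obtain ⟨a, rfl⟩ : ∃ y, (e y : W) = a := ⟨e.symm ⟨a, ha⟩, by simp⟩
      rw [B_add_left, hC hb _ z.2, add_zero]
      exact LinearMap.congr_fun hz a)
  let e' := ψ.linearEquivOfInjective h8 (by rw [Subspace.dual_finrank_eq]; omega)
  have h9 : ∀ x φ, f'.B (e x) (e'.symm φ) = φ x := fun x φ =>
    LinearMap.congr_fun (e'.apply_symm_apply φ) x
  let i : Iso (hypD F V) f' := Iso.ofEmbed hypD_nondeg ((A.subtype ∘ₗ e.toLinearMap).coprod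
    (C.subtype ∘ₗ e'.symm.toLinearMap)) (sp_isIsom fun x y => by
      change f'.B (e x.1 + e'.symm x.2) (e y.1 + e'.symm y.2) = _
      rw [B_add_left, B_add_right, B_add_right, h9, sp_symm _ (e y.1 : W) (e'.symm _), h9,
        hA (e _).2 _ (e _).2, hC (e'.symm _).2 _ (e'.symm _).2, hypD_B]
      ring) (by rw [finrank_prod, Subspace.dual_finrank_eq]; omega)
  have h10 : ∀ x, i.e x = e x.1 + e'.symm x.2 := fun _ => rfl
  refine ⟨i, le_antisymm ?_ fun x hx => ⟨(e.symm ⟨x, hx⟩, 0), ⟨trivial, rfl⟩, by simp [h10]⟩,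
    le_antisymm ?_ fun x hx => ⟨(0, e' ⟨x, hx⟩), ⟨rfl, trivial⟩, by simp [h10]⟩⟩
  · rintro _ ⟨⟨x, y⟩, ⟨-, rfl : y = 0⟩, rfl⟩
    simp [h10]
  · rintro _ ⟨⟨x, y⟩, ⟨rfl : x = 0, -⟩, rfl⟩
    simp [h10]

omit [FiniteDimensional F V] in
theorem isNilpotent_dualMap {N : Module.End F V} (h : IsNilpotent N) : IsNilpotent N.dualMap := by
  obtain ⟨k, hk⟩ := h
  have : ∀ k φ x, (N.dualMap ^ k) φ x = φ ((N ^ k) x) := fun k => by
    induction k with
    | zero => exact fun _ _ => rfl
    | succ k ih => intro φ x; rw [pow_succ, Module.End.mul_apply, ih, pow_succ']; rfl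
  exact ⟨k, LinearMap.ext fun φ => LinearMap.ext fun x => by simp [this, hk]⟩

theorem cX_hypD : cX false (hypD F V) (2 * finrank F V) * Nat.card (V ≃ₗ[F] V) =
    Nat.card (hypD F V).Isom * Nat.card {N : Module.End F V // IsNilpotent N} := by
  have hf : (hypD F V).Nondeg := hypD_nondeg
  have hd : finrank F (V × Dual F V) = 2 * finrank F V := by
    rw [finrank_prod, Subspace.dual_finrank_eq, two_mul]
  letI := cact (hypD F V)
  have h := GLn.card_translates ((hypD F V).stabS ((⊤ : Submodule F V).prod ⊥) ⊓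
    (hypD F V).stabS ((⊥ : Submodule F V).prod ⊤)) (fun T : Module.End F (V × Dual F V) =>
      AA false (hypD F V) T ∧ gk T = (⊤ : Submodule F V).prod ⊥ ∧
        gk (1 - T) = (⊥ : Submodule F V).prod ⊤)
    fun g T hT => by
      change AA false _ ((Iso.ofIsom g).e.conj T) ∧ gk (g.1.conj T) = _ ∧
        gk (1 - g.1.conj T) = _ ↔ _
      rw [AA_conj, one_sub_conj, gk_conj, gk_conj, hT.2.1, hT.2.2]
      exact and_iff_right hT.1
  convert h using 2
  · refine Nat.card_congr (Equiv.subtypeEquivRight fun T => ⟨fun ⟨h1, h2⟩ => ?_, ?_⟩)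
    · obtain ⟨i, h3, h4⟩ := exists_hypD hf hd h1.gk_le h1.one_sub.gk_le
        (gk_pol_false T ▸ Submodule.eq_top_of_finrank_eq (h2.trans hd.symm))
      refine ⟨i.toIsom, i.e.symm.conj T, ⟨(AA_conj i.symm).2 h1, ?_, ?_⟩, i.e.conj_conj_symm T⟩
      · rw [gk_conj, Submodule.map_symm_eq_iff, h3]
      · rw [one_sub_conj, gk_conj, Submodule.map_symm_eq_iff, h4]
    · rintro ⟨g, T, ⟨h1, h2, h3⟩, rfl⟩
      refine ⟨(AA_conj (Iso.ofIsom g)).2 h1, ?_⟩
      change finrank F (gk (pol false (g.1.conj T))) = _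
      rw [pol_conj, gk_conj, LinearEquiv.finrank_map_eq, gk_pol_false, h2, h3, ← hd,
        Submodule.prod_sup_prod, top_sup_eq, sup_top_eq, Submodule.prod_top, finrank_top]
  · refine Nat.card_eq_of_bijective (fun a => ⟨⟨a.prodCongr a.symm.dualMap,
      sp_isIsom fun x y => by simp [hypD_B]⟩, ?_, ?_⟩) ⟨fun a b e => LinearEquiv.ext fun x =>
        congrArg (fun g => (g.1.1 (x, 0)).1) e, ?_⟩
    · exact (LinearMap.prodMap_map_prod (a : V →ₗ[F] V)
        (a.symm.dualMap : Dual F V →ₗ[F] Dual F V) ⊤ ⊥).trans (by simp)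
    · exact (LinearMap.prodMap_map_prod (a : V →ₗ[F] V)
        (a.symm.dualMap : Dual F V →ₗ[F] Dual F V) ⊥ ⊤).trans (by simp)
    · rintro ⟨g, h1, h2⟩
      obtain ⟨a, b, h3⟩ := eq_prodMap (T := (g.1 : V × Dual F V →ₗ[F] V × Dual F V))
        (fun x hx => h1 ▸ Submodule.mem_map_of_mem hx) fun x hx => h2 ▸ Submodule.mem_map_of_mem hx
      have h4 : ∀ x, g.1 x = (a x.1, b x.2) := LinearMap.congr_fun h3
      have h5 : Function.Injective a := fun x y e =>
        congrArg Prod.fst (g.1.injective (a₁ := (x, 0)) (a₂ := (y, 0)) (by rw [h4, h4, e]))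
      refine ⟨LinearEquiv.ofInjectiveEndo a h5, Subtype.ext (Isom.ext fun x => ?_)⟩
      rw [h4]
      refine Prod.ext rfl (LinearMap.ext fun y => ?_)
      obtain ⟨y, rfl⟩ := (LinearEquiv.ofInjectiveEndo a h5).surjective y
      have := Isom.map_B g (y, 0) (0, x.2)
      refine (congrArg x.2 (LinearEquiv.symm_apply_apply _ y)).trans ?_
      simpa [h4, hypD_B] using this.symm
  · refine Nat.card_eq_of_bijective (fun N => ⟨N.1.prodMap (1 - N.1.dualMap),
      fun x y => by simp [hypD_B]; ring, ?_, ?_⟩) ⟨fun a b e => Subtype.ext (LinearMap.ext fun x =>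
        congrArg (fun g => (g.1 (x, 0)).1) e), ?_⟩
    · rw [gk_prodMap, gk_eq_top_iff.2 N.2, gk_eq_bot_iff.2
        ((Module.End.isUnit_iff _).1 (isNilpotent_dualMap N.2).isUnit_one_sub).1]
    · rw [show 1 - N.1.prodMap (1 - N.1.dualMap) = (1 - N.1).prodMap N.1.dualMap by ext <;> simp,
        gk_prodMap, gk_eq_top_iff.2 (isNilpotent_dualMap N.2), gk_eq_bot_iff.2
        ((Module.End.isUnit_iff _).1 N.2.isUnit_one_sub).1]
    · rintro ⟨T, h1, h2, h3⟩
      obtain ⟨a, b, rfl⟩ := eq_prodMap (T := T) (fun x hx => h2 ▸ map_mem_gk (fun _ => rfl)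
        (h2 ▸ hx)) fun x hx => h3 ▸ map_mem_gk (fun _ => by simp) (h3 ▸ hx)
      rw [gk_prodMap] at h2
      have h4 := congrArg (Submodule.map (LinearMap.fst F V _)) h2
      rw [Submodule.prod_map_fst, Submodule.prod_map_fst] at h4
      refine ⟨⟨a, gk_eq_top_iff.1 h4⟩, Subtype.ext (congrArg a.prodMap
        (LinearMap.ext fun φ => LinearMap.ext fun x => ?_))⟩
      have := h1 (x, 0) (0, φ)
      simp [hypD_B] at this ⊢
      linear_combination -this

end Form

end Cfsg.Agent.Forms
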