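import Cfsg.Agent.Lib.Forms.SpFit
import Cfsg.Agent.Lib.Forms.SpClass

/-!
Symplectic transformations which are products of two elements of opposite Siegel radicals.
-/

set_option autoImplicit false

namespace Cfsg.Agent.Forms

open Module Polynomial

theorem exists_conj_eq_mul {G : Type*} [Group G] (K : Subgroup G) [Finite K] {h : G}
    (hK : ∀ w ∈ K, h * w * h⁻¹ ∈ K) (hc : ∀ w ∈ K, Commute w h → w = 1) {v : G} (hv : v ∈ K) :
    IsConj h (v * h) := by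
  obtain ⟨w, hw⟩ := Finite.surjective_of_injective (f := fun w : K =>
    (⟨w * (h * (w : G)⁻¹ * h⁻¹), mul_mem w.2 (hK _ (inv_mem w.2))⟩ : K)) (fun w w' e => by
      have e1 : (w : G) * (h * (w : G)⁻¹ * h⁻¹) = w' * (h * (w' : G)⁻¹ * h⁻¹) :=
        congrArg Subtype.val e
      have := hc _ (mul_mem (inv_mem w'.2) w.2) (show _ * _ = _ * _ by
        calc (w' : G)⁻¹ * w * h = (w' : G)⁻¹ * (w * (h * (w : G)⁻¹ * h⁻¹)) * h * w := by group
          _ = _ := by rw [e1]; group)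
      exact Subtype.ext (inv_mul_eq_one.1 this).symm) ⟨v, hv⟩
  exact isConj_iff.2 ⟨w, by rw [← show _ = v from congrArg Subtype.val hw]; simp [mul_assoc]⟩

theorem isConj_inv {G : Type*} [Group G] {a b : G} (h : IsConj a b) : IsConj a⁻¹ b⁻¹ := by
  obtain ⟨c, rfl⟩ := isConj_iff.1 h
  exact isConj_iff.2 ⟨c, by group⟩

variable {F : Type*} [Field F] {V W : Type*} [AddCommGroup V] [Module F V]
  [AddCommGroup W] [Module F W]

theorem aroots_dl {r : F[X]} (hm : r.Monic) (h0 : r.coeff 0 ≠ 0) :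
    (dl (Param.sp F) r).aroots (Kc F) = (r.aroots (Kc F)).map (·⁻¹) := by
  have h1 : (0 : Kc F) ∉ r.aroots (Kc F) := by
    simpa [mem_aroots, ← coeff_zero_eq_aeval_zero'] using fun _ => h0
  have h2 := reflect_prod _ h1
  rw [← map_eq_prod_aroots hm, card_aroots, reflect_map] at h2
  rw [dl_apply, show r.map (Param.sp F).σ = r from Polynomial.map_id,
    aroots_C_mul _ (inv_ne_zero ((Param.sp F).σ_ne_zero h0)), aroots, reverse, h2, roots_C_mul,
    roots_multiset_prod_X_sub_C]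
  exact mul_ne_zero (by simp) (Multiset.prod_ne_zero h1)

namespace Form

variable {f : Form (Param.sp F) V} {f' : Form (Param.sp F) W}

/-- `g` acts on `S` as a product of elements of two opposite Siegel radicals -/
def GP (g : f.Isom) (S : Submodule F V) : Prop :=
  ∃ A C : Submodule F V, A ≤ f.orth A ∧ C ≤ f.orth C ∧ A ⊔ C = S ∧ ∀ x ∈ A, Isom.N g x ∈ C

theorem GP.bot (g : f.Isom) : GP g ⊥ := ⟨⊥, ⊥, bot_le, bot_le, bot_sup_eq _, by simp⟩

theorem le_orth_sup {A A' : Submodule F V} (h : A ≤ f.orth A) (h' : A' ≤ f.orth A')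
    (e : A ≤ f.orth A') : A ⊔ A' ≤ f.orth (A ⊔ A') := by
  rw [orth_sup]
  exact sup_le (le_inf h e) (le_inf (f.le_orth_comm.1 e) h')

theorem GP.sup {g : f.Isom} {S S' : Submodule F V} (h : GP g S) (h' : GP g S')
    (e : S ≤ f.orth S') : GP g (S ⊔ S') := by
  obtain ⟨A, C, h1, h2, rfl, h3⟩ := h
  obtain ⟨A', C', h1', h2', rfl, h3'⟩ := h'
  refine ⟨A ⊔ A', C ⊔ C', le_orth_sup h1 h1' (le_sup_left.trans (e.trans (f.orth_le le_sup_left))),
    le_orth_sup h2 h2' (le_sup_right.trans (e.trans (f.orth_le le_sup_right))),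
    sup_sup_sup_comm _ _ _ _, fun x hx => ?_⟩
  obtain ⟨a, ha, b, hb, rfl⟩ := Submodule.mem_sup.1 hx
  rw [map_add]
  exact Submodule.add_mem_sup (h3 a ha) (h3' b hb)

theorem GP.map {g : f.Isom} {g' : f'.Isom} {S : Submodule F V} (h : GP g S) (φ : V →ₗ[F] W)
    (h1 : IsIsom f f' φ) (h2 : ∀ x, φ (g.1 x) = g'.1 (φ x)) : GP g' (S.map φ) := by
  obtain ⟨A, C, a1, a2, rfl, a3⟩ := h
  have key : ∀ A : Submodule F V, A ≤ f.orth A → A.map φ ≤ f'.orth (A.map φ) := by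
    rintro A hA _ ⟨x, hx, rfl⟩ _ ⟨y, hy, rfl⟩
    rw [h1.map_B, hA hx y hy]
  refine ⟨A.map φ, C.map φ, key A a1, key C a2, (Submodule.map_sup _ _ _).symm, ?_⟩
  rintro _ ⟨x, hx, rfl⟩
  exact ⟨_, a3 x hx, by rw [Isom.N_apply, Isom.N_apply, map_sub, h2]⟩

theorem GP.comap {g : f.Isom} {g' : f'.Isom} {φ : V →ₗ[F] W} (h : GP g' (LinearMap.range φ))
    (h0 : Function.Injective φ) (h1 : IsIsom f f' φ) (h2 : ∀ x, φ (g.1 x) = g'.1 (φ x)) :
    GP g ⊤ := by
  obtain ⟨A, C, a1, a2, a3, a4⟩ := h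
  have key : ∀ A : Submodule F W, A ≤ f'.orth A → A.comap φ ≤ f.orth (A.comap φ) :=
    fun A hA x hx y hy => by rw [← h1.map_B, hA hx _ hy]
  refine ⟨A.comap φ, C.comap φ, key A a1, key C a2, eq_top_iff.2 fun x _ => ?_, fun x hx => ?_⟩
  · obtain ⟨a, ha, c, hc, e⟩ := Submodule.mem_sup.1 (a3 ▸ LinearMap.mem_range_self φ x)
    obtain ⟨a, rfl⟩ : a ∈ LinearMap.range φ := a3 ▸ Submodule.mem_sup_left ha
    obtain ⟨c, rfl⟩ : c ∈ LinearMap.range φ := a3 ▸ Submodule.mem_sup_right hc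
    rw [← h0 ((map_add φ a c).trans e)]
    exact Submodule.add_mem_sup ha hc
  · rw [Submodule.mem_comap, Isom.N_apply, map_sub, h2]
    exact a4 _ hx

/-- the pointwise stabilizer -/
def ptw {P : Param F} (f : Form P V) (S : Submodule F V) : Subgroup f.Isom where
  carrier := {g | ∀ x ∈ S, g.1 x = x}
  mul_mem' {a b} ha hb x hx := by rw [Isom.mul_apply, hb x hx, ha x hx]
  one_mem' _ _ := rfl
  inv_mem' {a} ha x hx := by conv_lhs => rw [← ha x hx, Isom.inv_apply]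

variable [FiniteDimensional F V] [FiniteDimensional F W]

theorem Isom.inv_mem {P : Param F} {f : Form P V} {g : f.Isom} {S : Submodule F V}
    (h : ∀ x ∈ S, g.1 x ∈ S) : ∀ x ∈ S, g⁻¹.1 x ∈ S := fun x hx => by
  obtain ⟨y, hy⟩ := (Isom.restrict g S h).1.surjective ⟨x, hx⟩
  rw [← show g.1 y = x from congrArg Subtype.val hy, Isom.inv_apply]
  exact y.2

theorem Nondeg.orth_eq_self (hf : f.Nondeg) {A C : Submodule F V} (hA : A ≤ f.orth A)
    (hC : C ≤ f.orth C) (h : A ⊔ C = ⊤) : f.orth C = C ∧ IsCompl A C := by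
  have h3 := Submodule.finrank_mono hA
  have h4 := Submodule.finrank_mono hC
  have h5 := hf.finrank_add_orth A
  have h6 := hf.finrank_add_orth C
  have h7 := Submodule.finrank_sup_add_finrank_inf_eq A C
  rw [h, finrank_top] at h7
  exact ⟨(Submodule.eq_of_le_of_finrank_eq hC (by omega)).symm,
    disjoint_iff.2 (Submodule.finrank_eq_zero.1 (by omega)), codisjoint_iff.2 h⟩

theorem Nondeg.isConj_ptw [Finite F] (hf : f.Nondeg) {A C : Submodule F V} (hA : A ≤ f.orth A)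
    (hC : C ≤ f.orth C) (h : A ⊔ C = ⊤) {k : f.Isom} (h1 : ∀ x ∈ C, k.1 x ∈ C) {r t : F[X]}
    (hrt : IsCoprime r t) (hr : ∀ x ∈ A, aeval (k.1 : V →ₗ[F] V) r x = 0)
    (ht : ∀ x ∈ C, aeval (k.1 : V →ₗ[F] V) t x = 0) {v : f.Isom} (hv : v ∈ f.ptw C) :
    IsConj k (v * k) := by
  have := f.finite_isom
  refine exists_conj_eq_mul _ (fun w hw x hx => ?_) (fun w hw hc => Isom.ext fun x => ?_) hv
  · rw [Isom.mul_apply, Isom.mul_apply, hw _ (Isom.inv_mem h1 x hx), Isom.apply_inv]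
  · obtain ⟨a, ha, c, hc', rfl⟩ := Submodule.mem_sup.1 (h ▸ Submodule.mem_top (x := x))
    have h2 : Isom.N w a ∈ C := (hf.orth_eq_self hA hC h).1 ▸ fun y hy => by
      rw [Isom.N_apply, B_sub_left, ← Isom.map_B w a, hw y hy, sub_self]
    have h3 : Commute (Isom.N w) (k.1 : V →ₗ[F] V) := Commute.sub_left
      (LinearMap.ext fun x => congrArg (fun z : f.Isom => z.1 x) hc.eq) (Commute.one_left _)
    obtain ⟨α, β, e⟩ := hrt
    have h4 := LinearMap.congr_fun (congrArg (aeval (k.1 : V →ₗ[F] V)) e) (Isom.N w a)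
    simp only [map_add, map_mul, map_one, LinearMap.add_apply, Module.End.mul_apply, ht _ h2,
      Module.End.one_apply] at h4
    rw [← Module.End.mul_apply (aeval _ r), ← (commute_aeval h3 r).eq, Module.End.mul_apply, hr a ha,
      map_zero, map_zero, map_zero, add_zero, Isom.N_apply, eq_comm, sub_eq_zero] at h4
    rw [map_add, h4, hw c hc', Isom.one_apply]

theorem Nondeg.exists_ptw_mul (hf : f.Nondeg) {A C : Submodule F V} (hA : A ≤ f.orth A)
    (hC : C ≤ f.orth C) (h : A ⊔ C = ⊤) {g : f.Isom} (hg : ∀ x ∈ A, Isom.N g x ∈ C) :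
    ∃ v ∈ f.ptw C, ∃ n ∈ f.ptw A, g = v * n := by
  have hc := (hf.orth_eq_self hA hC h).2
  let φ := LinearMap.ofIsCompl hc ((g.1 : V →ₗ[F] V) ∘ₗ A.subtype) C.subtype
  have h1 : ∀ a ∈ A, ∀ c ∈ C, φ (a + c) = g.1 a + c := fun a ha c hc' => by
    rw [map_add, LinearMap.ofIsCompl_apply_left hc ⟨a, ha⟩,
      LinearMap.ofIsCompl_apply_right hc ⟨c, hc'⟩]
    rfl
  have h2 : ∀ a ∈ A, ∀ c ∈ C, f.B (g.1 a) c = f.B a c := fun a ha c hc' => by
    rw [← sub_eq_zero, ← B_sub_left]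
    exact hC (hg a ha) c hc'
  let v := Isom.ofEnd hf φ (sp_isIsom fun x y => by
    obtain ⟨a, ha, c, hc', rfl⟩ := Submodule.mem_sup.1 (h ▸ Submodule.mem_top (x := x))
    obtain ⟨b, hb, d, hd, rfl⟩ := Submodule.mem_sup.1 (h ▸ Submodule.mem_top (x := y))
    rw [h1 a ha c hc', h1 b hb d hd]
    simp only [B_add_left, B_add_right, Isom.map_B, h2 a ha d hd, sp_symm _ (g.1 b) c,
      h2 b hb c hc', sp_symm _ b c])
  refine ⟨v, fun c hc' => by simpa [v] using h1 0 A.zero_mem c hc', v⁻¹ * g, fun a ha => ?_, by simp⟩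
  rw [Isom.mul_apply, show g.1 a = v.1 a by simpa [v] using (h1 a ha 0 C.zero_mem).symm, Isom.inv_apply]

theorem GP.exists_mul [Finite F] (hf : f.Nondeg) {g : f.Isom} (hg : GP g ⊤) {k : f.Isom} {r : F[X]}
    (hm : r.Monic) (h0 : r.coeff 0 ≠ 0) (hc : IsCoprime r (dl (Param.sp F) r))
    (hk : aeval (k.1 : V →ₗ[F] V) (r * dl (Param.sp F) r) = 0) :
    ∃ x y, IsConj k x ∧ IsConj k⁻¹ y ∧ g = x * y := by
  have key : ∀ r t : F[X], IsCoprime r t → t.coeff 0 ≠ 0 → dl (Param.sp F) t = r →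
      LinearMap.ker (aeval (k.1 : V →ₗ[F] V) r) ≤
        f.orth (LinearMap.ker (aeval (k.1 : V →ₗ[F] V) r)) := fun r t ⟨α, β, e⟩ ht e' x hx => by
    rw [← e', hf.orth_ker_aeval k ht]
    refine ⟨aeval (k.1 : V →ₗ[F] V) β x, ?_⟩
    have := LinearMap.congr_fun (congrArg (aeval (k.1 : V →ₗ[F] V)) e) x
    rw [mul_comm β] at this
    simpa [LinearMap.mem_ker.1 hx] using this
  have hi : ∀ r : F[X], ∀ x ∈ LinearMap.ker (aeval (k.1 : V →ₗ[F] V) r),
      k.1 x ∈ LinearMap.ker (aeval (k.1 : V →ₗ[F] V) r) := fun r x hx => by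
    rw [LinearMap.mem_ker, Isom.aeval_comm, LinearMap.mem_ker.1 hx, map_zero]
  have h1 := key _ _ hc (coeff_zero_dl_ne hm h0) (dl_dl hm h0)
  have h2 := key _ _ hc.symm h0 rfl
  have h3 := sup_ker_aeval_eq_ker_aeval_mul_of_coprime (k.1 : V →ₗ[F] V) hc
  rw [hk, LinearMap.ker_zero] at h3
  obtain ⟨A, C, a1, a2, a3, a4⟩ := hg
  obtain ⟨m, hm⟩ := hf.sp_even
  have hd : finrank F V = 2 * finrank F (Fin m → F) := by rw [finrank_fin_fun, hm, two_mul]
  obtain ⟨i, b1, b2⟩ := exists_hypD hf hd a1 a2 a3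
  obtain ⟨j, c1, c2⟩ := exists_hypD hf hd h1 h2 h3
  let z := (j.symm.trans i).toIsom
  have hz : ∀ x, z.1 (j.e x) = i.e x := fun x => congrArg i.e (j.e.symm_apply_apply x)
  obtain ⟨v, hv, n, hn, e⟩ := hf.exists_ptw_mul h1 h2 h3 (g := z⁻¹ * g * z) fun x hx => by
    rw [← c1] at hx
    obtain ⟨x, hx, rfl⟩ := hx
    obtain ⟨y, hy, e⟩ := b2 ▸ a4 _ (b1 ▸ Submodule.mem_map_of_mem hx)
    refine c2 ▸ ⟨y, hy, z.1.injective ?_⟩
    simp only [LinearEquiv.coe_coe, Isom.N_apply, Isom.mul_apply, map_sub, Isom.apply_inv, hz] at e ⊢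
    exact e
  have d1 := hf.isConj_ptw h1 h2 h3 (hi _) hc (fun _ hx => hx) (fun _ hx => hx) hv
  have d2 := hf.isConj_ptw h2 h1 ((sup_comm _ _).trans h3) (hi _) hc.symm (fun _ hx => hx)
    (fun _ hx => hx) (inv_mem hn)
  refine ⟨z * (v * k) * z⁻¹, z * (n⁻¹ * k)⁻¹ * z⁻¹, d1.trans (isConj_iff.2 ⟨z, rfl⟩),
    (isConj_inv d2).trans (isConj_iff.2 ⟨z, rfl⟩), ?_⟩
  calc g = z * (z⁻¹ * g * z) * z⁻¹ := by group
    _ = _ := by rw [e]; group

end Form

end Cfsg.Agent.Forms
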