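import Cfsg.Agent.Lib.Forms.SSConj
import Cfsg.Agent.Lib.Forms.OClass

/-!
Conjugacy classes of unipotent elements of symplectic groups in odd characteristic.
-/

set_option autoImplicit false

universe u v

namespace Cfsg.Agent.Forms

open Module Finset

variable {F : Type*} [Field F] {P : Param F} {V W M M' : Type*} [AddCommGroup V] [Module F V]
  [AddCommGroup W] [Module F W] [AddCommGroup M] [Module F M] [AddCommGroup M'] [Module F M']

/-- the parametrization of the cyclic span -/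
noncomputable def cys (N : V →ₗ[F] V) (ω : M →ₗ[F] V) (e : ℕ) : (Fin e → M) →ₗ[F] V :=
  ∑ j : Fin e, ((N ^ (j : ℕ)) ∘ₗ ω) ∘ₗ LinearMap.proj j

theorem cys_apply (N : V →ₗ[F] V) (ω : M →ₗ[F] V) (e : ℕ) (a : Fin e → M) :
    cys N ω e a = ∑ j : Fin e, (N ^ (j : ℕ)) (ω (a j)) := by simp [cys]

theorem cys_cons (N : V →ₗ[F] V) (ω : M →ₗ[F] V) (L : ℕ) (b : M) (a : Fin L → M) :
    cys N ω (L + 1) (Fin.cons b a) = ω b + N (cys N ω L a) := by
  simp [cys_apply, Fin.sum_univ_succ, pow_succ']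

theorem cys_snoc (N : V →ₗ[F] V) (ω : M →ₗ[F] V) (L : ℕ) (a : Fin (L + 1) → M) :
    cys N ω (L + 1) a = cys N ω L (Fin.init a) + (N ^ L) (ω (a (Fin.last L))) := by
  simp [cys_apply, Fin.sum_univ_castSucc, Fin.init]

theorem N_cys {N : V →ₗ[F] V} {L : ℕ} (h : N ^ (L + 1) = 0) (ω : M →ₗ[F] V) (a : Fin (L + 1) → M) :
    N (cys N ω (L + 1) a) = cys N ω (L + 1) (Fin.cons 0 (Fin.init a)) := by
  rw [cys_cons, cys_snoc, map_add, ← Module.End.mul_apply N (N ^ L), ← pow_succ', h]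
  simp

namespace Form

variable {f : Form P V} {f' : Form P W}

theorem Isom.B_N (g : f.Isom) (x y : V) : f.B (Isom.N g x) y = -f.B (g.1 x) (Isom.N g y) := by
  rw [Isom.N_apply, Isom.N_apply, B_sub_left, B_sub_right, Isom.map_B, neg_sub]

theorem Isom.B_N_pow (g : f.Isom) (k : ℕ) (x y : V) : f.B ((Isom.N g ^ k) x) y =
    (-1) ^ k * f.B (((g.1 : V →ₗ[F] V) ^ k) x) ((Isom.N g ^ k) y) := by
  induction k generalizing x with
  | zero => simp
  | succ k ih =>
    have h : Commute ((g.1 : V →ₗ[F] V) ^ k) (Isom.N g) :=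
      ((Commute.refl _).sub_right (Commute.one_right _)).pow_left k
    rw [show (Isom.N g ^ (k + 1)) x = (Isom.N g ^ k) (Isom.N g x) by rw [pow_succ]; rfl, ih,
      ← Module.End.mul_apply _ (Isom.N g), h.eq, Module.End.mul_apply, Isom.B_N,
      pow_succ' (g.1 : V →ₗ[F] V), pow_succ' (Isom.N g), pow_succ (-1 : F)]
    simp

theorem Isom.B_pow_fix (g : f.Isom) (k : ℕ) (x : V) {y : V} (hy : g.1 y = y) :
    f.B (((g.1 : V →ₗ[F] V) ^ k) x) y = f.B x y := by
  induction k with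
  | zero => rfl
  | succ k ih => rw [← ih, ← Isom.map_B g (((g.1 : V →ₗ[F] V) ^ k) x), hy, pow_succ']; rfl

theorem Isom.N_pow_fix {g : f.Isom} {L : ℕ} (h : Isom.N g ^ (L + 1) = 0) (x : V) :
    g.1 ((Isom.N g ^ L) x) = (Isom.N g ^ L) x := by
  rw [← sub_eq_zero, ← Isom.N_apply, ← Module.End.mul_apply, ← pow_succ', h]; rfl

theorem Isom.N_pow_mem {g : f.Isom} {S : Submodule F V} (h : ∀ x ∈ S, g.1 x ∈ S) (k : ℕ) {x : V}
    (hx : x ∈ S) : (Isom.N g ^ k) x ∈ S := by
  induction k with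
  | zero => exact hx
  | succ k ih => rw [pow_succ']; exact S.sub_mem (h _ ih) ih

theorem Isom.N_pow_restrict [FiniteDimensional F V] (g : f.Isom) (S : Submodule F V) (h) (k : ℕ)
    (x : S) : ((Isom.N (Isom.restrict g S h) ^ k) x : V) = (Isom.N g ^ k) x := by
  induction k with
  | zero => rfl
  | succ k ih => rw [pow_succ', pow_succ', Module.End.mul_apply, Module.End.mul_apply, ← ih]; rfl

/-- the top layer of a unipotent isometry -/
structure Top (g : f.Isom) (L : ℕ) (ω : M →ₗ[F] V) : Prop where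
  nil : Isom.N g ^ (L + 1) = 0
  nd : ∀ a, (∀ b, f.B ((Isom.N g ^ L) (ω a)) (ω b) = 0) → a = 0

namespace Top

variable {g : f.Isom} {L : ℕ} {ω : M →ₗ[F] V} (h : Top g L ω)
include h

theorem symm (a b : M) : f.B ((Isom.N g ^ L) (ω b)) (ω a) =
    (-1) ^ L * (P.ε * P.σ (f.B ((Isom.N g ^ L) (ω a)) (ω b))) := by
  rw [Isom.B_N_pow, Isom.B_pow_fix _ _ _ (Isom.N_pow_fix h.nil _), f.symm]

theorem eq_zero {a : Fin (L + 1) → M}
    (ha : ∀ k b, f.B ((Isom.N g ^ k) (cys (Isom.N g) ω (L + 1) a)) (ω b) = 0) : a = 0 := by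
  suffices H : ∀ n, ∀ i : Fin (L + 1), (i : ℕ) = n → a i = 0 from funext fun i => H _ i rfl
  intro n
  induction n using Nat.strong_induction_on with
  | _ n ih =>
  intro i hi
  refine h.nd _ fun b => ?_
  rw [← ha (L - i) b, cys_apply, map_sum, sum_eq_single i, ← Module.End.mul_apply, ← pow_add,
    Nat.sub_add_cancel i.is_le]
  · intro j _ hj
    rcases lt_or_gt_of_ne (Fin.val_ne_of_ne hj) with hj | hj
    · rw [ih j (hi ▸ hj) j rfl]; simp
    · rw [← Module.End.mul_apply, ← pow_add, pow_eq_zero_of_le (by have := i.is_le; omega) h.nil]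
      rfl
  · simp

theorem injective : Function.Injective (cys (Isom.N g) ω (L + 1)) :=
  (injective_iff_map_eq_zero _).2 fun _ ha => h.eq_zero fun k b => by simp [ha]

theorem inv : ∀ x ∈ LinearMap.range (cys (Isom.N g) ω (L + 1)),
    g.1 x ∈ LinearMap.range (cys (Isom.N g) ω (L + 1)) := by
  rintro _ ⟨a, rfl⟩
  refine ⟨Fin.cons 0 (Fin.init a) + a, ?_⟩
  rw [map_add, ← N_cys h.nil, Isom.N_apply, sub_add_cancel]

omit h in
theorem mem (b : M) : ω b ∈ LinearMap.range (cys (Isom.N g) ω (L + 1)) :=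
  ⟨Fin.cons b 0, by simp [cys_cons]⟩

theorem disjoint [FiniteDimensional F V] : Disjoint (LinearMap.range (cys (Isom.N g) ω (L + 1)))
    (f.orth (LinearMap.range (cys (Isom.N g) ω (L + 1)))) := by
  rw [Submodule.disjoint_def]
  rintro _ ⟨a, rfl⟩ ha
  rw [h.eq_zero fun k b => Isom.N_pow_mem (Isom.orth_invariant g h.inv) k ha _ (mem b), map_zero]

theorem B_top (a : M) (b : Fin (L + 1) → M) :
    f.B ((Isom.N g ^ L) (ω a)) (cys (Isom.N g) ω (L + 1) b) =
      f.B ((Isom.N g ^ L) (ω a)) (ω (b 0)) := by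
  rw [← Fin.cons_self_tail b, cys_cons, B_add_right,
    Isom.fix_le_orth_res g (Isom.mem_fix.2 (Isom.N_pow_fix h.nil _)) _ ⟨_, rfl⟩, add_zero]
  rfl

theorem fix {a : Fin (L + 1) → M}
    (ha : g.1 (cys (Isom.N g) ω (L + 1) a) = cys (Isom.N g) ω (L + 1) a) : Fin.init a = 0 := by
  rw [← sub_eq_zero, ← Isom.N_apply, N_cys h.nil, map_eq_zero_iff _ h.injective] at ha
  exact funext fun j => congrFun ha j.succ

end Top

theorem Nondeg.exists_top [FiniteDimensional F V] (hf : f.Nondeg) {g : f.Isom} {L : ℕ}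
    (h : Isom.N g ^ (L + 1) = 0) : ∃ (m : ℕ) (ω : (Fin m → F) →ₗ[F] V), Top g L ω ∧
      ∀ x ∈ f.orth (LinearMap.range (cys (Isom.N g) ω (L + 1))), (Isom.N g ^ L) x = 0 := by
  obtain ⟨C, hC⟩ := (LinearMap.ker (Isom.N g ^ L)).exists_isCompl
  let e := (finBasis F C).equivFun
  let ω := C.subtype ∘ₗ e.symm.toLinearMap
  have h1 : ∀ x, (∀ b, f.B ((Isom.N g ^ L) x) (ω b) = 0) → (Isom.N g ^ L) x = 0 := fun x hx =>
    hf _ fun y => by
      obtain ⟨k, hk, c, hc, rfl⟩ := Submodule.mem_sup.1 (hC.sup_eq_top ▸ Submodule.mem_top (x := y))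
      have := hx (e ⟨c, hc⟩)
      simp only [ω, LinearMap.comp_apply, LinearEquiv.coe_coe, e.symm_apply_apply] at this
      rw [B_add_right, Isom.B_N_pow, LinearMap.mem_ker.1 hk, B_zero_right, mul_zero, zero_add]
      exact this
  have h2 : Top g L ω := ⟨h, fun a ha => e.symm.injective (Subtype.ext (by
    rw [map_zero]; exact Submodule.disjoint_def.1 hC.disjoint _ (h1 _ ha) (e.symm a).2))⟩
  exact ⟨_, ω, h2, fun x hx => h1 x fun b =>
    Isom.N_pow_mem (Isom.orth_invariant g h2.inv) L hx _ (Top.mem b)⟩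

section Sp

variable [Fintype F] [FiniteDimensional F V] [FiniteDimensional F W] {f : Form (Param.sp F) V}
  {f' : Form (Param.sp F) W} (h2 : (2 : F) ≠ 0)
include h2

theorem Nondeg.sim_of_unip (hf : f.Nondeg) {g : f.Isom} {g' : f'.Isom} (φ : V ≃ₗ[F] W)
    (hφ : ∀ v, φ (g.1 v) = g'.1 (φ v)) {e : ℕ} (hN : Isom.N g ^ e = 0)
    (h : ∀ x, g.1 x = x → ∀ y, f'.B (φ x) (φ y) = f.B x y) : Sim g g' := by
  obtain ⟨p, hp⟩ := CharP.exists F
  have hpp := CharP.char_is_prime F p
  have := Fact.mk hpp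
  obtain ⟨m, hm⟩ : Odd (p ^ e) := (hpp.odd_of_ne_two fun e => h2 (by
    have := CharP.cast_eq_zero F p
    rwa [e] at this)).pow
  obtain ⟨c, hc⟩ := hf.exists_adj ((f'.B.comp (φ : V →ₗ[F] W)).compl₂ (φ : V →ₗ[F] W))
  replace hc : ∀ u v, f.B u (c v) = f'.B (φ u) (φ v) := hc
  have h1 : Commute c (g.1 : V →ₗ[F] V) := LinearMap.ext fun v => hf.ext_right fun u => by
    obtain ⟨u, rfl⟩ := g.1.surjective u
    change f.B _ (c (g.1 v)) = f.B _ (g.1 (c v))
    rw [hc, hφ, hφ, Isom.map_B, Isom.map_B, hc]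
  have h3 : ∀ k u v, f.B ((c ^ k) u) v = f.B u ((c ^ k) v) := fun k => by
    induction k with
    | zero => exact fun _ _ => rfl
    | succ k ih =>
      intro u v
      rw [show (c ^ (k + 1)) u = (c ^ k) (c u) by rw [pow_succ]; rfl, ih, sp_symm, hc, ← sp_symm,
        ← hc, pow_succ']
      rfl
  have h4 : Commute (c - 1) (Isom.N g) :=
    (h1.sub_right (Commute.one_right _)).sub_left (Commute.one_left _)
  have h5 : ∀ k y, ∃ z, ((c - 1) ^ k) y = (Isom.N g ^ k) z := fun k => by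
    induction k with
    | zero => exact fun y => ⟨y, rfl⟩
    | succ k ih =>
      intro y
      obtain ⟨w, hw⟩ : (c - 1) y ∈ Isom.res g := by
        rw [← hf.orth_fix, mem_orth']
        intro x hx
        rw [LinearMap.sub_apply, B_sub_right, hc, h x (Isom.mem_fix.1 hx)]
        exact sub_self _
      obtain ⟨z, hz⟩ := ih w
      refine ⟨z, ?_⟩
      rw [pow_succ, Module.End.mul_apply, ← hw, ← Module.End.mul_apply, (h4.pow_left k).eq,
        Module.End.mul_apply, hz, pow_succ']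
      rfl
  have h6 := pow_char_pow_of_nilpotent p (Commute.one_right c) (N := e) (k := e)
    (LinearMap.ext fun y => by obtain ⟨z, hz⟩ := h5 e y; rw [hz, hN]; rfl)
    (Nat.lt_pow_self hpp.one_lt).le
  refine ⟨Iso.ofEmbed hf ((φ : V →ₗ[F] W) ∘ₗ (c ^ m)) (sp_isIsom fun x y => ?_) φ.finrank_eq,
    fun v => ?_⟩
  · change f'.B (φ _) (φ _) = _
    rw [← hc, h3, ← Module.End.mul_apply, ← Module.End.mul_apply, ← pow_succ, ← pow_add,
      show m + 1 + m = p ^ e by omega, h6, one_pow]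
    rfl
  · exact (congrArg φ (LinearMap.congr_fun (h1.pow_left m).eq v)).trans (hφ _)

theorem Top.sim {g : f.Isom} {g' : f'.Isom} {L : ℕ} {ω : M →ₗ[F] V} {ω' : M' →ₗ[F] W}
    (h : Top g L ω) (h' : Top g' L ω') (θ : M ≃ₗ[F] M') (hθ : ∀ a b,
      f'.B ((Isom.N g' ^ L) (ω' (θ a))) (ω' (θ b)) = f.B ((Isom.N g ^ L) (ω a)) (ω b)) :
    Sim (Isom.restrict g _ h.inv) (Isom.restrict g' _ h'.inv) := by
  let a := LinearEquiv.ofInjective _ h.injective
  let φ := (a.symm.trans (LinearEquiv.piCongrRight fun _ => θ)).trans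
    (LinearEquiv.ofInjective _ h'.injective)
  have h1 : ∀ x, (φ (a x) : W) = cys (Isom.N g') ω' (L + 1) fun j => θ (x j) := fun x => by
    simp only [φ, LinearEquiv.trans_apply, a.symm_apply_apply]; rfl
  refine ((f.restrict_nondeg_iff _).2 h.disjoint).sim_of_unip h2 φ (fun v => ?_) (e := L + 1)
    (LinearMap.ext fun x => Subtype.ext (by rw [Isom.N_pow_restrict, h.nil]; rfl)) fun x hx y => ?_
  · obtain ⟨x, rfl⟩ := a.surjective v
    have : (Isom.restrict g _ h.inv).1 (a x) = a (Fin.cons 0 (Fin.init x) + x) := Subtype.ext (by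
      change g.1 (cys _ _ _ x) = cys _ _ _ _
      rw [map_add, ← N_cys h.nil, Isom.N_apply, sub_add_cancel])
    refine Subtype.ext ?_
    rw [this, h1, Isom.restrict_apply, h1, ← sub_add_cancel (g'.1 _)
      (cys (Isom.N g') ω' (L + 1) fun j => θ (x j)), ← Isom.N_apply, N_cys h'.nil, ← map_add]
    refine congrArg _ (funext fun j => ?_)
    induction j using Fin.cases <;> simp [Fin.init]
  · obtain ⟨x, rfl⟩ := a.surjective x
    obtain ⟨y, rfl⟩ := a.surjective y
    have h3 := h.fix (congrArg Subtype.val hx)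
    have h4 : Fin.init (fun j => θ (x j)) = (0 : Fin L → M') := funext fun j => by
      simp [Fin.init, show x j.castSucc = 0 from congrFun h3 j]
    rw [restrict_B, restrict_B, h1, h1, cys_snoc _ _ _ fun j => θ (x j), h4, map_zero, zero_add,
      h'.B_top, hθ, ← h.B_top]
    change _ = f.B (cys _ _ _ x) _
    rw [cys_snoc _ _ _ x, h3, map_zero, zero_add]
    rfl

omit h2 in
/-- the discriminant bit -/
def Sg (β : M → M → F) [FiniteDimensional F M] : Prop :=
  ∃ k : Form (Param.orth F) M, (∀ x y, k.B x y = β x y) ∧ k.disc = -1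

omit h2 in
theorem not_sg [FiniteDimensional F M] [Subsingleton M] (β : M → M → F) : ¬ Sg β := by
  rintro ⟨k, -, h⟩
  rw [k.disc_eq (Module.Basis.empty M (ι := Empty)), Matrix.det_isEmpty, map_one] at h
  omega

/-- the orthogonal form of a symmetric bilinear form -/
def ofSym (β : M →ₗ[F] M →ₗ[F] F) (h : ∀ x y, β y x = β x y) : Form (Param.orth F) M :=
  Form.ofQuad (fun x => β x x / 2) β (fun x y => by simp [h x y]; field_simp; ring)
    fun a x => by simp; ring

theorem sg_iff [FiniteDimensional F M] (β : M →ₗ[F] M →ₗ[F] F) (h : ∀ x y, β y x = β x y) :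
    Sg (fun x y => β x y) ↔ (ofSym h2 β h).disc = -1 :=
  ⟨fun ⟨k, h3, h4⟩ => h4 ▸ congrArg (fun A => chi F (Matrix.det A))
    (Matrix.ext fun _ _ => (h3 _ _).symm), fun h3 => ⟨_, fun _ _ => rfl, h3⟩⟩

theorem alt_self {β : M →ₗ[F] M →ₗ[F] F} (h : ∀ x y, β y x = -β x y) (x : M) : β x x = 0 :=
  (mul_eq_zero.1 (show 2 * β x x = 0 by linear_combination h x x)).resolve_left h2

theorem not_sg_of_alt [FiniteDimensional F M] {β : M →ₗ[F] M →ₗ[F] F} (h : ∀ x y, β y x = -β x y)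
    (hβ : ∀ x, (∀ y, β x y = 0) → x = 0) : ¬ Sg fun x y => β x y := fun H => by
  obtain ⟨k, h3, -⟩ := id H
  have : ∀ x : M, x = 0 := fun x => hβ x fun y => (mul_eq_zero.1 (show 2 * β x y = 0 by
    linear_combination h x y - h3 x y + h3 y x - k.orth_symm x y)).resolve_left h2
  have : Subsingleton M := subsingleton_of_forall_eq 0 this
  exact not_sg _ H

theorem exists_eqv [FiniteDimensional F M] {β β' : M →ₗ[F] M →ₗ[F] F} (L : ℕ)
    (h : ∀ x y, β y x = (-1) ^ (L + 1) * β x y) (h' : ∀ x y, β' y x = (-1) ^ (L + 1) * β' x y)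
    (hβ : ∀ x, (∀ y, β x y = 0) → x = 0) (hβ' : ∀ x, (∀ y, β' x y = 0) → x = 0)
    (e : Sg (fun x y => β x y) ↔ Sg fun x y => β' x y) :
    ∃ θ : M ≃ₗ[F] M, ∀ a b, β' (θ a) (θ b) = β a b := by
  rcases (L + 1).even_or_odd with hL | hL
  · simp only [hL.neg_one_pow, one_mul] at h h'
    have h3 : (ofSym h2 β h).Nondeg := hβ
    have h4 : (ofSym h2 β' h').Nondeg := hβ'
    rw [sg_iff h2 β h, sg_iff h2 β' h'] at e
    obtain ⟨i⟩ := h3.orth_iso h4 h2 rfl (by
      have := h3.disc_dichotomy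
      have := h4.disc_dichotomy
      omega)
    exact ⟨i.e, i.isom.map_B⟩
  · simp only [hL.neg_one_pow, neg_one_mul] at h h'
    obtain ⟨i⟩ := Nondeg.sp_iso (f := Form.ofAlt β (alt_self h2 h))
      (g := Form.ofAlt β' (alt_self h2 h')) hβ hβ' rfl
    exact ⟨i.e, i.isom.map_B⟩

omit h2 [Fintype F] [FiniteDimensional F V] in
/-- the form on the top layer -/
def bet (g : f.Isom) (L : ℕ) (ω : M →ₗ[F] V) : M →ₗ[F] M →ₗ[F] F :=
  (f.B.comp ((Isom.N g ^ L) ∘ₗ ω)).compl₂ ω

omit h2 [Fintype F] [FiniteDimensional F V] in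
theorem Top.bet_symm {g : f.Isom} {L : ℕ} {ω : M →ₗ[F] V} (h : Top g L ω) (a b : M) :
    bet g L ω b a = (-1) ^ (L + 1) * bet g L ω a b :=
  (h.symm a b).trans (by rw [pow_succ, mul_assoc]; rfl)

end Sp

/-- the invariants of a unipotent isometry -/
def Has [Fintype F] (d : ℕ → ℕ × Prop) : ℕ → ∀ {V : Type u} [AddCommGroup V] [Module F V]
    [FiniteDimensional F V] {f : Form (Param.sp F) V}, f.Isom → Prop
  | 0, V, _, _, _, _, _ => finrank F V = 0
  | L + 1, V, _, _, _, _, g => ∃ (m : ℕ) (ω : (Fin m → F) →ₗ[F] V) (h : Top g L ω),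
      d L = (m, Sg fun x y => bet g L ω x y) ∧
        Has d L (Isom.restrict g _ (Isom.orth_invariant g h.inv))

variable [Fintype F]

theorem Has.congr {d d' : ℕ → ℕ × Prop} (L : ℕ) (e : ∀ i < L, d i = d' i) :
    ∀ {V : Type u} [AddCommGroup V] [Module F V] [FiniteDimensional F V]
      {f : Form (Param.sp F) V} {g : f.Isom}, Has d L g → Has d' L g := by
  induction L with
  | zero => exact fun h => h
  | succ L ih =>
    rintro V _ _ _ f g ⟨m, ω, h, h1, h2⟩
    exact ⟨m, ω, h, e L L.lt_succ_self ▸ h1, ih (fun i hi => e i (hi.trans L.lt_succ_self)) h2⟩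

theorem Has.sim (h2 : (2 : F) ≠ 0) {d : ℕ → ℕ × Prop} (L : ℕ) :
    ∀ {V : Type u} [AddCommGroup V] [Module F V] [FiniteDimensional F V]
      {W : Type v} [AddCommGroup W] [Module F W] [FiniteDimensional F W]
      {f : Form (Param.sp F) V} {f' : Form (Param.sp F) W} {g : f.Isom} {g' : f'.Isom},
      f.Nondeg → f'.Nondeg → Has d L g → Has d L g' → Sim g g' := by
  induction L with
  | zero =>
    intro V _ _ _ W _ _ _ f f' g g' _ _ h h'
    obtain ⟨i⟩ := iso_of_finrank_zero f f' h h'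
    have := finrank_zero_iff.1 h'
    exact ⟨i, fun _ => Subsingleton.elim _ _⟩
  | succ L ih =>
    rintro V _ _ _ W _ _ _ f f' g g' hf hf' ⟨m, ω, h, h1, h3⟩ ⟨m', ω', h', h1', h3'⟩
    obtain ⟨rfl, e⟩ := Prod.mk.inj (h1.symm.trans h1')
    obtain ⟨θ, hθ⟩ := exists_eqv h2 L h.bet_symm h'.bet_symm h.nd h'.nd (iff_of_eq e)
    exact Sim.glue hf hf' h.disjoint h'.disjoint rfl rfl (h.sim h2 h' θ hθ)
      (ih (hf.restrict_orth h.disjoint) (hf'.restrict_orth h'.disjoint) h3 h3')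

/-- admissible invariants -/
def Adm (L : ℕ) (d : ℕ → ℕ × Prop) : Prop :=
  ∀ i, (Even i → Even (d i).1 ∧ ¬ (d i).2) ∧ ((d i).1 = 0 → ¬ (d i).2) ∧ (L ≤ i → (d i).1 = 0)

theorem exists_has (h2 : (2 : F) ≠ 0) (L : ℕ) :
    ∀ {V : Type u} [AddCommGroup V] [Module F V] [FiniteDimensional F V]
      {f : Form (Param.sp F) V} (g : f.Isom), f.Nondeg → Isom.N g ^ L = 0 →
      ∃ d, Adm L d ∧ Has d L g ∧ ∑ i ∈ range L, (i + 1) * (d i).1 = finrank F V := by
  induction L with
  | zero =>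
    intro V _ _ _ f g _ h
    have : finrank F V = 0 := finrank_zero_iff_forall_zero.2 fun x => LinearMap.congr_fun h x
    exact ⟨fun _ => (0, False), fun i => by simp, this, this.symm⟩
  | succ L ih =>
    intro V _ _ _ f g hf h
    obtain ⟨m, ω, h3, h4⟩ := hf.exists_top h
    obtain ⟨d, h5, h6, h7⟩ := ih (Isom.restrict g _ (Isom.orth_invariant g h3.inv))
      (hf.restrict_orth h3.disjoint)
      (LinearMap.ext fun x => Subtype.ext (by rw [Isom.N_pow_restrict, h4 x x.2]; rfl))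
    have h8 : ∀ i < L, d i = Function.update d L (m, Sg fun x y => bet g L ω x y) i :=
      fun i hi => (Function.update_of_ne hi.ne _ _).symm
    refine ⟨Function.update d L (m, Sg fun x y => bet g L ω x y), fun i => ?_,
      ⟨m, ω, h3, Function.update_self .., h6.congr L h8⟩, ?_⟩
    · rcases eq_or_ne i L with rfl | hi
      · rw [Function.update_self]
        refine ⟨fun hi => ?_, fun hm => ?_, fun hi => absurd hi (by omega)⟩
        · have h9 := h3.bet_symm
          simp only [hi.add_one.neg_one_pow, neg_one_mul] at h9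
          exact ⟨by simpa using Nondeg.sp_even (f := Form.ofAlt _ (alt_self h2 h9)) h3.nd,
            not_sg_of_alt h2 h9 h3.nd⟩
        · obtain rfl : m = 0 := hm
          exact not_sg _
      · rw [Function.update_of_ne hi]
        exact ⟨(h5 i).1, (h5 i).2.1, fun h9 => (h5 i).2.2 (by omega)⟩
    · rw [sum_range_succ, Function.update_self, sum_congr rfl fun i hi => by
        rw [← h8 i (mem_range.1 hi)], h7, ← hf.finrank_add_orth (LinearMap.range
          (cys (Isom.N g) ω (L + 1))), LinearMap.finrank_range_of_inj h3.injective, add_comm]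
      simp [Module.finrank_pi_fintype]

end Form

end Cfsg.Agent.Forms
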