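import Cfsg.Agent.Lib.Forms.SSConj
import Cfsg.Agent.Lib.GLn.ClassCount

/-!
Elementary divisors of isometries; the duality on polynomials.
-/

set_option autoImplicit false

namespace Cfsg.Agent.Forms

open Module Polynomial GLn

variable {F : Type*} [Field F] {P : Param F} {V W : Type*} [AddCommGroup V] [Module F V]
  [AddCommGroup W] [Module F W]

section dual

/-- the dual polynomial: the roots are the inverses of the conjugates of the roots -/
noncomputable def dl (P : Param F) : F[X] →* F[X] where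
  toFun r := C (P.σ (r.coeff 0))⁻¹ * (r.map P.σ).reverse
  map_one' := by rw [Polynomial.map_one, ← C_1, reverse_C]; simp
  map_mul' r s := by
    simp only [mul_coeff_zero, map_mul, mul_inv, Polynomial.map_mul, reverse_mul_of_domain]
    ring

theorem dl_apply (r : F[X]) : dl P r = C (P.σ (r.coeff 0))⁻¹ * (r.map P.σ).reverse := rfl

theorem coeff_dl (r : F[X]) (i : ℕ) :
    (dl P r).coeff i = (P.σ (r.coeff 0))⁻¹ * P.σ (r.coeff (revAt r.natDegree i)) := by
  rw [dl_apply, coeff_C_mul, coeff_reverse, natDegree_map, coeff_map]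

theorem natDegree_dl_le (r : F[X]) : (dl P r).natDegree ≤ r.natDegree := by
  refine (natDegree_C_mul_le _ _).trans ((reverse_natDegree_le _).trans (natDegree_map_le))

theorem coeff_dl_natDegree {r : F[X]} (h : r.coeff 0 ≠ 0) : (dl P r).coeff r.natDegree = 1 := by
  rw [coeff_dl, revAt_le le_rfl, Nat.sub_self, inv_mul_cancel₀ (P.σ_ne_zero h)]

theorem monic_dl {r : F[X]} (h : r.coeff 0 ≠ 0) : (dl P r).Monic :=
  monic_of_natDegree_le_of_coeff_eq_one _ (natDegree_dl_le r) (coeff_dl_natDegree h)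

theorem natDegree_dl {r : F[X]} (h : r.coeff 0 ≠ 0) : (dl P r).natDegree = r.natDegree :=
  natDegree_eq_of_le_of_coeff_ne_zero (natDegree_dl_le r) (coeff_dl_natDegree h ▸ one_ne_zero)

theorem coeff_zero_dl {r : F[X]} (hm : r.Monic) : (dl P r).coeff 0 = (P.σ (r.coeff 0))⁻¹ := by
  rw [coeff_dl, revAt_zero, hm.coeff_natDegree, map_one, mul_one]

theorem coeff_zero_dl_ne {r : F[X]} (hm : r.Monic) (h : r.coeff 0 ≠ 0) : (dl P r).coeff 0 ≠ 0 := by
  rw [coeff_zero_dl hm]
  exact inv_ne_zero (P.σ_ne_zero h)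

theorem dl_dl {r : F[X]} (hm : r.Monic) (h : r.coeff 0 ≠ 0) : dl P (dl P r) = r := by
  ext i
  rw [coeff_dl, coeff_dl, coeff_dl, natDegree_dl h, revAt_invol, revAt_zero, hm.coeff_natDegree]
  simp [P.σσ, h]

theorem irreducible_dl {r : F[X]} (hm : r.Monic) (h : r.coeff 0 ≠ 0) (hi : Irreducible r) :
    Irreducible (dl P r) := by
  refine ⟨fun hu => hi.not_isUnit (by simpa [dl_dl hm h] using hu.map (dl P)), fun a b e => ?_⟩
  have h1 := coeff_zero_dl_ne (P := P) hm h
  rw [e, mul_coeff_zero] at h1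
  have h2 : ∀ c : F[X], c.coeff 0 ≠ 0 → IsUnit (dl P c) → IsUnit c := fun c hc hu => by
    have := natDegree_eq_zero_of_isUnit hu
    rw [natDegree_dl hc] at this
    rw [eq_C_of_natDegree_eq_zero this]
    exact isUnit_C.2 hc.isUnit
  exact (hi.isUnit_or_isUnit (by rw [← map_mul, ← e, dl_dl hm h])).imp
    (h2 a (left_ne_zero_of_mul h1)) (h2 b (right_ne_zero_of_mul h1))

theorem dl_eq_iff {r : F[X]} (h : r.coeff 0 ≠ 0) : dl P r = r ↔
    ∀ i ≤ r.natDegree, P.σ (r.coeff (r.natDegree - i)) = P.σ (r.coeff 0) * r.coeff i := by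
  rw [Polynomial.ext_iff]
  refine forall_congr' fun i => ?_
  rw [coeff_dl, inv_mul_eq_iff_eq_mul₀ (P.σ_ne_zero h)]
  rcases le_or_gt i r.natDegree with hi | hi
  · simp [hi]
  · simp [revAt_eq_self_of_lt hi, coeff_eq_zero_of_natDegree_lt hi, hi.not_ge]

theorem coeff_zero_ne_of_ne_X {r : F[X]} (hm : r.Monic) (hi : Irreducible r) (h : r ≠ X) :
    r.coeff 0 ≠ 0 := fun h0 =>
  h (eq_of_monic_of_associated hm monic_X
    (irreducible_X.associated_of_dvd hi (X_dvd_iff.2 h0)).symm)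

end dual

theorem aeval_reflect {A : Type*} [Ring A] [Algebra F A] {x y : A} (h : x * y = 1) {r : F[X]}
    {N : ℕ} (hN : r.natDegree ≤ N) : aeval x (reflect N r) = x ^ N * aeval y r := by
  have h1 : ∀ k, x ^ k * y ^ k = 1 := fun k => by
    induction k with
    | zero => simp
    | succ k ih => rw [pow_succ, pow_succ', mul_assoc, ← mul_assoc x, h, one_mul, ih]
  rw [aeval_eq_sum_range' (n := N + 1) (Nat.lt_succ_of_le (natDegree_reflect_le.trans
    (max_le le_rfl hN))), aeval_eq_sum_range' (Nat.lt_succ_of_le hN), Finset.mul_sum,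
    ← Finset.sum_range_reflect]
  refine Finset.sum_congr rfl fun i hi => ?_
  have h2 := Nat.le_of_lt_succ (Finset.mem_range.1 hi)
  rw [coeff_reflect, Nat.add_sub_cancel, revAt_le (Nat.sub_le _ _), Nat.sub_sub_self h2,
    mul_smul_comm]
  congr 1
  conv_rhs => rw [← Nat.sub_add_cancel h2, pow_add, mul_assoc, h1, mul_one]

namespace Form

variable {f : Form P V}

theorem Isom.B_aeval (g : f.Isom) (r : F[X]) (u v : V) :
    f.B (aeval (g.1 : V →ₗ[F] V) r u) v = f.B u (aeval (g⁻¹.1 : V →ₗ[F] V) (r.map P.σ) v) := by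
  induction r using Polynomial.induction_on generalizing u v with
  | C a => simp [P.σσ]
  | add r s hr hs => simp [hr, hs]
  | monomial n a h =>
    rw [pow_succ, ← mul_assoc, map_mul, aeval_X, Module.End.mul_apply, h, LinearEquiv.coe_coe,
      Isom.B_left, Polynomial.map_mul (q := X), map_X, ← (commute_X _).eq, map_mul, aeval_X]
    rfl

theorem Isom.aeval_comm (g : f.Isom) (r : F[X]) (v : V) :
    aeval (g.1 : V →ₗ[F] V) r (g.1 v) = g.1 (aeval (g.1 : V →ₗ[F] V) r v) := by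
  have := congrArg (fun s => aeval (g.1 : V →ₗ[F] V) s v) (commute_X r).eq
  simpa using this.symm

theorem Isom.aeval_comm_inv (g : f.Isom) (r : F[X]) (v : V) :
    aeval (g.1 : V →ₗ[F] V) r (g⁻¹.1 v) = g⁻¹.1 (aeval (g.1 : V →ₗ[F] V) r v) := by
  rw [← Isom.inv_apply g (aeval (g.1 : V →ₗ[F] V) r _), ← Isom.aeval_comm, Isom.apply_inv]

theorem Isom.aeval_comm_pow (g : f.Isom) (r : F[X]) (k : ℕ) (v : V) :
    aeval (g.1 : V →ₗ[F] V) r ((g ^ k).1 v) = (g ^ k).1 (aeval (g.1 : V →ₗ[F] V) r v) := by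
  induction k generalizing v with
  | zero => rfl
  | succ k ih => rw [pow_succ, Isom.mul_apply, Isom.mul_apply, ih, Isom.aeval_comm]

theorem Isom.B_aeval_dl (g : f.Isom) {r : F[X]} (h : r.coeff 0 ≠ 0) (u v : V) :
    f.B (aeval (g.1 : V →ₗ[F] V) r ((g⁻¹ ^ r.natDegree).1 u)) v =
      r.coeff 0 * f.B u (aeval (g.1 : V →ₗ[F] V) (dl P r) v) := by
  have h1 := aeval_reflect (x := (g.1 : V →ₗ[F] V)) (y := (g⁻¹.1 : V →ₗ[F] V))
    (LinearMap.ext (Isom.apply_inv g)) (r := r.map P.σ) le_rfl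
  rw [Isom.B_aeval, dl_apply, map_mul, aeval_C, reverse, h1, Isom.B_left, natDegree_map]
  simp [P.σσ, h, Module.End.pow_apply, LinearEquiv.pow_apply]

end Form

variable [FiniteDimensional F V] [FiniteDimensional F W]

/-- the elementary divisors of an endomorphism -/
noncomputable def tp (φ : V →ₗ[F] V) : Multiset (F[X] × ℕ) :=
  typ (LinearMap.toMatrix (finBasis F V) (finBasis F V) φ)

theorem valid_tp (φ : V →ₗ[F] V) : Valid (tp φ) := valid_typ _

theorem wt_tp (φ : V →ₗ[F] V) : wt (tp φ) = finrank F V := (wt_typ _).trans (Fintype.card_fin _)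

theorem chp_tp (φ : V →ₗ[F] V) : chp (tp φ) = φ.charpoly :=
  (chp_typ _).trans (LinearMap.charpoly_toMatrix _ _)

omit [FiniteDimensional F V] in
theorem kdim_toMatrix {n : Type*} [Fintype n] [DecidableEq n] (b : Basis n F V) (φ : V →ₗ[F] V)
    (r : F[X]) : kdim (LinearMap.toMatrix b b φ) r = finrank F (LinearMap.ker (aeval φ r)) := by
  have h1 : aeval (LinearMap.toMatrix b b φ) r = LinearMap.toMatrix b b (aeval φ r) :=
    aeval_algHom_apply (LinearMap.toMatrixAlgEquiv b) φ r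
  rw [kdim, h1]
  refine Eq.trans (congrArg (fun S : Submodule F (n → F) => finrank F S) ?_)
    (LinearEquiv.finrank_map_eq b.equivFun _)
  ext v
  obtain ⟨v, rfl⟩ := b.equivFun.surjective v
  rw [Submodule.mem_map_equiv, LinearEquiv.symm_apply_apply, LinearMap.mem_ker, LinearMap.mem_ker,
    Matrix.toLin'_apply, Basis.equivFun_apply, LinearMap.toMatrix_mulVec_repr]
  simp

theorem tp_eq_typ {n : Type*} [Fintype n] [DecidableEq n] (b : Basis n F V) (φ : V →ₗ[F] V) :
    tp φ = typ (LinearMap.toMatrix b b φ) :=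
  type_eq_of_kdim_eq (hasType_typ _) (valid_typ _) (hasType_typ _) (valid_typ _)
    fun _ _ _ _ => by rw [kdim_toMatrix, kdim_toMatrix]

theorem exists_equiv_of_tp_eq {φ : V →ₗ[F] V} {ψ : W →ₗ[F] W} (h : tp φ = tp ψ) :
    ∃ x : V ≃ₗ[F] W, ∀ v, x (φ v) = ψ (x v) := by
  have hd : finrank F W = finrank F V := by rw [← wt_tp φ, h, wt_tp]
  let b := finBasis F V
  let c := finBasisOfFinrankEq F W hd
  rw [tp_eq_typ c] at h
  obtain ⟨Q, hQ⟩ := (similar_iff_typ_eq _ _).2 h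
  refine ⟨Matrix.toLinOfInv b c Q.mul_inv Q.inv_mul, fun v => ?_⟩
  have := congrArg (fun A => Matrix.toLin b c A v) hQ
  rwa [Matrix.toLin_mul b b c, Matrix.toLin_mul b c c, Matrix.toLin_toMatrix,
    Matrix.toLin_toMatrix] at this

open scoped Classical in
theorem finrank_ker_tp (φ : V →ₗ[F] V) {r : F[X]} (hr : r.Monic) (hi : Irreducible r) (j : ℕ) :
    finrank F (LinearMap.ker (aeval φ (r ^ j))) =
      ((tp φ).map fun x => if x.1 = r then min x.2 j else 0).sum * r.natDegree := by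
  rw [← kdim_toMatrix (finBasis F V), (hasType_typ _).kdim_pow (valid_typ _) hr hi]
  rfl

theorem exists_of_mem_tp {φ : V →ₗ[F] V} {r : F[X]} {i : ℕ} (h : (r, i + 1) ∈ tp φ) :
    ∃ w, aeval φ (r ^ (i + 1)) w = 0 ∧ aeval φ (r ^ i) w ∉ LinearMap.range (aeval φ (r ^ (i + 1))) := by
  classical
  obtain ⟨hm, hi, -⟩ := valid_tp φ _ h
  obtain ⟨k, t, ht, hA⟩ := hasType_typ (LinearMap.toMatrix (finBasis F V) (finBasis F V) φ)
  rw [tp, ← ht, Multiset.mem_map] at h
  obtain ⟨j, -, hj⟩ := h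
  obtain ⟨e, he⟩ := (isModel_iff _ _).1 hA
  let E := (finBasis F V).equivFun.trans e
  have h1 : ∀ v, E (φ v) = blkX _ * E v := fun v => by
    simp only [E, LinearEquiv.trans_apply, Basis.equivFun_apply, ← he,
      LinearMap.toMatrix_mulVec_repr]
  have h2 : ∀ (s : F[X]) v, E (aeval φ s v) = aeval (blkX _) s * E v := by
    intro s
    induction s using Polynomial.induction_on with
    | C a => simp [Algebra.smul_def]
    | add r s hr hs => simp [hr, hs, add_mul]
    | monomial n a h =>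
      intro v
      rw [pow_succ, ← mul_assoc, map_mul _ _ X, map_mul _ _ X, aeval_X, aeval_X,
        Module.End.mul_apply, h, h1, mul_assoc]
  have h3 : AdjoinRoot.mk ((t j).1 ^ (t j).2) (r ^ (i + 1)) = 0 := by
    rw [AdjoinRoot.mk_eq_zero, hj]
  refine ⟨E.symm (Pi.single j 1), E.injective ?_, ?_⟩
  · rw [h2, E.apply_symm_apply, aeval_blkX, map_zero]
    funext l
    by_cases e : l = j
    · subst e
      simp [-map_pow, h3]
    · simp [e]
  · rintro ⟨z, hz⟩
    have h4 := congrFun (congrArg E hz) j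
    rw [h2, h2, E.apply_symm_apply, aeval_blkX, aeval_blkX] at h4
    simp only [Pi.mul_apply, h3, zero_mul, Pi.single_eq_same, mul_one] at h4
    have h5 := AdjoinRoot.mk_eq_zero.1 h4.symm
    rw [hj, pow_dvd_pow_iff hm.ne_zero hi.not_isUnit] at h5
    omega

theorem ne_X_of_mem_tp (g : V ≃ₗ[F] V) {x : F[X] × ℕ} (h : x ∈ tp (g : V →ₗ[F] V)) : x.1 ≠ X :=
  (det_ne_zero_iff_typ _).1 (by rw [LinearMap.det_toMatrix]; exact (LinearEquiv.isUnit_det' g).ne_zero)
    x h

theorem coeff_zero_ne_of_mem_tp (g : V ≃ₗ[F] V) {x : F[X] × ℕ} (h : x ∈ tp (g : V →ₗ[F] V)) :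
    x.1.coeff 0 ≠ 0 :=
  coeff_zero_ne_of_ne_X (valid_tp _ x h).1 (valid_tp _ x h).2.1 (ne_X_of_mem_tp g h)

theorem isU_phiU_tp (g : V ≃ₗ[F] V) {M : ℕ} (hM : finrank F V ≤ M) :
    IsU M (finrank F V) (phiU (tp (g : V →ₗ[F] V))) := by
  rw [← wt_tp (g : V →ₗ[F] V)] at hM ⊢
  exact (valid_tp _).isU_phiU (fun _ => ne_X_of_mem_tp g) hM

namespace Form

variable {f : Form P V}

theorem Nondeg.orth_ker_aeval (hf : f.Nondeg) (g : f.Isom) {r : F[X]} (h : r.coeff 0 ≠ 0) :
    f.orth (LinearMap.ker (aeval (g.1 : V →ₗ[F] V) (dl P r))) =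
      LinearMap.range (aeval (g.1 : V →ₗ[F] V) r) := by
  rw [← hf.orth_orth (LinearMap.range _)]
  congr 1
  ext v
  rw [mem_orth', LinearMap.mem_ker]
  constructor
  · rintro hv _ ⟨u, rfl⟩
    rw [← Isom.apply_inv (g⁻¹ ^ r.natDegree) u, Isom.B_aeval_dl g h, hv, B_zero_right, mul_zero]
  · intro hv
    refine hf.right _ fun u => (mul_eq_zero.1 ?_).resolve_left h
    rw [← Isom.B_aeval_dl g h]
    exact hv _ ⟨_, rfl⟩

theorem Nondeg.finrank_ker_dl (hf : f.Nondeg) (g : f.Isom) {r : F[X]} (h : r.coeff 0 ≠ 0) :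
    finrank F (LinearMap.ker (aeval (g.1 : V →ₗ[F] V) (dl P r))) =
      finrank F (LinearMap.ker (aeval (g.1 : V →ₗ[F] V) r)) := by
  have h1 := hf.finrank_add_orth (LinearMap.ker (aeval (g.1 : V →ₗ[F] V) (dl P r)))
  have h2 := LinearMap.finrank_range_add_finrank_ker (aeval (g.1 : V →ₗ[F] V) r)
  rw [hf.orth_ker_aeval g h] at h1
  omega

open scoped Classical in
theorem Nondeg.count_dl (hf : f.Nondeg) (g : f.Isom) {r : F[X]} (hm : r.Monic) (hi : Irreducible r)
    (h : r.coeff 0 ≠ 0) (j : ℕ) :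
    (tp (g.1 : V →ₗ[F] V)).count (dl P r, j + 1) = (tp (g.1 : V →ₗ[F] V)).count (r, j + 1) := by
  have h1 : ∀ j, ((tp (g.1 : V →ₗ[F] V)).map fun x => if x.1 = dl P r then min x.2 j else 0).sum =
      ((tp (g.1 : V →ₗ[F] V)).map fun x => if x.1 = r then min x.2 j else 0).sum := fun j => by
    have h2 := hf.finrank_ker_dl g (r := r ^ j) (by rw [← constantCoeff_apply, map_pow]; exact pow_ne_zero _ h)
    rw [map_pow, finrank_ker_tp _ (monic_dl h) (irreducible_dl hm h hi), finrank_ker_tp _ hm hi,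
      natDegree_dl h] at h2
    exact Nat.eq_of_mul_eq_mul_right hi.natDegree_pos h2
  have h2 := count_add_sum_min (tp (g.1 : V →ₗ[F] V)) r j
  have h3 := count_add_sum_min (tp (g.1 : V →ₗ[F] V)) (dl P r) j
  rw [h1, h1, h1] at h3
  omega

theorem Nondeg.map_dl_tp (hf : f.Nondeg) (g : f.Isom) :
    (tp (g.1 : V →ₗ[F] V)).map (fun x => (dl P x.1, x.2)) = tp (g.1 : V →ₗ[F] V) := by
  classical
  refine Multiset.eq_of_le_of_card_le (Multiset.le_iff_count.2 fun y => ?_) (by simp)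
  by_cases h : y ∈ (tp (g.1 : V →ₗ[F] V)).map fun x => (dl P x.1, x.2)
  · obtain ⟨⟨r, j⟩, hx, rfl⟩ := Multiset.mem_map.1 h
    obtain ⟨h1, h2, h3⟩ := valid_tp _ _ hx
    obtain ⟨j, rfl⟩ : ∃ k, j = k + 1 := ⟨j - 1, by simp only at h3; omega⟩
    refine (Multiset.count_map_eq_count (fun x : F[X] × ℕ => (dl P x.1, x.2)) _ ?_ _ hx).trans_le
      (hf.count_dl g h1 h2 (coeff_zero_ne_of_mem_tp g.1 hx) j).ge
    intro x hx y hy e
    refine Prod.ext ?_ (Prod.ext_iff.1 e).2
    rw [← dl_dl (P := P) (valid_tp _ _ hx).1 (coeff_zero_ne_of_mem_tp g.1 hx),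
      show dl P x.1 = dl P y.1 from (Prod.ext_iff.1 e).1,
      dl_dl (valid_tp _ _ hy).1 (coeff_zero_ne_of_mem_tp g.1 hy)]
  · rw [Multiset.count_eq_zero_of_notMem h]
    exact Nat.zero_le _

theorem Nondeg.dl_phiU (hf : f.Nondeg) (g : f.Isom) (i : ℕ) :
    dl P (phiU (tp (g.1 : V →ₗ[F] V)) i) = phiU (tp (g.1 : V →ₗ[F] V)) i := by
  conv_rhs => rw [← hf.map_dl_tp g]
  simp only [phiU, map_multiset_prod, Multiset.filter_map, Multiset.map_map]
  rfl

end Form

end Cfsg.Agent.Forms
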