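import Cfsg.Agent.Lib.Forms.PFix
import Cfsg.Agent.Lib.Forms.Classify
import Cfsg.Agent.Lib.Forms.Center
import Cfsg.Agent.Lib.Forms.Realz
import Cfsg.Agent.Lib.GLn.Pronormal

/-!
The Borel subgroup of an even dimensional unitary group normalises every overgroup of its
unipotent radical.
-/

set_option autoImplicit false

namespace Cfsg.Agent.Forms

open Module

section abstract

variable {G : Type*} [Group G]

theorem le_normalizer_of_borel [Finite G] {p : ℕ} [Fact p.Prime] (U : Sylow p G)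
    (hab : ∀ a ∈ Subgroup.normalizer ((U : Subgroup G) : Set G),
      ∀ b ∈ Subgroup.normalizer ((U : Subgroup G) : Set G), a * b * a⁻¹ * b⁻¹ ∈ (U : Subgroup G))
    (hB : ∀ g : G, ∀ b ∈ Subgroup.normalizer ((U : Subgroup G) : Set G), ∃ u ∈ (U : Subgroup G),
      g⁻¹ * (u⁻¹ * b) * g ∈ Subgroup.normalizer ((U : Subgroup G) : Set G))
    {H : Subgroup G} (hH : (U : Subgroup G) ≤ H) :
    Subgroup.normalizer ((U : Subgroup G) : Set G) ≤ Subgroup.normalizer (H : Set G) := by
  intro b hb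
  let H0 : Subgroup G := Subgroup.closure {x | ∃ h ∈ H, ∃ u ∈ (U : Subgroup G), x = h * u * h⁻¹}
  have h0 : H0 ≤ H := (Subgroup.closure_le _).2 (by
    rintro _ ⟨h, hh, u, hu, rfl⟩
    exact mul_mem (mul_mem hh (hH hu)) (inv_mem hh))
  have h1 : ∀ d ∈ H0, b * d * b⁻¹ ∈ H0 := by
    intro d hd
    induction hd using Subgroup.closure_induction with
    | mem x hx =>
      obtain ⟨h, hh, u, hu, rfl⟩ := hx
      obtain ⟨v, hv, h2⟩ := hB h b hb
      refine Subgroup.subset_closure ⟨v * h, mul_mem (hH hv) hh, _,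
        (Subgroup.mem_normalizer_iff.1 h2 u).1 hu, by group⟩
    | one => simp
    | mul x y _ _ hx hy => simpa [mul_assoc] using mul_mem hx hy
    | inv x _ hx => simpa [mul_assoc] using inv_mem hx
  refine Subgroup.mem_normalizer_fintype fun h hh => ?_
  obtain ⟨d, hd, h2⟩ := Alt.exists_conj_le_sylow U (D := H0)
    (Q := (U : Subgroup G).map (MulAut.conj h).toMonoidHom)
    (fun u hu => Subgroup.subset_closure ⟨1, one_mem _, u, hu, by simp⟩)
    (by rintro _ ⟨u, hu, rfl⟩; exact Subgroup.subset_closure ⟨h, hh, u, hu, rfl⟩)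
    (U.isPGroup'.map _)
  have h3 : d * h ∈ Subgroup.normalizer ((U : Subgroup G) : Set G) :=
    Subgroup.mem_normalizer_fintype fun x hx => by
      have := h2 _ ⟨x, hx, rfl⟩
      simpa only [MulEquiv.coe_toMonoidHom, MulAut.conj_apply, mul_assoc, _root_.mul_inv_rev,
        SetLike.mem_coe] using this
  have h4 := mul_mem (mul_mem (h0 (h1 _ (inv_mem hd))) (hH (hab b hb _ h3))) (mul_mem (h0 hd) hh)
  simpa [mul_assoc] using h4

theorem pronormal_of_map {G' : Type*} [Group G'] (φ : G →* G') (hφ : Function.Injective φ)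
    {H : Subgroup G} (h : Cfsg.IsPronormal (H.map φ)) : Cfsg.IsPronormal H := by
  have key : ∀ y : G, (H.map (MulAut.conj y).toMonoidHom).map φ =
      (H.map φ).map (MulAut.conj (φ y)).toMonoidHom := by
    intro y
    rw [Subgroup.map_map, Subgroup.map_map]
    congr 1
    ext z
    simp
  intro g
  obtain ⟨x, hx, h1⟩ := h (φ g)
  rw [← key, ← Subgroup.map_sup] at hx
  obtain ⟨x, hx, rfl⟩ := hx
  exact ⟨x, hx, Subgroup.map_injective hφ (by rw [key, h1, key])⟩

end abstract

variable {F : Type*} [Field F] {σ : F →+* F} {hσ : ∀ a, σ (σ a) = a} {n : ℕ}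

/-- the hermitian form with antidiagonal Gram matrix -/
def aForm (n : ℕ) (σ : F →+* F) (hσ : ∀ a, σ (σ a) = a) (hs : ∃ a, σ a ≠ a) :
    Form (Param.unit σ hσ) (Fin n → F) :=
  Form.ofHerm σ hσ hs
    (LinearMap.mk₂'ₛₗ (RingHom.id F) σ (fun u v => ∑ i, u i * σ (v i.rev))
      (fun _ _ _ => by simp [add_mul, Finset.sum_add_distrib])
      (fun _ _ _ => by simp [Finset.mul_sum, mul_assoc])
      (fun _ _ _ => by simp [mul_add, Finset.sum_add_distrib])
      (fun _ _ _ => by simp [Finset.mul_sum, mul_left_comm]))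
    (fun x y => by
      simp only [LinearMap.mk₂'ₛₗ_apply, map_sum, map_mul, hσ]
      exact Fintype.sum_equiv Fin.revPerm _ _ fun i => by simp [mul_comm])

variable {hs : ∃ a, σ a ≠ a}

theorem aForm_B (u v : Fin n → F) : (aForm n σ hσ hs).B u v = ∑ i, u i * σ (v i.rev) := rfl

theorem aForm_B_single (u : Fin n → F) (i : Fin n) :
    (aForm n σ hσ hs).B u (Pi.single i 1) = u i.rev := by
  rw [aForm_B, Finset.sum_eq_single i.rev]
  · simp
  · intro j _ hj
    rw [Pi.single_eq_of_ne (fun h => hj (by rw [← h, Fin.rev_rev])), map_zero, mul_zero]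
  · simp

theorem aForm_single_B (u : Fin n → F) (i : Fin n) :
    (aForm n σ hσ hs).B (Pi.single i 1) u = σ (u i.rev) := by
  rw [Form.unit_symm, aForm_B_single]

theorem aForm_nondeg : (aForm n σ hσ hs).Nondeg := by
  intro x hx
  ext i
  simpa [aForm_B_single] using hx (Pi.single i.rev 1)

/-- the standard flag -/
def low (F : Type*) [Field F] (n k : ℕ) : Submodule F (Fin n → F) where
  carrier := {v | ∀ i : Fin n, k ≤ i → v i = 0}
  add_mem' ha hb i hi := by simp [ha i hi, hb i hi]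
  zero_mem' _ _ := rfl
  smul_mem' c v hv i hi := by simp [hv i hi]

theorem mem_low {k : ℕ} {v : Fin n → F} : v ∈ low F n k ↔ ∀ i : Fin n, k ≤ i → v i = 0 := Iff.rfl

theorem low_mono {k l : ℕ} (h : k ≤ l) : low F n k ≤ low F n l :=
  fun _ hv i hi => hv i (h.trans hi)

theorem low_zero {v : Fin n → F} (h : v ∈ low F n 0) : v = 0 :=
  funext fun i => h i (Nat.zero_le _)

theorem mem_low_top {k : ℕ} (h : n ≤ k) (v : Fin n → F) : v ∈ low F n k :=
  fun i hi => absurd i.2 (by omega)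

theorem single_mem_low {k : ℕ} {i : Fin n} (h : (i : ℕ) < k) (c : F) :
    Pi.single i c ∈ low F n k :=
  fun _ hj => Pi.single_eq_of_ne (fun e => by rw [e] at hj; omega) _

theorem sub_single_mem_low {i : Fin n} {v : Fin n → F} (h : v ∈ low F n (i + 1)) :
    v - v i • Pi.single i (1 : F) ∈ low F n i := by
  intro j hj
  by_cases e : j = i
  · simp [e]
  · have := h j (by have := Fin.val_ne_of_ne e; omega)
    simp [e, this]

theorem aForm_B_low {k l : ℕ} (h : k + l ≤ n) {u v : Fin n → F} (hu : u ∈ low F n k)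
    (hv : v ∈ low F n l) : (aForm n σ hσ hs).B u v = 0 := by
  rw [aForm_B]
  refine Finset.sum_eq_zero fun i _ => ?_
  by_cases e : k ≤ i
  · rw [hu i e, zero_mul]
  · rw [hv i.rev (by rw [Fin.val_rev]; omega), map_zero, mul_zero]

theorem aForm_orth_low {k : ℕ} : (aForm n σ hσ hs).orth (low F n k) = low F n (n - k) := by
  ext v
  constructor
  · intro h i hi
    have := h _ (single_mem_low (k := k) (i := i.rev) (by rw [Fin.val_rev]; omega) 1)
    rwa [aForm_B_single, Fin.rev_rev] at this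
  · intro h w hw
    by_cases e : k ≤ n
    · exact aForm_B_low (by omega) h hw
    · rw [low_zero (low_mono (k := n - k) (by omega) h), Form.B_zero_left]

theorem low_eq_span (k : ℕ) :
    low F n k = Submodule.span F {v | ∃ i : Fin n, (i : ℕ) < k ∧ v = Pi.single i 1} := by
  refine le_antisymm (fun v hv => ?_) (Submodule.span_le.2 ?_)
  · rw [pi_eq_sum_univ' v]
    refine Submodule.sum_mem _ fun i _ => ?_
    by_cases e : k ≤ i
    · simp [hv i e]
    · exact Submodule.smul_mem _ _ (Submodule.subset_span ⟨i, by omega, rfl⟩)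
  · rintro _ ⟨i, hi, rfl⟩
    exact single_mem_low hi 1

theorem inv_mem_of_mul_mem {G : Type*} [Group G] [Finite G] {S : Set G} (h1 : (1 : G) ∈ S)
    (h2 : ∀ a ∈ S, ∀ b ∈ S, a * b ∈ S) {a : G} (ha : a ∈ S) : a⁻¹ ∈ S := by
  have h3 : ∀ k : ℕ, a ^ k ∈ S := fun k => by
    induction k with
    | zero => simpa using h1
    | succ k ih => rw [pow_succ]; exact h2 _ ih _ ha
  have h4 : a⁻¹ = a ^ (orderOf a - 1) := by
    rw [inv_eq_iff_mul_eq_one, ← pow_succ', Nat.sub_add_cancel (orderOf_pos a), pow_orderOf_eq_one]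
  exact h4 ▸ h3 _

variable [Finite F]

instance instFiniteAFormIsom : Finite (aForm n σ hσ hs).Isom := Form.finite_isom _

/-- the stabiliser of the standard flag -/
def aB (n : ℕ) (σ : F →+* F) (hσ : ∀ a, σ (σ a) = a) (hs : ∃ a, σ a ≠ a) :
    Subgroup (aForm n σ hσ hs).Isom where
  carrier := {g | ∀ k, ∀ v ∈ low F n k, g.1 v ∈ low F n k}
  one_mem' _ _ hv := hv
  mul_mem' ha hb k v hv := ha k _ (hb k v hv)
  inv_mem' ha := inv_mem_of_mul_mem (S := {g : (aForm n σ hσ hs).Isom |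
    ∀ k, ∀ v ∈ low F n k, g.1 v ∈ low F n k}) (fun _ _ hv => hv)
    (fun _ ha _ hb k v hv => ha k _ (hb k v hv)) ha

theorem aU_mul {a b : (aForm n σ hσ hs).Isom}
    (ha : ∀ k, ∀ v ∈ low F n (k + 1), a.1 v - v ∈ low F n k)
    (hb : ∀ k, ∀ v ∈ low F n (k + 1), b.1 v - v ∈ low F n k) :
    ∀ k, ∀ v ∈ low F n (k + 1), (a * b).1 v - v ∈ low F n k := by
  intro k v hv
  have h1 := hb k v hv
  have h2 : b.1 v ∈ low F n (k + 1) := by simpa using add_mem (low_mono k.le_succ h1) hv
  simpa [Form.Isom.mul_apply] using add_mem (ha k _ h2) h1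

/-- the unipotent radical of the stabiliser of the standard flag -/
def aU (n : ℕ) (σ : F →+* F) (hσ : ∀ a, σ (σ a) = a) (hs : ∃ a, σ a ≠ a) :
    Subgroup (aForm n σ hσ hs).Isom where
  carrier := {g | ∀ k, ∀ v ∈ low F n (k + 1), g.1 v - v ∈ low F n k}
  one_mem' _ _ _ := by simp
  mul_mem' := aU_mul
  inv_mem' ha := inv_mem_of_mul_mem (S := {g : (aForm n σ hσ hs).Isom |
    ∀ k, ∀ v ∈ low F n (k + 1), g.1 v - v ∈ low F n k}) (fun _ _ _ => by simp)
    (fun _ ha _ hb => aU_mul ha hb) ha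

theorem aU_le_aB : aU n σ hσ hs ≤ aB n σ hσ hs := by
  intro g hg k v hv
  cases k with
  | zero => rw [low_zero hv, map_zero]; exact zero_mem _
  | succ k => simpa using add_mem (low_mono k.le_succ (hg k v hv)) hv

theorem conj_mem_aU {b u : (aForm n σ hσ hs).Isom} (hb : b ∈ aB n σ hσ hs)
    (hu : u ∈ aU n σ hσ hs) : b * u * b⁻¹ ∈ aU n σ hσ hs := by
  intro k v hv
  have := hb k _ (hu k _ (inv_mem hb _ v hv))
  rwa [map_sub, Form.Isom.apply_inv] at this

theorem isPGroup_aU (p : ℕ) [Fact p.Prime] [CharP F p] : IsPGroup p (aU n σ hσ hs) := by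
  intro g
  refine ⟨n, Subtype.ext (Subtype.ext (pow_eq_one_of_sub_pow p (n := n) ?_
    (Nat.lt_pow_self (Fact.out : p.Prime).one_lt).le))⟩
  have h : ∀ k, ∀ v ∈ low F n k, (((g.1.1 : (Fin n → F) →ₗ[F] (Fin n → F)) - 1) ^ k) v = 0 := by
    intro k
    induction k with
    | zero => exact fun v hv => low_zero hv
    | succ k ih => exact fun v hv => by rw [pow_succ]; exact ih _ (g.2 k v hv)
  exact LinearMap.ext fun v => h n v (mem_low_top le_rfl v)

/-- the diagonal entries -/
def dg (g : (aForm n σ hσ hs).Isom) (i : Fin n) : F := g.1 (Pi.single i 1) i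

theorem apply_eq_dg {b : (aForm n σ hσ hs).Isom} (hb : b ∈ aB n σ hσ hs) {i : Fin n}
    {v : Fin n → F} (hv : v ∈ low F n (i + 1)) : b.1 v i = dg b i * v i := by
  have := hb _ _ (sub_single_mem_low hv) i le_rfl
  rw [map_sub, map_smul, Pi.sub_apply, Pi.smul_apply, sub_eq_zero] at this
  rw [this, dg, smul_eq_mul, mul_comm]

theorem dg_mul {a b : (aForm n σ hσ hs).Isom} (ha : a ∈ aB n σ hσ hs) (hb : b ∈ aB n σ hσ hs)
    (i : Fin n) : dg (a * b) i = dg a i * dg b i :=
  apply_eq_dg ha (hb _ _ (single_mem_low (Nat.lt_succ_self _) 1))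

theorem mem_aU_iff {b : (aForm n σ hσ hs).Isom} (hb : b ∈ aB n σ hσ hs) :
    b ∈ aU n σ hσ hs ↔ ∀ i, dg b i = 1 := by
  constructor
  · intro h i
    have := h _ _ (single_mem_low (Nat.lt_succ_self (i : ℕ)) (1 : F)) i le_rfl
    simpa [sub_eq_zero, dg] using this
  · intro h k v hv i hi
    rcases hi.eq_or_lt with e | e
    · subst e
      rw [Pi.sub_apply, apply_eq_dg hb hv, h, one_mul, sub_self]
    · rw [Pi.sub_apply, hb _ v hv i e, hv i e, sub_self]

theorem dg_one (i : Fin n) : dg (1 : (aForm n σ hσ hs).Isom) i = 1 :=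
  (mem_aU_iff (one_mem _)).1 (one_mem _) i

theorem dg_inv_mul {b : (aForm n σ hσ hs).Isom} (hb : b ∈ aB n σ hσ hs) (i : Fin n) :
    dg b⁻¹ i * dg b i = 1 := by
  rw [← dg_mul (inv_mem hb) hb, inv_mul_cancel, dg_one]

theorem dg_pow {b : (aForm n σ hσ hs).Isom} (hb : b ∈ aB n σ hσ hs) (i : Fin n) (k : ℕ) :
    dg (b ^ k) i = dg b i ^ k := by
  induction k with
  | zero => simp [dg_one]
  | succ k ih => rw [pow_succ, dg_mul (pow_mem hb k) hb, ih, pow_succ]

theorem mul_inv_mem_aU {a b : (aForm n σ hσ hs).Isom} (ha : a ∈ aB n σ hσ hs)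
    (hb : b ∈ aB n σ hσ hs) (h : ∀ i, dg a i = dg b i) : a * b⁻¹ ∈ aU n σ hσ hs :=
  (mem_aU_iff (mul_mem ha (inv_mem hb))).2 fun i => by
    rw [dg_mul ha (inv_mem hb), h, mul_comm, dg_inv_mul hb]

theorem dg_mul_rev {b : (aForm n σ hσ hs).Isom} (hb : b ∈ aB n σ hσ hs) (i : Fin n) :
    dg b i * σ (dg b i.rev) = 1 := by
  have h1 := Form.Isom.map_B b (Pi.single i 1) (Pi.single i.rev 1)
  have h2 := hb _ _ (single_mem_low (Nat.lt_succ_self (i : ℕ)) (1 : F))
  have h3 := hb _ _ (single_mem_low (Nat.lt_succ_self (i.rev : ℕ)) (1 : F))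
  rw [aForm_B_single, Fin.rev_rev, Pi.single_eq_same, aForm_B, Finset.sum_eq_single i] at h1
  · exact h1
  · intro j _ hj
    have h4 := Fin.val_ne_of_ne hj
    by_cases e : (i : ℕ) + 1 ≤ j
    · rw [h2 j e, zero_mul]
    · rw [h3 j.rev (by simp only [Fin.val_rev]; omega), map_zero, mul_zero]
  · simp

theorem exists_diag {b : (aForm n σ hσ hs).Isom} (hb : b ∈ aB n σ hσ hs) :
    ∃ t : (aForm n σ hσ hs).Isom, ∀ v i, t.1 v i = dg b i * v i := by
  refine ⟨Form.Isom.ofEnd aForm_nondeg (Matrix.toLin' (Matrix.diagonal (dg b)))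
    (Form.unit_isIsom fun x y => ?_), fun v i => ?_⟩
  · rw [aForm_B, aForm_B]
    refine Finset.sum_congr rfl fun i _ => ?_
    simp only [Matrix.toLin'_apply, Matrix.mulVec_diagonal, map_mul]
    linear_combination (x i * σ (y i.rev)) * dg_mul_rev hb i
  · simp [Matrix.mulVec_diagonal]

theorem eichler_mem_aU {k : Fin n} {v : Fin n → F} {l : F} (hv : v ∈ low F n k)
    (hl : l ≠ 0 → k.rev < k) (h1 h2 h3) :
    (aForm n σ hσ hs).eichler (Pi.single k.rev 1) v l h1 h2 h3 ∈ aU n σ hσ hs := by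
  intro i y hy
  rw [Form.eichler_apply, aForm_B_single, Fin.rev_rev]
  have h4 : y k ≠ 0 → (k : ℕ) ≤ i := fun h => by
    by_contra e
    exact h (hy k (by omega))
  have h5 : y k • v ∈ low F n i := by
    by_cases e : y k = 0
    · simp [e]
    · exact Submodule.smul_mem _ _ (low_mono (h4 e) hv)
  have h6 : ((Param.unit σ hσ).ε * (aForm n σ hσ hs).B y v) • Pi.single k.rev (1 : F) ∈
      low F n i := by
    by_cases e : (k.rev : ℕ) < i
    · exact Submodule.smul_mem _ _ (single_mem_low e 1)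
    · rw [aForm_B_low (by rw [Fin.val_rev] at e; omega) hy hv]
      simp
  have h7 : ((Param.unit σ hσ).ε * l * y k) • Pi.single k.rev (1 : F) ∈ low F n i := by
    by_cases e : y k = 0
    · simp [e]
    by_cases e' : l = 0
    · simp [e']
    exact Submodule.smul_mem _ _ (single_mem_low (lt_of_lt_of_le (hl e') (h4 e)) 1)
  convert sub_mem (sub_mem h5 h6) h7 using 1
  abel

omit [Finite F] in
theorem exists_top {v : Fin n → F} (h : v ≠ 0) : ∃ k : Fin n, v k ≠ 0 ∧ v ∈ low F n (k + 1) := by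
  classical
  obtain ⟨k, hk, h1⟩ := Finset.exists_max_image (Finset.univ.filter fun i => v i ≠ 0) id
    (by simpa [Finset.Nonempty, funext_iff] using h)
  refine ⟨k, (Finset.mem_filter.1 hk).2, fun i hi => ?_⟩
  by_contra e
  have := h1 i (by simpa using e)
  simp only [id, Fin.le_def] at this
  omega

omit [Finite F] in
theorem aForm_Q_single (hn : Even n) (i : Fin n) (c : F) :
    (aForm n σ hσ hs).Q (c • Pi.single i 1) = 0 := by
  rw [Form.Q_smul, Form.unit_Q, aForm_B_single, Pi.single_eq_of_ne, mul_zero]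
  intro e
  have := congrArg Fin.val e
  rw [Fin.val_rev] at this
  obtain ⟨m, rfl⟩ := hn
  omega

theorem normalizer_aU_le (hn : Even n) :
    Subgroup.normalizer (aU n σ hσ hs : Set (aForm n σ hσ hs).Isom) ≤ aB n σ hσ hs := by
  intro g hg k
  induction k with
  | zero => intro v hv; rw [low_zero hv, map_zero]; exact zero_mem _
  | succ k ih =>
  intro y hy
  have h1 : ∀ u ∈ aU n σ hσ hs, u.1 (g.1 y) - g.1 y ∈ low F n k := by
    intro u hu
    have := ih _ ((Subgroup.mem_normalizer_iff''.1 hg u).1 hu k y hy)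
    rwa [map_sub, Form.Isom.mul_apply, Form.Isom.mul_apply, Form.Isom.apply_inv] at this
  generalize g.1 y = z at h1
  by_contra h2
  obtain ⟨i, h3, h4⟩ := exists_top (v := z) (fun e => h2 (e ▸ zero_mem _))
  have h5 : k + 1 ≤ i := by
    by_contra e
    exact h2 (low_mono (by omega) h4)
  have hQ : (aForm n σ hσ hs).Q (Pi.single i.rev 1) = 0 := by
    simpa using aForm_Q_single (hs := hs) hn i.rev 1
  let j : Fin n := ⟨k, by omega⟩
  by_cases e : j = i.rev
  · obtain ⟨a, ha⟩ := hs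
    have h6 := h1 _ (eichler_mem_aU (k := i) (v := 0) (l := a - σ a) (zero_mem _)
      (fun _ => by rw [← e, Fin.lt_def]; exact h5) hQ (Form.B_zero_left _ _)
      (by simp [Form.unit_isLam_iff, hσ])) j le_rfl
    rw [Form.eichler_apply, aForm_B_single, Fin.rev_rev, e] at h6
    simp [h3, sub_eq_zero, ha.symm] at h6
  · have h6 := h1 _ (eichler_mem_aU (k := i) (v := Pi.single j 1) (l := 0)
      (single_mem_low h5 1) (fun h => absurd rfl h) hQ (by
        rw [aForm_B_single, Fin.rev_rev, Pi.single_eq_of_ne]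
        intro e
        have := congrArg Fin.val e
        simp only [j] at this
        omega) (Form.isLam_zero_of_Q _ (by simpa using aForm_Q_single (hs := hs) hn j 1))) j le_rfl
    rw [Form.eichler_apply, aForm_B_single, Fin.rev_rev] at h6
    simp [h3, e] at h6

theorem normalizer_aU (hn : Even n) :
    Subgroup.normalizer (aU n σ hσ hs : Set (aForm n σ hσ hs).Isom) = aB n σ hσ hs :=
  le_antisymm (normalizer_aU_le hn) fun _ hb =>
    Subgroup.mem_normalizer_fintype fun _ hu => conj_mem_aU hb hu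

theorem exists_sylow_aU (hn : Even n) (p : ℕ) [Fact p.Prime] [CharP F p] :
    ∃ S : Sylow p (aForm n σ hσ hs).Isom, (S : Subgroup (aForm n σ hσ hs).Isom) = aU n σ hσ hs := by
  obtain ⟨S, hS⟩ := (isPGroup_aU (n := n) (hσ := hσ) (hs := hs) p).exists_le_sylow
  refine ⟨S, le_antisymm ?_ hS⟩
  by_contra h
  have h1 : (aU n σ hσ hs).subgroupOf S < ⊤ := lt_top_iff_ne_top.2 fun e =>
    h (Subgroup.subgroupOf_eq_top.1 e)
  have := S.isPGroup'.isNilpotent
  obtain ⟨x, h2, h3⟩ := SetLike.exists_of_lt (Group.normalizerCondition_of_isNilpotent _ h1)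
  have h4 : x.1 ∈ aB n σ hσ hs := normalizer_aU_le hn (Subgroup.mem_normalizer_fintype fun u hu =>
    (Subgroup.mem_normalizer_iff.1 h2 ⟨u, hS hu⟩).1 hu)
  obtain ⟨k, hk⟩ := S.isPGroup' x
  refine h3 ((mem_aU_iff h4).2 fun i => ?_)
  have h5 := dg_pow h4 i (p ^ k)
  rw [show x.1 ^ p ^ k = 1 from congrArg Subtype.val hk, dg_one] at h5
  have h6 : (dg x.1 i - 1) ^ p ^ k = 0 := by rw [sub_pow_char_pow, ← h5]; simp
  exact sub_eq_zero.1 (pow_eq_zero_iff (pow_ne_zero _ (Fact.out : p.Prime).ne_zero) |>.1 h6)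

theorem exists_coord (hn : Even n) (g : (aForm n σ hσ hs).Isom) (j : ℕ) (hj : 2 * j ≤ n) :
    ∃ u ∈ aU n σ hσ hs, ∃ A : ℕ → Set (Fin n), ∀ k ≤ j, A k ⊆ A j ∧
      ∀ y, y ∈ low F n k ↔ ∀ a ∉ A k, (u * g).1 y a = 0 := by
  classical
  induction j with
  | zero =>
    refine ⟨1, one_mem _, fun _ => ∅, fun k hk => ⟨le_rfl, fun y => ⟨fun h a _ => ?_, fun h => ?_⟩⟩⟩
    · rw [low_zero (low_mono hk h), map_zero, Pi.zero_apply]
    · rw [(map_eq_zero_iff _ (1 * g).1.injective).1 (funext fun a => h a id)]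
      exact zero_mem _
  | succ j ih =>
  obtain ⟨u, hu, A, hA⟩ := ih (by omega)
  generalize hh : u * g = h at hA
  let j' : Fin n := ⟨j, by omega⟩
  have hj' := single_mem_low (F := F) (i := j') (Nat.lt_succ_self j) 1
  set w := h.1 (Pi.single j' 1) with hw
  have h1 : ∀ a ∈ A j, w a.rev = 0 := by
    intro a ha
    rw [← aForm_B_single (hσ := hσ) (hs := hs) w a, hw, Form.Isom.B_left]
    refine aForm_B_low (l := j) (by omega) hj' (((hA j le_rfl).2 _).2 fun b hb => ?_)
    rw [Form.Isom.apply_inv, Pi.single_eq_of_ne (show b ≠ a from fun e => hb (e ▸ ha))]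
  let w' : Fin n → F := fun a => if a ∈ A j then 0 else w a
  have h2 : ∀ a ∉ A j, (w - w') a = 0 := fun a ha => by simp [w', ha]
  have h3 : w' ≠ 0 := by
    intro e
    have := ((hA j le_rfl).2 (Pi.single j' 1)).2 (by simpa [e] using h2) j' le_rfl
    simp at this
  have h4 : (aForm n σ hσ hs).B w' w' = 0 := by
    rw [← aForm_B_low (hσ := hσ) (hs := hs) (by omega) hj' hj', 
      ← Form.Isom.map_B h (Pi.single j' 1), aForm_B, aForm_B]
    refine Finset.sum_congr rfl fun a _ => ?_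
    by_cases e : a ∈ A j
    · simp [w', e, ← hw, h1 a e]
    · by_cases e' : a.rev ∈ A j
      · have := h1 _ e'
        rw [Fin.rev_rev] at this
        simp [w', e, ← hw, this]
      · simp [w', e, e', ← hw]
  obtain ⟨k, hk, hk'⟩ := exists_top h3
  have hkA : k ∉ A j := fun e => hk (if_pos e)
  have hkr : k.rev ≠ k := by
    intro e
    have := congrArg Fin.val e
    rw [Fin.val_rev] at this
    obtain ⟨m, rfl⟩ := hn
    omega
  set z := (w' k)⁻¹ • w' with hz
  have hzk : z k = 1 := by simp [hz, hk]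
  have hz' : z ∈ low F n (k + 1) := Submodule.smul_mem _ _ hk'
  have hzz : (aForm n σ hσ hs).B z z = 0 := by
    rw [hz, Form.B_smul_left, Form.B_smul_right, h4, mul_zero, mul_zero]
  set v := z - Pi.single k 1 - z k.rev • Pi.single k.rev (1 : F) with hv
  have hvk : v k = 0 := by simp [hv, hzk, hkr.symm]
  have hvr : v k.rev = 0 := by simp [hv, hkr]
  have hv' : v ∈ low F n k := by
    intro a ha
    by_cases e : a = k
    · rw [e, hvk]
    by_cases e' : a = k.rev
    · rw [e', hvr]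
    have := Fin.val_ne_of_ne e
    simp [hv, e, e', hz' a (by omega)]
  have hQ : (aForm n σ hσ hs).Q (Pi.single k.rev 1) = 0 := by
    simpa using aForm_Q_single (hs := hs) hn k.rev 1
  have hl : (aForm n σ hσ hs).IsLam v (-z k.rev) := by
    have e : z = v + Pi.single k 1 + z k.rev • Pi.single k.rev (1 : F) := by rw [hv]; abel
    rw [e] at hzz
    simp only [Form.B_add_left, Form.B_add_right, Form.B_smul_left, Form.unit_B_smul_right,
      aForm_B_single, aForm_single_B, Fin.rev_rev, hvk, hvr, Pi.single_eq_same,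
      Pi.single_eq_of_ne hkr, Pi.single_eq_of_ne hkr.symm, map_zero] at hzz
    rw [Form.unit_isLam_iff, map_neg]
    linear_combination -hzz
  set x := (aForm n σ hσ hs).eichler (Pi.single k.rev 1) v _ hQ
    (by rw [aForm_B_single, Fin.rev_rev, hvk]) hl with hx
  have hxU : x ∈ aU n σ hσ hs := eichler_mem_aU hv' (fun h0 => by
    by_contra e
    refine h0 (neg_eq_zero.2 (hz' _ ?_))
    have := Fin.val_ne_of_ne hkr
    rw [Fin.lt_def] at e
    omega) _ _ _
  have hxk : x.1 (Pi.single k 1) = z := by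
    rw [hx, Form.eichler_apply, aForm_B_single, aForm_single_B, Fin.rev_rev, hvr, hv]
    simp only [Pi.single_eq_same, map_zero, Param.unit_ε]
    module
  have hxs : ∀ s : Fin n → F, (∀ a ∉ A j, s a = 0) → x.1 s = s := by
    intro s h5
    refine Form.eichler_apply_of_orth _ _ _ _ _ _ _ (by rw [aForm_B_single, Fin.rev_rev, h5 k hkA]) ?_
    rw [aForm_B]
    refine Finset.sum_eq_zero fun a _ => ?_
    by_cases e : a ∈ A j
    · have h6 : w' a.rev = 0 := by simp [w', h1 a e]
      have h7 : a.rev ≠ k := fun e' => hk (e' ▸ h6)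
      have h8 : a.rev ≠ k.rev := fun e' => hkA (Fin.rev_injective e' ▸ e)
      simp [hv, hz, h6, h7, h8]
    · rw [h5 a e, zero_mul]
  have hxs' : ∀ s : Fin n → F, (∀ a ∉ A j, s a = 0) → x⁻¹.1 s = s := fun s h5 => by
    conv_lhs => rw [← hxs s h5, Form.Isom.inv_apply]
  have hxw : x⁻¹.1 w = (w - w') + w' k • Pi.single k 1 := by
    rw [← hxs' _ h2, ← Form.Isom.inv_apply x (Pi.single k 1), hxk, ← map_smul, ← map_add, hz,
      smul_smul, mul_inv_cancel₀ hk, one_smul, sub_add_cancel]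
  refine ⟨x⁻¹ * u, mul_mem (inv_mem hxU) hu, Function.update A (j + 1) (insert k (A j)),
    fun i hi => ?_⟩
  rw [mul_assoc, hh, Function.update_self]
  simp only [Form.Isom.mul_apply]
  rcases hi.eq_or_lt with rfl | hi
  · rw [Function.update_self]
    refine ⟨le_rfl, fun y => ⟨fun hy a ha => ?_, fun hy => ?_⟩⟩
    · rw [Set.mem_insert_iff, not_or] at ha
      have h5 := ((hA j le_rfl).2 _).1 (sub_single_mem_low (i := j') hy)
      have h6 := congrFun (hxs' _ h5) a
      rw [h5 a ha.2, map_sub, map_sub, map_smul, map_smul, ← hw, hxw] at h6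
      simpa [ha.1, if_neg ha.2, show w' a = w a from if_neg ha.2] using h6
    · have h5 : ∀ a ∉ A j, x⁻¹.1 (h.1 (y - (x⁻¹.1 (h.1 y) k * (w' k)⁻¹) • Pi.single j' (1 : F)))
          a = 0 := by
        intro a ha
        rw [map_sub, map_sub, map_smul, map_smul, ← hw, hxw]
        by_cases e : a = k
        · subst e
          simp [h2 a ha, hk]
        · have := hy a (by simp [e, ha])
          simp only [Pi.sub_apply, this, Pi.smul_apply, Pi.add_apply, Pi.single_eq_of_ne e,
            show w' a = w a from if_neg ha]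
          simp
      have h6 := hxs _ h5
      rw [Form.Isom.apply_inv] at h6
      rw [← h6] at h5
      simpa using add_mem (low_mono j.le_succ (((hA j le_rfl).2 _).2 h5))
        (Submodule.smul_mem _ (x⁻¹.1 (h.1 y) k * (w' k)⁻¹) hj')
  · rw [Function.update_of_ne hi.ne]
    have h5 := hA i (by omega)
    refine ⟨h5.1.trans (Set.subset_insert _ _), fun y => (h5.2 y).trans ⟨fun h6 => ?_, fun h6 => ?_⟩⟩
    · rwa [hxs' _ fun a ha => h6 a fun e => ha (h5.1 e)]
    · have h7 := hxs _ fun a ha => h6 a fun e => ha (h5.1 e)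
      rw [Form.Isom.apply_inv] at h7
      rwa [← h7] at h6

theorem exists_borel (hn : Even n) (g : (aForm n σ hσ hs).Isom) {b : (aForm n σ hσ hs).Isom}
    (hb : b ∈ aB n σ hσ hs) : ∃ u ∈ aU n σ hσ hs, g⁻¹ * (u⁻¹ * b) * g ∈ aB n σ hσ hs := by
  obtain ⟨m, rfl⟩ := hn
  obtain ⟨u, hu, A, hA⟩ := exists_coord ⟨m, rfl⟩ g m (by omega)
  obtain ⟨t, ht⟩ := exists_diag hb
  have h1 : t ∈ aB (m + m) σ hσ hs := fun k v hv i hi => by rw [ht, hv i hi, mul_zero]
  have h2 := aU_le_aB hu
  refine ⟨b * (u⁻¹ * t * u)⁻¹, mul_inv_mem_aU hb (mul_mem (mul_mem (inv_mem h2) h1) h2) fun i => ?_,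
    ?_⟩
  · rw [dg_mul (mul_mem (inv_mem h2) h1) h2, dg_mul (inv_mem h2) h1, mul_right_comm, dg_inv_mul h2,
      one_mul, dg, dg, ht, Pi.single_eq_same, mul_one, dg]
  have h3 : g⁻¹ * ((b * (u⁻¹ * t * u)⁻¹)⁻¹ * b) * g = (u * g)⁻¹ * t * (u * g) := by group
  rw [h3]
  have h4 : ∀ k ≤ m, ∀ v ∈ low F (m + m) k, ((u * g)⁻¹ * t * (u * g)).1 v ∈ low F (m + m) k := by
    intro k hk v hv
    refine ((hA k hk).2 _).2 fun a ha => ?_
    rw [Form.Isom.mul_apply _ (u * g), Form.Isom.mul_apply _ t, Form.Isom.apply_inv, ht,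
      ((hA k hk).2 _).1 hv a ha, mul_zero]
  intro k v hv
  by_cases e : k ≤ m
  · exact h4 k e v hv
  by_cases e' : m + m ≤ k
  · exact mem_low_top e' _
  rw [show k = m + m - (m + m - k) by omega, ← aForm_orth_low (hσ := hσ) (hs := hs)] at hv ⊢
  exact Form.Isom.orth_invariant _ (h4 _ (by omega)) v hv

theorem pronormal_aForm (hn : Even n) (p : ℕ) [Fact p.Prime] [CharP F p]
    {H : Subgroup (aForm n σ hσ hs).Isom} (hH : ¬ p ∣ H.index) : Cfsg.IsPronormal H := by
  obtain ⟨S, hS⟩ := Alt.exists_sylow_le_of_not_dvd_index hH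
  obtain ⟨T, hT⟩ := exists_sylow_aU (hσ := hσ) (hs := hs) hn p
  obtain ⟨a, rfl⟩ := MulAction.exists_smul_eq (aForm n σ hσ hs).Isom T S
  have h1 : (T : Subgroup (aForm n σ hσ hs).Isom) ≤ H.comap (MulAut.conj a).toMonoidHom :=
    Subgroup.map_le_iff_le_comap.1 hS
  refine GLn.pronormal_conj a (GLn.pronormal_of_normalizer_le T h1
    (le_normalizer_of_borel T ?_ ?_ h1))
  · rw [hT, normalizer_aU hn]
    intro a ha b hb
    rw [show a * b * a⁻¹ * b⁻¹ = a * b * (b * a)⁻¹ by group]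
    exact mul_inv_mem_aU (mul_mem ha hb) (mul_mem hb ha) fun i => by
      rw [dg_mul ha hb, dg_mul hb ha, mul_comm]
  · rw [hT, normalizer_aU hn]
    exact fun g b hb => exists_borel hn g hb

end Cfsg.Agent.Forms
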