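import Cfsg.Agent.Lib.Forms.Tp
import Cfsg.Agent.Lib.Forms.Cyclic

/-!
Determinants of the unitary transformations commuting with a given one.
-/

set_option autoImplicit false

namespace Cfsg.Agent.Forms

open Module Polynomial GLn

variable {F : Type*} [Field F] {V W : Type*} [AddCommGroup V] [Module F V]
  [AddCommGroup W] [Module F W]

theorem pow_mul_mem_of_not_dvd (I : Ideal F[X]) {r t x : F[X]} (hr : Irreducible r) {i : ℕ}
    (h1 : r ^ (i + 1) * t ∈ I) (hx : x ∈ I) (h2 : ¬ r ^ (i + 1) ∣ x) : r ^ i * t ∈ I := by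
  obtain ⟨n, a, ha, rfl⟩ := WfDvdMonoid.max_power_factor (a₀ := x) (fun e => h2 (e ▸ dvd_zero _)) hr
  obtain ⟨k, rfl⟩ : ∃ k, i = n + k := Nat.exists_eq_add_of_le (by
    by_contra e
    exact h2 ((pow_dvd_pow r (by omega)).mul_right a))
  obtain ⟨α, β, h⟩ := hr.coprime_iff_not_dvd.2 ha
  convert add_mem (I.mul_mem_left α h1) (I.mul_mem_left (β * r ^ k * t) hx) using 1
  linear_combination (-r ^ (n + k) * t) * h

theorem aeval_mem {φ : V →ₗ[F] V} {S : Submodule F V} (h : ∀ x ∈ S, φ x ∈ S) (r : F[X]) :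
    ∀ x ∈ S, aeval φ r x ∈ S := by
  induction r using Polynomial.induction_on with
  | C a => exact fun x hx => by simpa using S.smul_mem a hx
  | add r s hr hs => exact fun x hx => by simpa using add_mem (hr x hx) (hs x hx)
  | monomial n a h' =>
    intro x hx
    rw [pow_succ, ← mul_assoc, map_mul, aeval_X]
    exact h' _ (h x hx)

theorem commute_aeval {A : Type*} [Ring A] [Algebra F A] {x y : A} (h : Commute x y) (r : F[X]) :
    Commute x (aeval y r) := by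
  rw [aeval_eq_sum_range]
  exact Commute.sum_right _ _ _ fun i _ => (h.pow_right i).smul_right _

theorem norm_mk_mul {r t : F[X]} (hr : r.Monic) (ht : t.Monic) (a : F[X]) :
    Algebra.norm F (AdjoinRoot.mk (r * t) a) =
      Algebra.norm F (AdjoinRoot.mk r a) * Algebra.norm F (AdjoinRoot.mk t a) := by
  rw [norm_mk_eq_resultant (hr.mul ht), norm_mk_eq_resultant hr, norm_mk_eq_resultant ht,
    ← resultant_mul_left _ _ _ _ le_rfl, hr.natDegree_mul ht]

theorem exists_norm_mk_eq [Finite F] {r t : F[X]} (hr : r.Monic) (hi : Irreducible r)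
    (ht : t.Monic) (hc : IsCoprime r t) (c : F) :
    ∃ a, Algebra.norm F (AdjoinRoot.mk (r * t) a) = c := by
  haveI := Fact.mk hi
  haveI : Module.Finite F (AdjoinRoot r) := hr.finite_adjoinRoot
  haveI : Finite (AdjoinRoot r) := Module.finite_of_finite F
  obtain ⟨u, hu⟩ := FiniteField.norm_surjective F (AdjoinRoot r) c
  obtain ⟨a, rfl⟩ := AdjoinRoot.mk_surjective u
  obtain ⟨α, β, h⟩ := hc
  refine ⟨a * β * t + α * r, ?_⟩
  rw [norm_mk_mul hr ht, (AdjoinRoot.mk_eq_mk (g := a * β * t + α * r) (h := a)).2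
    ⟨α - a * α, by linear_combination a * h⟩, hu,
    (AdjoinRoot.mk_eq_mk (g := a * β * t + α * r) (h := 1)).2
    ⟨a * β - β, by linear_combination h⟩, map_one, map_one, mul_one]

/-- evaluation of polynomials at a vector -/
noncomputable def evalAt (φ : V →ₗ[F] V) (v : V) : F[X] →ₗ[F] V :=
  LinearMap.applyₗ v ∘ₗ (aeval φ).toLinearMap

theorem evalAt_apply (φ : V →ₗ[F] V) (v : V) (r : F[X]) : evalAt φ v r = aeval φ r v := rfl

namespace Form

variable {σ : F →+* F} {hσ : ∀ a, σ (σ a) = a} {f : Form (Param.unit σ hσ) V}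

theorem exists_B_self_ne (hs : ∃ a, σ a ≠ a) (φ : V →ₗ[F] V) {S : Submodule F V} {u w : V}
    (hu : u ∈ S) (hw : w ∈ S) (h : f.B (φ u) w ≠ 0) : ∃ v ∈ S, f.B (φ v) v ≠ 0 := by
  by_contra h0
  push Not at h0
  obtain ⟨a, ha⟩ := hs
  have h1 := h0 _ (add_mem hu hw)
  have h2 := h0 _ (add_mem (S.smul_mem a hu) hw)
  simp only [map_add, map_smul, unit_B_smul_right, h0 u hu, h0 w hw,
    LinearMap.add_apply, LinearMap.smul_apply, smul_eq_mul] at h1 h2
  exact mul_ne_zero (sub_ne_zero.2 ha.symm) h (by linear_combination h2 - σ a * h1)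

variable [FiniteDimensional F V]

theorem Nondeg.exists_of_normal (hf : f.Nondeg) {y z : V →ₗ[F] V}
    (h : ∀ u v, f.B (y u) v = f.B u (z v)) (hc : Commute y z) (hd : LinearMap.det y ≠ 0) :
    ∃ k : f.Isom, (∀ v, k.1 (z v) = y v) ∧
      (f.detHom k : F) * σ (LinearMap.det y) = LinearMap.det y := by
  have h1 : LinearMap.det z = σ (LinearMap.det y) := by rw [hf.det_adj h]; exact (hσ _).symm
  let z' := LinearMap.equivOfDetNeZero z (h1 ▸ (map_ne_zero σ).2 hd)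
  have h2 : ∀ v, z' v = z v := fun _ => rfl
  refine ⟨Isom.ofEnd hf (y ∘ₗ z'.symm) (unit_isIsom fun u v => ?_), fun v => ?_, ?_⟩
  · obtain ⟨u, rfl⟩ := z'.surjective u
    obtain ⟨v, rfl⟩ := z'.surjective v
    simp only [LinearMap.comp_apply, LinearEquiv.coe_coe, z'.symm_apply_apply]
    rw [h2, h2, h, f.unit_symm (z v) (z u), ← h (z v) u, ← f.unit_symm]
    exact congrArg _ (LinearMap.congr_fun hc.eq v).symm
  · rw [Isom.ofEnd_apply, ← h2]
    simp
  · rw [coe_detHom, ← h1, ← LinearMap.det_comp]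
    congr 1
    ext v
    rw [LinearMap.comp_apply, ← h2]
    exact congrArg y (z'.symm_apply_apply v)

theorem Nondeg.exists_cyc (hf : f.Nondeg) (hs : ∃ a, σ a ≠ a) (g : f.Isom) {r t : F[X]} {i : ℕ}
    (hr : (r, i + 1) ∈ tp (g.1 : V →ₗ[F] V)) (hc : IsCoprime r t)
    (ht : (t = 1 ∧ dl (Param.unit σ hσ) r = r) ∨ t = dl (Param.unit σ hσ) r) :
    ∃ v, aeval (g.1 : V →ₗ[F] V) ((r * t) ^ (i + 1)) v = 0 ∧
      ∀ x : F[X], (∀ y : F[X], f.B (aeval (g.1 : V →ₗ[F] V) x v) (aeval (g.1 : V →ₗ[F] V) y v) = 0) →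
        (r * t) ^ (i + 1) ∣ x := by
  obtain ⟨hm, hi, -⟩ : r.Monic ∧ Irreducible r ∧ _ := valid_tp _ _ hr
  have h0 : r.coeff 0 ≠ 0 := coeff_zero_ne_of_mem_tp g.1 hr
  have h0' : t.coeff 0 ≠ 0 := by
    rcases ht with ⟨rfl, -⟩ | rfl
    · simp
    · exact coeff_zero_dl_ne hm h0
  have hz : ∀ a b, (r ^ a * t ^ b).coeff 0 ≠ 0 := fun a b => by
    rw [← constantCoeff_apply, map_mul, map_pow, map_pow]
    exact mul_ne_zero (pow_ne_zero _ h0) (pow_ne_zero _ h0')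
  have hd : dl (Param.unit σ hσ) (r ^ (i + 1) * t ^ (i + 1)) = r ^ (i + 1) * t ^ (i + 1) := by
    rw [map_mul, map_pow, map_pow]
    rcases ht with ⟨rfl, h⟩ | rfl
    · rw [h, map_one]
    · rw [dl_dl hm h0, mul_comm]
  rw [mul_pow]
  obtain ⟨w, h1, h2⟩ := exists_of_mem_tp hr
  have h3 : w ∈ LinearMap.ker (aeval (g.1 : V →ₗ[F] V) (r ^ (i + 1) * t ^ (i + 1))) := by
    rw [LinearMap.mem_ker, mul_comm, map_mul, Module.End.mul_apply, h1, map_zero]
  have h4 : aeval (g.1 : V →ₗ[F] V) (r ^ i * t ^ (i + 1)) w ∉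
      f.orth (LinearMap.ker (aeval (g.1 : V →ₗ[F] V) (r ^ (i + 1) * t ^ (i + 1)))) := by
    rw [← hd, hf.orth_ker_aeval g (hz _ _)]
    rintro ⟨z, hz⟩
    obtain ⟨α, β, h⟩ := hc.pow (m := i + 1) (n := i + 1)
    refine h2 ⟨aeval (g.1 : V →ₗ[F] V) (β * t ^ (i + 1)) z, ?_⟩
    have e1 : r ^ (i + 1) * (β * t ^ (i + 1)) = β * (r ^ (i + 1) * t ^ (i + 1)) := by ring
    have e2 : r ^ i = β * (r ^ i * t ^ (i + 1)) + α * r ^ i * r ^ (i + 1) := by
      linear_combination -r ^ i * h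
    rw [← Module.End.mul_apply, ← map_mul, e1, map_mul, Module.End.mul_apply, hz]
    conv_rhs => rw [e2, map_add, LinearMap.add_apply, map_mul _ (α * _), Module.End.mul_apply, h1,
      map_zero, add_zero, map_mul _ β, Module.End.mul_apply]
  rw [mem_orth] at h4
  push Not at h4
  obtain ⟨u, hu, h4⟩ := h4
  obtain ⟨v, hv, h5⟩ := exists_B_self_ne hs _ h3 hu h4
  refine ⟨v, hv, fun x hx => ?_⟩
  let S := LinearMap.range (evalAt (g.1 : V →ₗ[F] V) v)
  have hS : ∀ x ∈ S, g.1 x ∈ S := by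
    rintro _ ⟨y, rfl⟩
    exact ⟨X * y, by simp [evalAt_apply]⟩
  let I : Ideal F[X] :=
    { carrier := {x | aeval (g.1 : V →ₗ[F] V) x v ∈ f.orth S}
      add_mem' := fun ha hb => by simpa using add_mem ha hb
      zero_mem' := by simp
      smul_mem' := fun c x hx => by
        simpa using aeval_mem (φ := (g.1 : V →ₗ[F] V)) (Isom.orth_invariant g hS) c _ hx }
  have hI : x ∈ I := by
    rintro _ ⟨y, rfl⟩
    exact hx y
  have hI' : r ^ (i + 1) * t ^ (i + 1) ∈ I := by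
    change aeval (g.1 : V →ₗ[F] V) (r ^ (i + 1) * t ^ (i + 1)) v ∈ f.orth S
    rw [LinearMap.mem_ker.1 hv]
    exact zero_mem _
  refine (hc.pow).mul_dvd ?_ ?_
  · by_contra h6
    exact h5 (pow_mul_mem_of_not_dvd I hi hI' hI h6 v ⟨1, by simp [evalAt_apply]⟩)
  · rcases ht with ⟨rfl, -⟩ | rfl
    · simp
    by_contra h6
    have h7 := pow_mul_mem_of_not_dvd I (t := r ^ (i + 1)) (irreducible_dl hm h0 hi)
      (by rwa [mul_comm] at hI') hI h6
    have h9 : ∀ k : ℕ, (g ^ k).1 v ∈ S := fun k =>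
      ⟨X ^ k, by simp [evalAt_apply, Module.End.pow_apply, LinearEquiv.pow_apply]⟩
    have h8 := Isom.B_aeval_dl g (hz i (i + 1))
      ((g ^ (r ^ i * dl (Param.unit σ hσ) r ^ (i + 1)).natDegree).1 v) v
    rw [inv_pow, Isom.inv_apply, map_mul (dl _), map_pow, map_pow, dl_dl hm h0,
      mem_orth'.1 h7 _ (h9 _), mul_zero] at h8
    exact h5 h8

theorem Nondeg.exists_commute_det_tp [Finite F] (hf : f.Nondeg) (hs : ∃ a, σ a ≠ a) (g : f.Isom)
    {x : F[X] × ℕ} (hx : x ∈ tp (g.1 : V →ₗ[F] V)) {c : F} (hc : c ≠ 0) :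
    ∃ k : f.Isom, Commute k g ∧ (f.detHom k : F) = (c / σ c) ^ x.2 := by
  obtain ⟨r, j⟩ := x
  obtain ⟨hm, hi, hj⟩ : r.Monic ∧ Irreducible r ∧ 0 < j := valid_tp _ _ hx
  obtain ⟨i, rfl⟩ : ∃ i, j = i + 1 := ⟨j - 1, by omega⟩
  have h0 : r.coeff 0 ≠ 0 := coeff_zero_ne_of_mem_tp g.1 hx
  obtain ⟨t, htm, hco, ht⟩ : ∃ t : F[X], t.Monic ∧ IsCoprime r t ∧
      ((t = 1 ∧ dl (Param.unit σ hσ) r = r) ∨ t = dl (Param.unit σ hσ) r) := by
    by_cases e : dl (Param.unit σ hσ) r = r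
    · exact ⟨1, monic_one, isCoprime_one_right, Or.inl ⟨rfl, e⟩⟩
    · exact ⟨_, monic_dl h0, hi.coprime_iff_not_dvd.2 fun h => e (eq_of_monic_of_associated
        (monic_dl h0) hm (hi.associated_of_dvd (irreducible_dl hm h0 hi) h).symm), Or.inr rfl⟩
  obtain ⟨v, h1, h2⟩ := hf.exists_cyc hs g hx hco ht
  obtain ⟨a, ha⟩ := exists_norm_mk_eq hm hi htm hco c
  have h3 := norm_mk_pow (hm.mul htm) (i + 1) a
  have hh := (hm.mul htm).pow (i + 1)
  rw [ha] at h3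
  generalize (r * t) ^ (i + 1) = h at h1 h2 h3 hh
  haveI := hh.finite_adjoinRoot
  let φ := evalAt (g.1 : V →ₗ[F] V) v ∘ₗ AdjoinRoot.modByMonicHom hh
  have hφ : ∀ x, φ (AdjoinRoot.mk h x) = aeval (g.1 : V →ₗ[F] V) x v := fun x => by
    conv_rhs => rw [← modByMonic_add_div x h, map_add, mul_comm h, map_mul, LinearMap.add_apply,
      Module.End.mul_apply, h1, map_zero, add_zero]
    rfl
  have hg : ∀ w, φ (rootMul h w) = g.1 (φ w) := fun w => by
    obtain ⟨x, rfl⟩ := AdjoinRoot.mk_surjective w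
    rw [rootMul, LinearMap.mulLeft_apply, ← AdjoinRoot.mk_X, ← map_mul, hφ, hφ]
    simp
  have hn : (f.comap φ).Nondeg := fun w hw => by
    obtain ⟨x, rfl⟩ := AdjoinRoot.mk_surjective w
    exact AdjoinRoot.mk_eq_zero.2 (h2 x fun y => by rw [← hφ, ← hφ]; exact hw _)
  let g' := Isom.ofEnd hn (rootMul h) (unit_isIsom fun x y => by
    rw [comap_B, hg, hg, Isom.map_B, comap_B])
  have hg' : (g'.1 : AdjoinRoot h →ₗ[F] AdjoinRoot h) = rootMul h := rfl
  have h4 : LinearMap.det (aeval (g'.1 : AdjoinRoot h →ₗ[F] AdjoinRoot h) a) = c ^ (i + 1) := by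
    rw [hg', rootMul, aeval_mulLeft, AdjoinRoot.aeval_eq, ← h3, Algebra.norm_apply]
    rfl
  have h5 : Commute (g'.1 : AdjoinRoot h →ₗ[F] AdjoinRoot h) (g'⁻¹.1 : AdjoinRoot h →ₗ[F] _) :=
    LinearMap.ext fun w => (Isom.apply_inv g' w).trans (Isom.inv_apply g' w).symm
  obtain ⟨k, h6, h7⟩ := hn.exists_of_normal (Isom.B_aeval g' a)
    (commute_aeval (commute_aeval h5.symm a).symm _) (h4 ▸ pow_ne_zero _ hc)
  refine ⟨hf.extHom hn φ (isIsom_comap f φ) k,
    hf.commute_extHom hn φ _ k g fun w => ⟨g'.1 w, (hg w).symm, ?_⟩, ?_⟩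
  · rw [← hg]
    congr 1
    obtain ⟨u, rfl⟩ : ∃ u, aeval (g'⁻¹.1 : AdjoinRoot h →ₗ[F] _) (a.map σ) u = w := by
      obtain ⟨u, hu⟩ := (LinearMap.equivOfDetNeZero _ (h4 ▸ pow_ne_zero _ hc)).surjective (k.1 w)
      exact ⟨u, k.1.injective ((h6 u).trans hu)⟩
    have h8 := LinearMap.congr_fun (commute_aeval h5 (a.map σ)).eq u
    simp only [Module.End.mul_apply, LinearEquiv.coe_coe] at h8
    rw [h8]
    exact ((h6 _).trans ((Isom.aeval_comm g' a u).trans (congrArg g'.1 (h6 u).symm))).symm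
  · rw [hf.detHom_extHom, div_pow, eq_div_iff (pow_ne_zero _ ((map_ne_zero σ).2 hc)), ← map_pow,
      ← h4, h7]

end Form

end Cfsg.Agent.Forms
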